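import Cfsg.Agent.Lib.PerfectCompl.Main
import Cfsg.Agent.Lib.Perm.AutAlternating

/-!
# Non-solvable groups acting fixed point freely
-/

set_option autoImplicit false
set_option linter.style.haveILetI false
set_option linter.unusedSectionVars false

open scoped Classical commutatorElement

namespace CfsgLib.PerfectCompl

open CfsgLib.FrobCompl

universe u

local notation "SL25" => Matrix.SpecialLinearGroup (Fin 2) (ZMod 5)

theorem card_center_SL25 : Nat.card (Subgroup.center SL25) = 2 := by
  rw [CfsgLib.Classical.card_center_SL, Fintype.card_fin, Nat.card_zmod]; rfl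

theorem exists_order_four_SL25 : ∃ g : SL25, orderOf g = 4 := by
  refine ⟨⟨!![0, -1; 1, 0], by decide⟩, orderOf_eq_prime_pow (p := 2) (n := 1) ?_ ?_⟩ <;> decide

variable {G : Type u} [Group G] [Finite G] (hG : HasFpf G)
include hG

theorem mem_zpowers_of_commute {p : ℕ} [hp : Fact p.Prime] {x y : G} (hx : orderOf x = p) (hy : orderOf y = p)
    (hc : Commute x y) : x ∈ Subgroup.zpowers y := by
  haveI : Nontrivial G := ⟨⟨x, 1, fun h => hp.out.one_lt.ne (by rw [← hx, h, orderOf_one])⟩⟩
  obtain ⟨L, _, _, A, V, _, f, hf, hfA, hV, hAV, hfpf⟩ := ambient hG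
  have hN : f x ∈ Subgroup.normalizer ((Subgroup.zpowers (f y) : Subgroup L) : Set L) := by
    refine Subgroup.mem_normalizer_fintype fun w hw => ?_
    obtain ⟨j, rfl⟩ := Subgroup.mem_zpowers_iff.mp hw
    rw [commute_iff_conj.mp ((hc.map f).zpow_right j)]
    exact ⟨j, rfl⟩
  have h := (mem_zpowers_or_commute hp.out hp.out hV hAV hfpf (hfA ▸ ⟨x, rfl⟩) (hfA ▸ ⟨y, rfl⟩)
    ((orderOf_injective f hf x).trans hx) ((orderOf_injective f hf y).trans hy) hN).1 rfl
  obtain ⟨i, hi⟩ := h
  exact ⟨i, hf ((map_zpow f y i).trans hi)⟩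

theorem cyclic_sylow_odd {p : ℕ} [Fact p.Prime] (hp2 : p ≠ 2) {K : Subgroup G} (P : Sylow p K) :
    IsCyclic (P : Subgroup K) := by
  rcases subsingleton_or_nontrivial G with hs | hs
  · infer_instance
  obtain ⟨L, _, _, A, V, _, f, hf, hfA, hV, hAV, hfpf⟩ := ambient hG
  have hinj : Function.Injective (f.comp K.subtype) := hf.comp K.subtype_injective
  have hle : (P : Subgroup K).map (f.comp K.subtype) ≤ A := by
    rw [← Subgroup.map_map, ← hfA]; exact Subgroup.map_le_range f _
  have hc := (sylow_structure hV hAV hfpf (P.2.map _) hle).1 hp2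
  exact (Subgroup.equivMapOfInjective _ _ hinj).isCyclic.mpr hc

omit hG in
theorem exists_perfect_core (hns : ¬ Group.IsSolvable G) :
    ∃ D : Subgroup G, D.Normal ∧ D ≠ ⊥ ∧ commutator D = ⊤ := by
  have hanti : ∀ n, derivedSeries G (n + 1) ≤ derivedSeries G n := fun n => by
    rw [derivedSeries_succ]; exact Subgroup.commutator_le_left _ _
  obtain ⟨n, hn⟩ : ∃ n, derivedSeries G (n + 1) = derivedSeries G n := by
    by_contra hall
    push Not at hall
    have hlt : ∀ n, Nat.card (derivedSeries G (n + 1)) < Nat.card (derivedSeries G n) := fun n => by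
      rcases (Subgroup.card_le_of_le (hanti n)).lt_or_eq with h | h
      · exact h
      · exact absurd (Subgroup.eq_of_le_of_card_ge (hanti n) h.ge) (hall n)
    have : ∀ n, Nat.card (derivedSeries G n) + n ≤ Nat.card (derivedSeries G 0) := fun n => by
      induction n with
      | zero => simp
      | succ n ih => have := hlt n; omega
    have := this (Nat.card (derivedSeries G 0))
    have hpos : 0 < Nat.card (derivedSeries G (Nat.card (derivedSeries G 0))) := Nat.card_pos
    omega
  refine ⟨derivedSeries G n, derivedSeries_normal G n, fun h => hns ⟨⟨n, h⟩⟩, ?_⟩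
  apply Subgroup.map_injective (derivedSeries G n).subtype_injective
  rw [commutator_def, Subgroup.map_commutator, ← MonoidHom.range_eq_map, Subgroup.range_subtype,
    ← derivedSeries_succ, hn]

/-- The structure of a non-solvable group acting fixed point freely. -/
theorem nonsolvable_structure (hns : ¬ Group.IsSolvable G) :
    ∃ (D M : Subgroup G) (θ : G →* Equiv.Perm (Fin 5)), D.Normal ∧ M.Normal ∧
      Nonempty (D ≃* SL25) ∧ D ⊓ M = ⊥ ∧ (∀ d ∈ D, ∀ m ∈ M, d * m = m * d) ∧
      (Nat.card M).Coprime 30 ∧ (∀ (p : ℕ) [Fact p.Prime] (P : Sylow p M), IsCyclic (P : Subgroup M)) ∧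
      θ.ker = Subgroup.centralizer (D : Set G) ∧ Nat.card θ.ker = 2 * Nat.card M ∧
      (∀ σ ∈ alternatingGroup (Fin 5), σ ∈ D.map θ) ∧ θ.ker ≤ D ⊔ M ∧ (D ⊔ M).Normal ∧
      ((D ⊔ M).index = 1 ∨ (D ⊔ M).index = 2) := by
  haveI := Fact.mk Nat.prime_two
  obtain ⟨D, hDn, hD1, hDperf⟩ := exists_perfect_core hns
  haveI := hDn
  haveI : Nontrivial D := (Subgroup.nontrivial_iff_ne_bot D).mpr hD1
  have hDf : HasFpf D := hG.of_injective D.subtype D.subtype_injective
  obtain ⟨e⟩ := iso_of_perfect_fpf hDf hDperf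
  set Z := Subgroup.center D with hZdef
  have hZcard : Nat.card Z = 2 := by
    rw [← card_center_SL25]
    refine Nat.card_congr (Equiv.subtypeEquiv e.toEquiv fun d => ?_)
    rw [Subgroup.mem_center_iff, Subgroup.mem_center_iff]
    refine ⟨fun h g => ?_, fun h g => e.injective (by rw [map_mul, map_mul]; exact h (e g))⟩
    obtain ⟨g, rfl⟩ := e.surjective g
    show e g * e d = e d * e g
    rw [← map_mul, ← map_mul, h g]
  have hDcard : Nat.card D = 120 := by
    rw [Nat.card_congr e.toEquiv, CfsgLib.Classical.card_SL_two, ZMod.card]; norm_num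
  have hQ60 : Nat.card (D ⧸ Z) = 60 := by
    have h := Subgroup.card_eq_card_quotient_mul_card_subgroup Z
    rw [hDcard, hZcard] at h
    omega
  haveI : Nontrivial (D ⧸ Z) := Finite.one_lt_card_iff_nontrivial.mp (by omega)
  have hperfQ : commutator (D ⧸ Z) = ⊤ := by
    rw [commutator_def, ← Subgroup.map_top_of_surjective (QuotientGroup.mk' Z) (QuotientGroup.mk'_surjective Z),
      ← Subgroup.map_commutator, ← commutator_def, hDperf]
  haveI := CfsgLib.AEightSub.simple_of_sixty (not_solvable_of_perfect hperfQ) hQ60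
  obtain ⟨eA⟩ := Cfsg.Agent.S0494.result hQ60
  -- the action on `D ⧸ Z`
  have hmap : ∀ φ : MulAut D, Z.map φ.toMonoidHom = Z := fun φ =>
    Subgroup.characteristic_iff_map_eq.mp inferInstance φ
  let ψ : MulAut D →* MulAut (D ⧸ Z) :=
    { toFun := fun φ => QuotientGroup.congr Z Z φ (hmap φ)
      map_one' := MulEquiv.ext fun x => by
        obtain ⟨x, rfl⟩ := QuotientGroup.mk'_surjective Z x
        rfl
      map_mul' := fun φ φ' => MulEquiv.ext fun x => by
        obtain ⟨x, rfl⟩ := QuotientGroup.mk'_surjective Z x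
        rfl }
  let cn : Equiv.Perm (Fin 5) ≃* MulAut (alternatingGroup (Fin 5)) :=
    MulEquiv.ofBijective MulAut.conjNormal ⟨CfsgLib.AutAlternating.conjNormal_injective (by norm_num),
      fun φ => CfsgLib.AutAlternating.eq_conj (by norm_num) (by norm_num) φ⟩
  let θ : G →* Equiv.Perm (Fin 5) :=
    cn.symm.toMonoidHom.comp ((MulAut.congr eA).toMonoidHom.comp (ψ.comp MulAut.conjNormal))
  have hθD : ∀ d : D, θ (d : G) = (eA (QuotientGroup.mk' Z d) : Equiv.Perm (Fin 5)) := by
    intro d
    apply cn.injective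
    show cn (cn.symm _) = _
    rw [cn.apply_symm_apply]
    refine MulEquiv.ext fun a => ?_
    obtain ⟨a, rfl⟩ := eA.surjective a
    obtain ⟨a, rfl⟩ := QuotientGroup.mk'_surjective Z a
    apply Subtype.ext
    show ((eA (ψ (MulAut.conjNormal (d : G)) (eA.symm (eA (QuotientGroup.mk' Z a))))) : Equiv.Perm (Fin 5)) = _
    rw [eA.symm_apply_apply]
    show ((eA (QuotientGroup.mk' Z (MulAut.conjNormal (d : G) a))) : Equiv.Perm (Fin 5)) = _
    rw [show MulAut.conjNormal (d : G) a = d * a * d⁻¹ from Subtype.ext (by simp [MulAut.conjNormal_apply]),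
      map_mul, map_mul, map_inv, map_mul, map_mul, map_inv]
    rfl
  have hAlt : ∀ σ ∈ alternatingGroup (Fin 5), σ ∈ D.map θ := fun σ hσ => by
    obtain ⟨x, hx⟩ := eA.surjective ⟨σ, hσ⟩
    obtain ⟨d, rfl⟩ := QuotientGroup.mk'_surjective Z x
    exact ⟨d, d.2, by rw [hθD, hx]⟩
  have hker : θ.ker = Subgroup.centralizer (D : Set G) := by
    ext g
    have hiff : g ∈ θ.ker ↔ ∀ d : D, QuotientGroup.mk' Z (MulAut.conjNormal g d) = QuotientGroup.mk' Z d := by
      rw [MonoidHom.mem_ker]
      show cn.symm _ = 1 ↔ _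
      rw [MulEquiv.map_eq_one_iff]
      show MulAut.congr eA (ψ (MulAut.conjNormal g)) = 1 ↔ _
      rw [MulEquiv.map_eq_one_iff]
      refine ⟨fun h d => DFunLike.congr_fun h (QuotientGroup.mk' Z d), fun h => MulEquiv.ext fun x => ?_⟩
      obtain ⟨d, rfl⟩ := QuotientGroup.mk'_surjective Z x
      exact h d
    rw [hiff, Subgroup.mem_centralizer_iff]
    constructor
    · intro h d hd
      have hle : ∀ x ∈ commutator D, MulAut.conjNormal g x = x := by
        rw [commutator_eq_closure]
        intro x hx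
        induction hx using Subgroup.closure_induction with
        | mem x hx =>
          obtain ⟨p, q, rfl⟩ := mem_commutatorSet_iff.mp hx
          have hc : ∀ p : D, ∀ y, Commute (p⁻¹ * MulAut.conjNormal g p) y := fun p y => by
            have := Subgroup.mem_center_iff.mp (QuotientGroup.eq.mp (h p).symm) y
            exact this.symm
          rw [map_commutatorElement]
          calc ⁅MulAut.conjNormal g p, MulAut.conjNormal g q⁆
              = ⁅p * (p⁻¹ * MulAut.conjNormal g p), q * (q⁻¹ * MulAut.conjNormal g q)⁆ := by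
                rw [mul_inv_cancel_left, mul_inv_cancel_left]
            _ = ⁅p, q⁆ := commutatorElement_central (hc p) (hc q) p q
        | one => exact map_one _
        | mul x y _ _ hx hy => rw [map_mul, hx, hy]
        | inv x _ hx => rw [map_inv, hx]
      have h1 : g * d * g⁻¹ = d := congrArg Subtype.val (hle ⟨d, hd⟩ (hDperf ▸ Subgroup.mem_top _))
      exact (mul_inv_eq_iff_eq_mul.mp h1).symm
    · intro h d
      congr 1
      apply Subtype.ext
      rw [MulAut.conjNormal_apply, ← h d d.2, mul_inv_cancel_right]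
  -- the centralizer
  set C := Subgroup.centralizer (D : Set G) with hC
  have hDC : ∀ x, x ∈ D → x ∈ C → x * x = 1 := fun x hxD hxC => by
    have hz : (⟨x, hxD⟩ : D) ∈ Z := Subgroup.mem_center_iff.mpr fun d =>
      Subtype.ext (Subgroup.mem_centralizer_iff.mp hxC d d.2)
    have h := orderOf_dvd_natCard (⟨_, hz⟩ : Z)
    rw [hZcard, Subgroup.orderOf_mk, Subgroup.orderOf_mk, orderOf_dvd_iff_pow_eq_one, pow_two] at h
    exact h
  have hno : ∀ p : ℕ, p = 3 ∨ p = 5 → ¬ p ∣ Nat.card C := by
    intro p hp hd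
    have hp' : p.Prime := by rcases hp with rfl | rfl <;> norm_num
    haveI := Fact.mk hp'
    obtain ⟨x, hx⟩ := exists_prime_orderOf_dvd_card' (G := C) p hd
    obtain ⟨d, hd'⟩ := exists_prime_orderOf_dvd_card' (G := D) p (by rw [hDcard]; rcases hp with rfl | rfl <;> norm_num)
    have hxo : orderOf (x : G) = p := (Subgroup.orderOf_coe x).trans hx
    have hdo : orderOf (d : G) = p := (Subgroup.orderOf_coe d).trans hd'
    have hmem := mem_zpowers_of_commute hG hxo hdo (Subgroup.mem_centralizer_iff.mp x.2 d d.2).symm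
    have h2 := orderOf_dvd_of_pow_eq_one (show (x : G) ^ 2 = 1 by
      rw [pow_two]; exact hDC _ (Subgroup.zpowers_le.mpr d.2 hmem) x.2)
    rw [hxo] at h2
    have := Nat.le_of_dvd two_pos h2
    omega
  obtain ⟨i, hi⟩ : ∃ i : D, orderOf i = 4 := by
    obtain ⟨g, hg⟩ := exists_order_four_SL25
    exact ⟨e.symm g, (MulEquiv.orderOf_eq e.symm g).trans hg⟩
  have hi4 : orderOf (i : G) = 4 := (Subgroup.orderOf_coe i).trans hi
  set z : G := (i : G) * i with hzdef
  have hz : orderOf z = 2 := by
    rw [hzdef, show (i : G) * i = (i : G) ^ 2 by rw [pow_two], orderOf_pow' _ two_ne_zero, hi4]; norm_num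
  have hzc := involution_central hG hz
  have hzC : z ∈ C := Subgroup.mem_centralizer_iff.mpr fun d _ => (hzc d).eq.symm
  have hC4 : ∀ x ∈ C, x ^ 4 = 1 → x ^ 2 = 1 := by
    intro x hx h4
    by_contra h2
    have hxx : x * x = z := involution_eq hG (orderOf_eq_prime (by rw [← pow_two, ← pow_mul]; exact h4)
      (by rwa [← pow_two])) hz
    have hc : Commute x (i : G) := (Subgroup.mem_centralizer_iff.mp hx i i.2).symm
    have h1 : x * (i : G) * (x * i) = 1 := by
      rw [hc.symm.mul_mul_mul_comm, hxx, ← hzdef, ← pow_two, ← hz, pow_orderOf_eq_one]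
    have hxi : x * (i : G) ∈ D := by
      rcases eq_or_ne (x * (i : G)) 1 with h | h
      · rw [h]; exact one_mem D
      · rw [involution_eq hG (orderOf_eq_prime (by rw [pow_two]; exact h1) h) hz]
        exact mul_mem i.2 i.2
    exact h2 (by rw [pow_two]; exact hDC x (by simpa using mul_mem hxi (inv_mem i.2)) hx)
  obtain ⟨P, hP⟩ := (IsPGroup.of_card (n := 1) (by rw [Nat.card_zpowers, Subgroup.orderOf_mk, hz, pow_one]) :
    IsPGroup 2 (Subgroup.zpowers (⟨z, hzC⟩ : C))).exists_le_sylow
  have hPeq : (P : Subgroup C) = Subgroup.zpowers (⟨z, hzC⟩ : C) := by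
    refine le_antisymm (fun x hx => ?_) hP
    have hx2 : (x : G) ^ 2 = 1 := by
      obtain ⟨k, hk⟩ := P.2 ⟨x, hx⟩
      have hk' : (x : G) ^ 2 ^ k = 1 := by simpa using congrArg (fun w : (P : Subgroup C) => ((w : C) : G)) hk
      clear hk
      induction k with
      | zero =>
        rw [pow_zero, pow_one] at hk'
        rw [hk', one_pow]
      | succ k ih =>
        rcases Nat.eq_zero_or_pos k with rfl | hk0
        · simpa using hk'
        refine ih ?_
        obtain ⟨k, rfl⟩ : ∃ j, k = j + 1 := ⟨k - 1, by omega⟩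
        rw [pow_succ, pow_mul]
        exact hC4 _ (Subgroup.pow_mem _ x.2 _) (by
          rw [← pow_mul, show 2 ^ k * 4 = 2 ^ (k + 1 + 1) by ring]; exact hk')
    rcases eq_or_ne (x : G) 1 with h | h
    · rw [show x = 1 from Subtype.ext h]; exact one_mem _
    · rw [show x = ⟨z, hzC⟩ from Subtype.ext (involution_eq hG (orderOf_eq_prime hx2 h) hz)]
      exact Subgroup.mem_zpowers _
  have hPcard : Nat.card (P : Subgroup C) = 2 := by
    rw [hPeq, Nat.card_zpowers, Subgroup.orderOf_mk, hz]
  haveI : IsCyclic (P : Subgroup C) := isCyclic_of_prime_card hPcard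
  obtain ⟨K, hKn, hKi, hK2, -⟩ := exists_complement P (w := (⟨z, hzC⟩ : C)) (hP (Subgroup.mem_zpowers _))
    (by rw [Subgroup.orderOf_mk, hz]) (fun g _ => Subtype.ext (hzc (g : G)).symm)
  rw [hPcard] at hKi
  set M := K.map C.subtype with hMdef
  have hMcard : Nat.card M = Nat.card K := Subgroup.card_map_of_injective C.subtype_injective
  have hKodd : Odd (Nat.card K) := Nat.not_even_iff_odd.mp fun h => hK2 (even_iff_two_dvd.mp h)
  have hCcard : Nat.card C = 2 * Nat.card M := by rw [← K.card_mul_index, hKi, hMcard, mul_comm]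
  have hMmem : ∀ x, x ∈ M ↔ x ∈ C ∧ Odd (orderOf x) := by
    intro x
    constructor
    · rintro ⟨k, hk, rfl⟩
      refine ⟨k.2, ?_⟩
      rw [Subgroup.subtype_apply, Subgroup.orderOf_coe]
      exact hKodd.of_dvd_nat (Subgroup.orderOf_mk k hk ▸ orderOf_dvd_natCard (⟨k, hk⟩ : K))
    · rintro ⟨hx, ho⟩
      exact ⟨⟨x, hx⟩, mem_of_coprime_index (by rw [hKi, Subgroup.orderOf_mk]; exact ho.coprime_two_right), rfl⟩
  have hMn : M.Normal := ⟨fun x hx g => by
    rw [hMmem] at hx ⊢
    refine ⟨?_, by rw [← MulAut.conj_apply, MulEquiv.orderOf_eq]; exact hx.2⟩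
    haveI : C.Normal := hker ▸ inferInstance
    exact (inferInstance : C.Normal).conj_mem x hx.1 g⟩
  have hcomm : ∀ d ∈ D, ∀ m ∈ M, d * m = m * d := fun d hd m hm =>
    Subgroup.mem_centralizer_iff.mp ((hMmem m).mp hm).1 d hd
  have hdisj : D ⊓ M = ⊥ := by
    refine eq_bot_iff.mpr fun x hx => ?_
    obtain ⟨hxC, ho⟩ := (hMmem x).mp hx.2
    have h2 := orderOf_dvd_of_pow_eq_one (show x ^ 2 = 1 by rw [pow_two]; exact hDC x hx.1 hxC)
    rcases (Nat.dvd_prime Nat.prime_two).mp h2 with h | h
    · exact Subgroup.mem_bot.mpr (orderOf_eq_one_iff.mp h)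
    · exact absurd (h ▸ ho) (by decide)
  have hcop : (Nat.card M).Coprime 30 := by
    refine Nat.coprime_of_dvd fun q hq hqM hq30 => ?_
    have hqK : q ∣ Nat.card K := hMcard ▸ hqM
    have hqC : q ∣ Nat.card C := hqK.trans (Subgroup.card_subgroup_dvd_card K)
    rcases (Nat.Prime.dvd_mul hq).mp (show q ∣ 2 * 15 from hq30) with h | h
    · exact hK2 ((Nat.prime_dvd_prime_iff_eq hq Nat.prime_two).mp h ▸ hqK)
    rcases (Nat.Prime.dvd_mul hq).mp (show q ∣ 3 * 5 from h) with h | h
    · exact hno q (Or.inl ((Nat.prime_dvd_prime_iff_eq hq Nat.prime_three).mp h)) hqC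
    · exact hno q (Or.inr ((Nat.prime_dvd_prime_iff_eq hq Nat.prime_five).mp h)) hqC
  have hZM : ∀ (p : ℕ) [Fact p.Prime] (P : Sylow p M), IsCyclic (P : Subgroup M) := by
    intro p hp P
    by_cases hp2 : p = 2
    · subst hp2
      have h1 : Nat.card (P : Subgroup M) = 1 := by
        rw [P.card_eq_multiplicity, Nat.factorization_eq_zero_of_not_dvd, pow_zero]
        rw [hMcard]; exact hK2
      haveI := (Nat.card_eq_one_iff_unique.mp h1).1
      infer_instance
    · exact cyclic_sylow_odd hG hp2 P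
  have hkerle : θ.ker ≤ D ⊔ M := by
    rw [hker]
    intro x hx
    rcases (orderOf x).even_or_odd with he | ho
    swap
    · exact Subgroup.mem_sup_right ((hMmem x).mpr ⟨hx, ho⟩)
    have h1 : (⟨x, hx⟩ : C) * ⟨z, hzC⟩ ∈ K := by
      have hzK : (⟨z, hzC⟩ : C) ∉ K := fun h => hK2 (by
        have := Subgroup.orderOf_mk _ h ▸ orderOf_dvd_natCard (⟨_, h⟩ : K)
        rwa [Subgroup.orderOf_mk, hz] at this)
      have hxK : (⟨x, hx⟩ : C) ∉ K := fun h => by
        have := hKodd.of_dvd_nat (Subgroup.orderOf_mk _ h ▸ orderOf_dvd_natCard (⟨_, h⟩ : K))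
        rw [Subgroup.orderOf_mk] at this
        exact Nat.not_even_iff_odd.mpr this he
      rw [Subgroup.mul_mem_iff_of_index_two hKi]
      tauto
    have hm : x * z ∈ M := ⟨_, h1, rfl⟩
    have hzz : z * z = 1 := by rw [← pow_two, ← hz, pow_orderOf_eq_one]
    have : x = x * z * z := by rw [mul_assoc, hzz, mul_one]
    rw [this]
    exact mul_mem (Subgroup.mem_sup_right hm) (Subgroup.mem_sup_left (mul_mem i.2 i.2))
  refine ⟨D, M, θ, hDn, hMn, ⟨e⟩, hdisj, hcomm, hcop, hZM, hker, by rw [hker]; exact hCcard, hAlt, hkerle,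
    Subgroup.sup_normal D M, ?_⟩
  have hidx : (D ⊔ M).index ∣ 2 := by
    have hA : alternatingGroup (Fin 5) ≤ (D ⊔ M).map θ :=
      fun σ hσ => Subgroup.map_mono le_sup_left (hAlt σ hσ)
    have h1 := Subgroup.index_dvd_of_le hA
    rw [Subgroup.index_map, sup_of_le_left hkerle] at h1
    have h2 : (alternatingGroup (Fin 5)).index = 2 := alternatingGroup.index_eq_two
    exact h2 ▸ (dvd_mul_right _ _).trans h1
  exact (Nat.dvd_prime Nat.prime_two).mp hidx

end CfsgLib.PerfectCompl
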