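import Cfsg.Agent.Lib.Classical.Card
import Cfsg.Agent.Lib.Classical.Transvection
import Cfsg.Agent.Lib.Classical.A8Subgroups
import Cfsg.Agent.Lib.Schur.SLTwo
import Cfsg.Agent.Lib.StemExt.Basic
import Cfsg.Agent.S0253
import Cfsg.Agent.S0494

/-!
# A perfect group of order 120 with a central involution is `SL(2, 5)`
-/

set_option autoImplicit false
set_option linter.style.haveILetI false
set_option linter.unusedSectionVars false

open scoped Classical commutatorElement

namespace CfsgLib.PerfectCompl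

theorem not_solvable_of_perfect {G : Type*} [Group G] [Nontrivial G] (h : commutator G = ⊤) :
    ¬ Group.IsSolvable G := fun hs => by
  have := IsSolvable.commutator_lt_top_of_nontrivial G
  rw [h] at this
  exact lt_irrefl _ this

theorem commutatorElement_central {P : Type*} [Group P] {c c' : P} (hc : ∀ y, Commute c y)
    (hc' : ∀ y, Commute c' y) (d d' : P) : ⁅d * c, d' * c'⁆ = ⁅d, d'⁆ := by
  rw [commutatorElement_def, commutatorElement_def, mul_inv_rev, mul_inv_rev]
  calc d * c * (d' * c') * (c⁻¹ * d⁻¹) * (c'⁻¹ * d'⁻¹)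
      = d * (c * (d' * c')) * c⁻¹ * d⁻¹ * c'⁻¹ * d'⁻¹ := by group
    _ = d * d' * (c' * d⁻¹) * c'⁻¹ * d'⁻¹ := by rw [(hc (d' * c')).eq]; group
    _ = d * d' * d⁻¹ * d'⁻¹ := by rw [(hc' d⁻¹).eq]; group

instance : Fact (Nat.Prime 5) := ⟨by norm_num⟩

theorem iso_SL25_zero {H : Type} [Group H] [Finite H] (hperf : commutator H = ⊤)
    (hcard : Nat.card H = 120) {z : H} (hz : orderOf z = 2) (hzc : ∀ x : H, Commute z x) :
    Nonempty (H ≃* Matrix.SpecialLinearGroup (Fin 2) (ZMod 5)) := by
  haveI : (Subgroup.zpowers z).Normal := ⟨fun a ha g => by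
    obtain ⟨i, rfl⟩ := Subgroup.mem_zpowers_iff.mp ha
    rw [← ((hzc g).zpow_left i).eq, mul_inv_cancel_right]
    exact ⟨i, rfl⟩⟩
  set G := H ⧸ Subgroup.zpowers z
  have hG60 : Nat.card G = 60 := by
    have h := Subgroup.card_eq_card_quotient_mul_card_subgroup (Subgroup.zpowers z)
    rw [hcard, Nat.card_zpowers, hz] at h
    show Nat.card (H ⧸ Subgroup.zpowers z) = 60
    omega
  haveI : Nontrivial G := Finite.one_lt_card_iff_nontrivial.mp (by omega)
  have hperfG : commutator G = ⊤ := by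
    rw [commutator_def, ← Subgroup.map_top_of_surjective (QuotientGroup.mk' (Subgroup.zpowers z))
      (QuotientGroup.mk'_surjective _), ← Subgroup.map_commutator, ← commutator_def, hperf]
  haveI := CfsgLib.AEightSub.simple_of_sixty (not_solvable_of_perfect hperfG) hG60
  obtain ⟨eG⟩ := Cfsg.Agent.S0494.result hG60
  let S := Matrix.SpecialLinearGroup (Fin 2) (ZMod 5)
  obtain ⟨eS⟩ := Cfsg.Agent.S0253.result (F := ZMod 5) (ZMod.card 5)
  let f : H →* alternatingGroup (Fin 5) := eG.toMonoidHom.comp (QuotientGroup.mk' _)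
  let q : S →* alternatingGroup (Fin 5) := eS.toMonoidHom.comp (QuotientGroup.mk' _)
  let P : Subgroup (H × S) := (f.comp (MonoidHom.fst H S)).eqLocus (q.comp (MonoidHom.snd H S))
  let σ : P →* S := (MonoidHom.snd H S).comp P.subtype
  let τ : P →* H := (MonoidHom.fst H S).comp P.subtype
  have hσs : Function.Surjective σ := fun s => by
    obtain ⟨g, hg⟩ := QuotientGroup.mk'_surjective (Subgroup.zpowers z) (eG.symm (q s))
    exact ⟨⟨(g, s), (congrArg eG hg).trans (eG.apply_symm_apply _)⟩, rfl⟩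
  have hτs : Function.Surjective τ := fun g => by
    obtain ⟨s, hs⟩ := QuotientGroup.mk'_surjective (Subgroup.center S) (eS.symm (f g))
    exact ⟨⟨(g, s), ((congrArg eS hs).trans (eS.apply_symm_apply _)).symm⟩, rfl⟩
  have hσk : ∀ x : P, σ x = 1 → ∀ y : P, Commute x y := by
    intro x hx y
    have h1 : f (x : H × S).1 = 1 := by
      rw [show f (x : H × S).1 = q (x : H × S).2 from x.2, show (x : H × S).2 = 1 from hx, map_one]
    have h2 : (x : H × S).1 ∈ Subgroup.zpowers z :=
      (QuotientGroup.eq_one_iff _).mp (eG.injective (h1.trans (map_one eG).symm))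
    obtain ⟨i, hi⟩ := Subgroup.mem_zpowers_iff.mp h2
    refine Subtype.ext (Prod.ext ?_ ?_)
    · show (x : H × S).1 * (y : H × S).1 = (y : H × S).1 * (x : H × S).1
      rw [← hi]; exact ((hzc _).zpow_left i).eq
    · show (x : H × S).2 * (y : H × S).2 = (y : H × S).2 * (x : H × S).2
      rw [show (x : H × S).2 = 1 from hx, one_mul, mul_one]
  have hperfS : commutator S = ⊤ :=
    CfsgLib.Classical.commutator_SL_eq_top (Or.inr ⟨2, by decide, by decide⟩)
  set D := commutator P
  have hσD : D.map σ = ⊤ := by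
    show (commutator P).map σ = ⊤
    rw [commutator_def, Subgroup.map_commutator, Subgroup.map_top_of_surjective _ hσs, ← commutator_def, hperfS]
  have hτD : D.map τ = ⊤ := by
    show (commutator P).map τ = ⊤
    rw [commutator_def, Subgroup.map_commutator, Subgroup.map_top_of_surjective _ hτs, ← commutator_def, hperf]
  have hDperf : commutator D = ⊤ := by
    have hcomp : ∀ x : P, ∃ d ∈ D, ∀ y : P, Commute (d⁻¹ * x) y := fun x => by
      obtain ⟨d, hd, he⟩ : σ x ∈ D.map σ := hσD ▸ Subgroup.mem_top _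
      exact ⟨d, hd, hσk _ (by rw [map_mul, map_inv, he, inv_mul_cancel])⟩
    have hle : D ≤ (commutator D).map D.subtype := by
      show commutator P ≤ _
      rw [commutator_def, Subgroup.commutator_le]
      intro x _ y _
      obtain ⟨d, hd, hdc⟩ := hcomp x
      obtain ⟨d', hd', hdc'⟩ := hcomp y
      refine ⟨⁅(⟨d, hd⟩ : D), (⟨d', hd'⟩ : D)⁆, Subgroup.commutator_mem_commutator (Subgroup.mem_top _) (Subgroup.mem_top _), ?_⟩
      rw [map_commutatorElement]
      show ⁅d, d'⁆ = ⁅x, y⁆
      obtain ⟨c, hc, rfl⟩ : ∃ c : P, (∀ y, Commute c y) ∧ x = d * c := ⟨d⁻¹ * x, hdc, by group⟩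
      obtain ⟨c', hc', rfl⟩ : ∃ c : P, (∀ y, Commute c y) ∧ y = d' * c := ⟨d'⁻¹ * y, hdc', by group⟩
      exact (commutatorElement_central hc hc' d d').symm
    rw [eq_top_iff]
    intro d _
    obtain ⟨e, he, hed⟩ := hle d.2
    rwa [Subtype.ext hed] at he
  let σ' : D →* S := σ.comp D.subtype
  have hσ's : Function.Surjective σ' := fun s => by
    obtain ⟨d, hd, he⟩ : s ∈ D.map σ := hσD ▸ Subgroup.mem_top _
    exact ⟨⟨d, hd⟩, he⟩
  have hst : Cfsg.IsStemExtension σ' := ⟨hσ's, fun x hx => Subgroup.mem_center_iff.mpr fun y =>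
    Subtype.ext (hσk x hx y).eq.symm, hDperf ▸ le_top⟩
  have hker := CfsgLib.StemExt.ker_eq_bot_of_hasCyclicSchurMultiplier_one
    (CfsgLib.Schur.hasTrivialMultiplier_SL_two (F := ZMod 5) (by simp) (by simp)) σ' hst
  let e : D ≃* S := MulEquiv.ofBijective σ' ⟨(MonoidHom.ker_eq_bot_iff σ').mp hker, hσ's⟩
  let g : S →* H := (τ.comp D.subtype).comp e.symm.toMonoidHom
  have hgs : Function.Surjective g := fun h => by
    obtain ⟨d, hd, he⟩ : h ∈ D.map τ := hτD ▸ Subgroup.mem_top _
    refine ⟨e ⟨d, hd⟩, ?_⟩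
    show τ ((e.symm (e ⟨d, hd⟩) : D) : P) = h
    rw [e.symm_apply_apply]; exact he
  have hcardS : Nat.card S = 120 := by
    rw [CfsgLib.Classical.card_SL_two, ZMod.card]; norm_num
  refine ⟨(MulEquiv.ofBijective g ((Nat.bijective_iff_surjective_and_card _).mpr ⟨hgs, ?_⟩)).symm⟩
  rw [hcardS, hcard]

theorem iso_SL25 {H : Type*} [Group H] [Finite H] (hperf : commutator H = ⊤) (hcard : Nat.card H = 120)
    {z : H} (hz : orderOf z = 2) (hzc : ∀ x : H, Commute z x) :
    Nonempty (H ≃* Matrix.SpecialLinearGroup (Fin 2) (ZMod 5)) := by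
  let e : H ≃* Shrink.{0} H := (Shrink.mulEquiv).symm
  haveI : Finite (Shrink.{0} H) := Finite.of_equiv _ e.toEquiv
  obtain ⟨φ⟩ := iso_SL25_zero (H := Shrink.{0} H)
    (by rw [commutator_def, ← Subgroup.map_top_of_surjective e.toMonoidHom e.surjective,
      ← Subgroup.map_commutator, ← commutator_def, hperf])
    ((Nat.card_congr e.toEquiv).symm.trans hcard) (z := e z) (by rw [MulEquiv.orderOf_eq]; exact hz)
    (fun x => by
      obtain ⟨x, rfl⟩ := e.surjective x
      exact (hzc x).map e.toMonoidHom)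
  exact ⟨e.trans φ⟩

end CfsgLib.PerfectCompl
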