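import Mathlib

/-!
# Quaternion relations in algebras over the rationals
-/

set_option autoImplicit false
set_option linter.style.haveILetI false
set_option linter.unusedSectionVars false

namespace CfsgLib.PerfectCompl

variable {R : Type*} [Ring R] [Algebra ℚ R]

theorem double_eq_zero {x : R} (h : x + x = 0) : x = 0 := by
  have h2 : (1 / 2 : ℚ) • (x + x) = x := by module
  rw [← h2, h, smul_zero]

theorem half_not_mem_adjoin [Nontrivial R] {v : R} {N : ℕ} (hN : 0 < N) (hv : v ^ N = 1) :
    algebraMap ℚ R (1 / 2) ∉ Algebra.adjoin ℤ {v} := by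
  intro hmem
  have h1 : IsIntegral ℤ v := IsIntegral.of_pow hN (hv ▸ isIntegral_one)
  have h2 : IsIntegral ℤ (algebraMap ℚ R (1 / 2)) :=
    IsIntegral.of_mem_of_fg _ h1.fg_adjoin_singleton _ hmem
  rw [isIntegral_algebraMap_iff (algebraMap ℚ R).injective] at h2
  obtain ⟨z, hz⟩ := IsIntegrallyClosed.isIntegral_iff.mp h2
  rw [eq_intCast] at hz
  have h3 : (2 * z : ℤ) = 1 := by
    have : (2 : ℚ) * (z : ℚ) = 1 := by rw [hz]; norm_num
    exact_mod_cast this
  omega

theorem inverse_mem_adjoin {v v' : R} {N : ℕ} (hN : 0 < N) (hv : v ^ N = 1) (h : v * v' = 1) :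
    v' ∈ Algebra.adjoin ℤ {v} := by
  have he : v' = v ^ (N - 1) := by
    calc v' = v ^ N * v' := by rw [hv, one_mul]
      _ = v ^ (N - 1) * (v * v') := by rw [← mul_assoc, ← pow_succ, Nat.sub_add_cancel hN]
      _ = v ^ (N - 1) := by rw [h, mul_one]
  rw [he]
  exact Subalgebra.pow_mem _ (Algebra.self_mem_adjoin_singleton ℤ v) _

/-- The element rotating `i → j → i * j` with minimal polynomial `X ^ 2 + X + 1`. -/
theorem rot_formula {i j u : R} (hi : i * i = -1) (hj : j * j = -1) (hji : j * i = -(i * j))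
    (hui : u * i = j * u) (huj : u * j = i * j * u) (hu : u * u + u + 1 = 0)
    (hui2 : u * i * (u * i) - u * i + 1 = 0) :
    u = (1 / 2 : ℚ) • (-1 - i - j - i * j) := by
  have hi' : ∀ x : R, i * (i * x) = -x := fun x => by rw [← mul_assoc, hi, neg_one_mul]
  have hj' : ∀ x : R, j * (j * x) = -x := fun x => by rw [← mul_assoc, hj, neg_one_mul]
  have hji' : ∀ x : R, j * (i * x) = -(i * (j * x)) := fun x => by
    rw [← mul_assoc, hji, neg_mul, mul_assoc]
  set q := (1 / 2 : ℚ) • (-1 - i - j - i * j) with hq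
  set q' := (1 / 2 : ℚ) • (-1 + i + j + i * j) with hq'
  have hqq' : q * q' = 1 := by
    simp only [hq, hq', sub_eq_add_neg, mul_add, add_mul, smul_mul_assoc, mul_smul_comm, smul_smul,
      smul_add, smul_neg, neg_mul, mul_neg, neg_neg, one_mul, mul_one, mul_assoc, hi, hj, hji, hi', hj', hji']
    module
  have hq'q : q' * q = 1 := by
    simp only [hq, hq', sub_eq_add_neg, mul_add, add_mul, smul_mul_assoc, mul_smul_comm, smul_smul,
      smul_add, smul_neg, neg_mul, mul_neg, neg_neg, one_mul, mul_one, mul_assoc, hi, hj, hji, hi', hj', hji']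
    module
  have hq2 : q * q + q + 1 = 0 := by
    simp only [hq, sub_eq_add_neg, mul_add, add_mul, smul_mul_assoc, mul_smul_comm, smul_smul,
      smul_add, smul_neg, neg_mul, mul_neg, neg_neg, one_mul, mul_one, mul_assoc, hi, hj, hji, hi', hj', hji']
    module
  have hqi2 : q * i * (q * i) - q * i + 1 = 0 := by
    simp only [hq, sub_eq_add_neg, mul_add, add_mul, smul_mul_assoc, mul_smul_comm, smul_smul,
      smul_add, smul_neg, neg_mul, mul_neg, neg_neg, one_mul, mul_one, mul_assoc, hi, hj, hji, hi', hj', hji']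
    module
  have hq'j : q' * j = i * q' := by
    simp only [hq', sub_eq_add_neg, mul_add, add_mul, smul_mul_assoc, mul_smul_comm, smul_smul,
      smul_add, smul_neg, neg_mul, mul_neg, neg_neg, one_mul, mul_one, mul_assoc, hi, hj, hji, hi', hj', hji']
    module
  have hq'k : q' * (i * j) = j * q' := by
    simp only [hq', sub_eq_add_neg, mul_add, add_mul, smul_mul_assoc, mul_smul_comm, smul_smul,
      smul_add, smul_neg, neg_mul, mul_neg, neg_neg, one_mul, mul_one, mul_assoc, hi, hj, hji, hi', hj', hji']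
    module
  set c := q' * u with hc
  have hci : c * i = i * c := by rw [hc, mul_assoc, hui, ← mul_assoc, hq'j, mul_assoc]
  have hcj : c * j = j * c := by rw [hc, mul_assoc, huj, ← mul_assoc, hq'k, mul_assoc]
  have hqc : u = q * c := by rw [hc, ← mul_assoc, hqq', one_mul]
  have hck : Commute c (i * j) := (show Commute c i from hci).mul_right hcj
  have hcq : Commute c q := by
    rw [hq]
    exact (((((Commute.one_right c).neg_right).sub_right hci).sub_right hcj).sub_right hck).smul_right _
  have hcqi : Commute c (q * i) := hcq.mul_right hci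
  have h1 : (q * q) * (c * c) + q * c + 1 = 0 := by
    rw [hqc, hcq.mul_mul_mul_comm] at hu
    exact hu
  have h2 : (q * i * (q * i)) * (c * c) - q * i * c + 1 = 0 := by
    have e : u * i = q * i * c := by rw [hqc, mul_assoc, hci, ← mul_assoc]
    rw [e, hcqi.mul_mul_mul_comm] at hui2
    exact hui2
  have hA : q * (c * c - c) = 1 - c * c := by
    have e : q * q = -q - 1 := by rw [← sub_eq_zero, ← hq2]; abel
    rw [e, sub_mul, neg_mul, one_mul] at h1
    rw [mul_sub, ← sub_eq_zero]
    calc q * (c * c) - q * c - (1 - c * c) = -(-(q * (c * c)) - c * c + q * c + 1) := by abel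
      _ = 0 := by rw [h1, neg_zero]
  have hB : q * i * (c * c - c) = c * c - 1 := by
    have e : q * i * (q * i) = q * i - 1 := by rw [← sub_eq_zero, ← hqi2]; abel
    rw [e, sub_mul, one_mul] at h2
    rw [mul_sub, ← sub_eq_zero]
    calc q * i * (c * c) - q * i * c - (c * c - 1) = q * i * (c * c) - c * c - q * i * c + 1 := by abel
      _ = 0 := h2
  set e := c * c - c with he
  have h3 : q * ((1 + i) * e) = 0 := by
    rw [← mul_assoc, mul_add, mul_one, add_mul, hA, hB]; abel
  have h4 : (1 + i) * e = 0 := by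
    calc (1 + i) * e = q' * q * ((1 + i) * e) := by rw [hq'q, one_mul]
      _ = 0 := by rw [mul_assoc, h3, mul_zero]
  have h5 : e = 0 := by
    refine double_eq_zero ?_
    calc e + e = (1 - i) * ((1 + i) * e) := by
          rw [← mul_assoc, show (1 - i) * (1 + i) = 1 - i * i by noncomm_ring, hi, sub_neg_eq_add, add_mul, one_mul]
      _ = 0 := by rw [h4, mul_zero]
  have h6 : c = 1 := by
    rw [he, sub_eq_zero] at h5
    have hu' : u * (-1 - u) = 1 := by rw [← sub_eq_zero, ← neg_eq_zero, ← hu]; noncomm_ring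
    have hc' : c * ((-1 - u) * q) = 1 := by
      calc c * ((-1 - u) * q) = q' * (u * (-1 - u)) * q := by rw [hc]; noncomm_ring
        _ = 1 := by rw [hu', mul_one, hq'q]
    calc c = c * (c * ((-1 - u) * q)) := by rw [hc', mul_one]
      _ = c * c * ((-1 - u) * q) := (mul_assoc c c _).symm
      _ = 1 := by rw [h5, hc']
  rw [hqc, h6, mul_one]

/-- Coordinates of a rotation of order 3 of the quaternion group generated by `i, b`. -/
def RotForm (i b u : R) : Prop :=
  ∃ α β γ : ℚ, (α = 1 ∨ α = -1) ∧ (β = 1 ∨ β = -1) ∧ (γ = 1 ∨ γ = -1) ∧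
    u = (1 / 2 : ℚ) • (-1 + α • i + β • b + γ • (i * b))

theorem rotForm_of_rot [Nontrivial R] {i b j k u : R} (hi : i * i = -1) (hb : b * b = -1)
    (hbi : b * i = -(i * b)) (hu : u * u + u + 1 = 0)
    (hsix1 : u * i * (u * i * (u * i)) = -1 → u * i * (u * i) - u * i + 1 = 0)
    (hsix2 : u * u * i * (u * u * i * (u * u * i)) = -1 → u * u * i * (u * u * i) - u * u * i + 1 = 0)
    (hj : j = b ∨ j = -b ∨ j = i * b ∨ j = -(i * b))
    (hui : u * i = j * u) (huj : u * j = k * u) (hk : k = i * j ∨ k = -(i * j)) : RotForm i b u := by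
  have hi' : ∀ x : R, i * (i * x) = -x := fun x => by rw [← mul_assoc, hi, neg_one_mul]
  have hb' : ∀ x : R, b * (b * x) = -x := fun x => by rw [← mul_assoc, hb, neg_one_mul]
  have hbi' : ∀ x : R, b * (i * x) = -(i * (b * x)) := fun x => by
    rw [← mul_assoc, hbi, neg_mul, mul_assoc]
  have hjj : j * j = -1 := by
    rcases hj with rfl | rfl | rfl | rfl <;>
      simp only [neg_mul, mul_neg, neg_neg, mul_assoc, hb, hbi, hbi', hi', hb', mul_one, hi]
  have hji : j * i = -(i * j) := by
    rcases hj with rfl | rfl | rfl | rfl <;>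
      simp only [neg_mul, mul_neg, neg_neg, mul_assoc, hbi, hi']
  have hu3 : u * (u * u) = 1 := by
    rw [show u * u = -1 - u by rw [← sub_eq_zero, ← hu]; abel, ← sub_eq_zero, ← neg_eq_zero, ← hu]
    noncomm_ring
  have cube : ∀ w j : R, w * (w * w) = 1 → j * j = -1 → j * i = -(i * j) → w * i = j * w → w * j = i * j * w →
      w * i * (w * i * (w * i)) = -1 := by
    intro w j hw hjj hji h1 h2
    have h2' : ∀ x : R, w * (j * x) = i * (j * (w * x)) := fun x => by rw [← mul_assoc, h2, mul_assoc, mul_assoc]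
    have h1' : ∀ x : R, w * (i * x) = j * (w * x) := fun x => by rw [← mul_assoc, h1, mul_assoc]
    have hjj' : ∀ x : R, j * (j * x) = -x := fun x => by rw [← mul_assoc, hjj, neg_one_mul]
    have hji' : ∀ x : R, j * (i * x) = -(i * (j * x)) := fun x => by rw [← mul_assoc, hji, neg_mul, mul_assoc]
    simp only [mul_assoc, h1, h1', h2, h2', neg_mul, mul_neg, neg_neg, hjj', hji', hw, hi', hjj, hji, hi, mul_one]
  rcases hk with rfl | rfl
  · have h := rot_formula hi hjj hji hui huj hu (hsix1 (cube u j hu3 hjj hji hui huj))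
    rcases hj with rfl | rfl | rfl | rfl
    · exact ⟨-1, -1, -1, by norm_num, by norm_num, by norm_num, by rw [h]; module⟩
    · exact ⟨-1, 1, 1, by norm_num, by norm_num, by norm_num, by rw [h, mul_neg]; module⟩
    · exact ⟨-1, 1, -1, by norm_num, by norm_num, by norm_num, by rw [h, hi']; module⟩
    · exact ⟨-1, -1, 1, by norm_num, by norm_num, by norm_num, by rw [h, mul_neg, hi']; module⟩
  -- the other orientation: apply the formula to `u * u`
  have hu2 : u * u = -1 - u := by rw [← sub_eq_zero, ← hu]; abel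
  set j' := -(i * j) with hj'
  have hj'j : j' * j' = -1 := by
    rw [hj', neg_mul_neg, mul_assoc, ← mul_assoc j, hji, neg_mul, mul_neg, mul_assoc, hjj, mul_neg, mul_neg, neg_neg, mul_one, hi]
  have hj'i : j' * i = -(i * j') := by
    rw [hj', neg_mul, mul_neg, neg_neg, mul_assoc, hji, mul_neg, neg_neg, ← mul_assoc]
  have hij' : i * j' = j := by rw [hj', mul_neg, hi', neg_neg]
  have h1 : u * u * i = j' * (u * u) := by
    rw [mul_assoc, hui, ← mul_assoc, huj, mul_assoc]
  have h2 : u * u * j' = i * j' * (u * u) := by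
    have hu3 : u * (u * u) = 1 := by
      rw [hu2, ← sub_eq_zero, ← neg_eq_zero, ← hu]; noncomm_ring
    rw [hij']
    calc u * u * j' = u * u * (j' * (u * (u * u))) := by rw [hu3, mul_one]
      _ = u * u * (u * j) * (u * u) := by rw [huj]; noncomm_ring
      _ = u * (u * u) * j * (u * u) := by noncomm_ring
      _ = j * (u * u) := by rw [hu3, one_mul]
  have hu' : u * u * (u * u) + u * u + 1 = 0 := by
    have hu3 : u * (u * u) = 1 := by
      rw [hu2, ← sub_eq_zero, ← neg_eq_zero, ← hu]; noncomm_ring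
    rw [show u * u * (u * u) = u * (u * (u * u)) by noncomm_ring, hu3, mul_one, add_comm u]
    exact hu
  have hu23 : u * u * (u * u * (u * u)) = 1 := by
    calc u * u * (u * u * (u * u)) = u * (u * u) * (u * (u * u)) := by noncomm_ring
      _ = 1 := by rw [hu3, one_mul]
  have h := rot_formula hi hj'j hj'i h1 h2 hu' (hsix2 (cube (u * u) j' hu23 hj'j hj'i h1 h2))
  rw [hij'] at h
  have hue : u = -1 - u * u := by rw [hu2]; abel
  rcases hj with rfl | rfl | rfl | rfl
  · exact ⟨1, 1, -1, by norm_num, by norm_num, by norm_num, by rw [hue, h, hj']; module⟩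
  · exact ⟨1, -1, 1, by norm_num, by norm_num, by norm_num, by rw [hue, h, hj', mul_neg]; module⟩
  · exact ⟨1, 1, 1, by norm_num, by norm_num, by norm_num, by rw [hue, h, hj', hi']; module⟩
  · exact ⟨1, -1, -1, by norm_num, by norm_num, by norm_num, by rw [hue, h, hj', mul_neg, hi']; module⟩

/-- Two rotations over the same element of order 8 do not generate a finite group. -/
theorem no_two_rotations [Nontrivial R] {a b u₁ u₂ : R} (ha : a * (a * (a * a)) = -1) (hb : b * b = -1)
    (hba : b * a = -(a * (a * (a * b)))) (h1 : u₁ * u₁ + u₁ + 1 = 0) (h2 : u₂ * u₂ + u₂ + 1 = 0)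
    (hr1 : RotForm (a * a) b u₁) (hr2 : RotForm (a * a) (a * b) u₂) {N : ℕ} (hN : 0 < N)
    (hv : (u₁ * u₂) ^ N = 1) : False := by
  obtain ⟨α, β, γ, hα, hβ, hγ, e₁⟩ := hr1
  obtain ⟨α', β', γ', hα', hβ', hγ', e₂⟩ := hr2
  have ha' : ∀ x : R, a * (a * (a * (a * x))) = -x := fun x => by
    calc a * (a * (a * (a * x))) = a * (a * (a * a)) * x := by simp only [mul_assoc]
      _ = -x := by rw [ha, neg_one_mul]
  have hb' : ∀ x : R, b * (b * x) = -x := fun x => by rw [← mul_assoc, hb, neg_one_mul]
  have hba' : ∀ x : R, b * (a * x) = -(a * (a * (a * (b * x)))) := fun x => by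
    rw [← mul_assoc, hba, neg_mul]; simp only [mul_assoc]
  set v := u₁ * u₂
  set v' := (-1 - u₂) * (-1 - u₁) with hv'
  have hvv : v * v' = 1 := by
    have e : ∀ u : R, u * u + u + 1 = 0 → u * (-1 - u) = 1 := fun u hu => by
      rw [← sub_eq_zero, ← neg_eq_zero, ← hu]; noncomm_ring
    calc v * v' = u₁ * (u₂ * (-1 - u₂)) * (-1 - u₁) := by simp only [v, v', mul_assoc]
      _ = 1 := by rw [e u₂ h2, mul_one, e u₁ h1]
  set κ := (1 / 4 : ℚ) * (-(β * β') + β * γ' - γ * β' - γ * γ') with hκ
  set r := a - a * (a * a)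
  have key : v + v' - ((1 - α * α') / 2 : ℚ) • (1 : R) = κ • r := by
    simp only [v, v', r, hκ, e₁, e₂, sub_eq_add_neg, mul_add, add_mul, smul_mul_assoc, mul_smul_comm, smul_smul,
      smul_add, smul_neg, neg_smul, neg_mul, mul_neg, neg_neg, one_mul, mul_one, mul_assoc, ha, hb, hba, ha', hb', hba',
      neg_add_rev]
    module
  have hr : r * r = (2 : ℚ) • (1 : R) := by
    simp only [r, sub_eq_add_neg, mul_add, add_mul, neg_mul, mul_neg, neg_neg, mul_assoc, ha, ha', mul_one]
    module
  have hκ2 : κ * κ = 1 / 4 := by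
    rw [hκ]
    rcases hβ with rfl | rfl <;> rcases hγ with rfl | rfl <;> rcases hβ' with rfl | rfl <;>
      rcases hγ' with rfl | rfl <;> norm_num
  set A := Algebra.adjoin ℤ {v}
  have hvA : v ∈ A := Algebra.self_mem_adjoin_singleton ℤ v
  have hwA : v + v' - ((1 - α * α') / 2 : ℚ) • (1 : R) ∈ A := by
    refine A.sub_mem (A.add_mem hvA (inverse_mem_adjoin hN hv hvv)) ?_
    rcases hα with rfl | rfl <;> rcases hα' with rfl | rfl <;> norm_num <;> first | exact A.zero_mem | exact A.one_mem
  refine half_not_mem_adjoin hN hv ?_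
  have : algebraMap ℚ R (1 / 2) = (κ • r) * (κ • r) := by
    rw [smul_mul_smul_comm, hr, hκ2, smul_smul, Algebra.algebraMap_eq_smul_one]; norm_num
  rw [this, ← key]
  exact A.mul_mem hwA hwA

/-- A rotation and an element of order 3 inverted by `a`, centralizing the other quaternion group. -/
theorem no_inverted [Nontrivial R] {a b w u : R} (ha : a * (a * (a * a)) = -1) (hb : b * b = -1)
    (hba : b * a = -(a * (a * (a * b)))) (hw : w * w + w + 1 = 0) (hu : u * u + u + 1 = 0)
    (hbw : b * w = w * b) (haw : a * w = w * w * a) (hr : RotForm (a * a) (a * b) u) {N : ℕ} (hN : 0 < N)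
    (hv : (w * u) ^ N = 1) : False := by
  obtain ⟨α, β, γ, hα, hβ, hγ, e⟩ := hr
  have ha' : ∀ x : R, a * (a * (a * (a * x))) = -x := fun x => by
    calc a * (a * (a * (a * x))) = a * (a * (a * a)) * x := by simp only [mul_assoc]
      _ = -x := by rw [ha, neg_one_mul]
  have hb' : ∀ x : R, b * (b * x) = -x := fun x => by rw [← mul_assoc, hb, neg_one_mul]
  have hba' : ∀ x : R, b * (a * x) = -(a * (a * (a * (b * x)))) := fun x => by
    rw [← mul_assoc, hba, neg_mul]; simp only [mul_assoc]
  have hww : w * w = -1 + -w := by rw [← sub_eq_zero, ← hw]; abel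
  have hww' : ∀ x : R, w * (w * x) = -x + -(w * x) := fun x => by
    rw [← mul_assoc, hww, add_mul, neg_mul, neg_mul, one_mul]
  have haw1 : a * w = -a + -(w * a) := by rw [haw, hww, add_mul, neg_mul, neg_mul, one_mul]
  have haw' : ∀ x : R, a * (w * x) = -(a * x) + -(w * (a * x)) := fun x => by
    rw [← mul_assoc, haw1, add_mul, neg_mul, neg_mul, mul_assoc]
  have hbw' : ∀ x : R, b * (w * x) = w * (b * x) := fun x => by rw [← mul_assoc, hbw, mul_assoc]
  set v := w * u
  set v' := (-1 - u) * (-1 - w) with hv'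
  have e' : ∀ u : R, u * u + u + 1 = 0 → u * (-1 - u) = 1 := fun u hu => by
    rw [← sub_eq_zero, ← neg_eq_zero, ← hu]; noncomm_ring
  have hvv : v * v' = 1 := by
    calc v * v' = w * (u * (-1 - u)) * (-1 - w) := by simp only [v, v', mul_assoc]
      _ = 1 := by rw [e' u hu, mul_one, e' w hw]
  set S := v + v'
  have key1 : S = (1 / 2 : ℚ) • (1 : R) + (α / 2) • ((2 : ℚ) • (w * (a * a)) + a * a) := by
    simp only [S, v, v', e, sub_eq_add_neg, mul_add, add_mul, smul_mul_assoc, mul_smul_comm, smul_smul,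
      smul_add, smul_neg, neg_smul, neg_mul, mul_neg, neg_neg, one_mul, mul_one, mul_assoc, hww, hww', haw1, haw',
      hbw, hbw', neg_add_rev]
    module
  have key : S * S - S = algebraMap ℚ R (1 / 2) := by
    rw [Algebra.algebraMap_eq_smul_one, key1]
    rcases hα with rfl | rfl <;>
    · simp only [sub_eq_add_neg, mul_add, add_mul, smul_mul_assoc, mul_smul_comm, smul_smul,
        smul_add, smul_neg, neg_smul, neg_mul, mul_neg, neg_neg, one_mul, mul_one, mul_assoc, ha,
        ha', hww, hww', haw1, haw', neg_add_rev]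
      module
  set A := Algebra.adjoin ℤ {v}
  have hSA : S ∈ A := A.add_mem (Algebra.self_mem_adjoin_singleton ℤ v) (inverse_mem_adjoin hN hv hvv)
  exact half_not_mem_adjoin hN hv (key ▸ A.sub_mem (A.mul_mem hSA hSA) hSA)

end CfsgLib.PerfectCompl
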