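import Cfsg.Agent.Lib.PerfectCompl.Sixty

/-!
# The count giving order 60
-/

set_option autoImplicit false
set_option linter.style.haveILetI false
set_option linter.unusedSectionVars false

open scoped Classical

namespace CfsgLib.PerfectCompl

variable {G : Type*} [Group G] [Finite G]

theorem card_conj_mul {x : G} :
    Nat.card {w : G // ∃ g : G, g * x * g⁻¹ = w} * Nat.card (Subgroup.centralizer ({x} : Set G)) =
      Nat.card G := by
  letI := Fintype.ofFinite {w : G // ∃ g : G, g * x * g⁻¹ = w}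
  have hf : ∀ w : {w : G // ∃ g : G, g * x * g⁻¹ = w},
      Nat.card {g : G // g * x * g⁻¹ = w.1} = Nat.card (Subgroup.centralizer ({x} : Set G)) := by
    rintro ⟨w, g0, rfl⟩
    refine Nat.card_congr (Equiv.subtypeEquiv (Equiv.mulLeft g0⁻¹) fun g => ?_)
    show g * x * g⁻¹ = g0 * x * g0⁻¹ ↔ g0⁻¹ * g ∈ Subgroup.centralizer ({x} : Set G)
    rw [Subgroup.mem_centralizer_singleton_iff]
    constructor
    · intro h
      calc g0⁻¹ * g * x = g0⁻¹ * (g * x * g⁻¹) * g := by group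
        _ = x * (g0⁻¹ * g) := by rw [h]; group
    · intro h
      calc g * x * g⁻¹ = g0 * (g0⁻¹ * g * x) * g⁻¹ := by group
        _ = g0 * x * g0⁻¹ := by rw [h]; group
  rw [← Nat.card_congr (Equiv.sigmaFiberEquiv
    (fun g : G => (⟨g * x * g⁻¹, g, rfl⟩ : {w : G // ∃ g : G, g * x * g⁻¹ = w}))), Nat.card_sigma]
  rw [Finset.sum_congr rfl (fun w _ => ((Nat.card_congr (Equiv.subtypeEquivRight fun g =>
    Subtype.ext_iff)).trans (hf w)))]
  rw [Finset.sum_const, Finset.card_univ, smul_eq_mul, Nat.card_eq_fintype_card (α := {w : G // ∃ g : G, g * x * g⁻¹ = w})]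

/-- Odd order, nontrivial, centralized by no involution. -/
def IsFree (y : G) : Prop :=
  Odd (orderOf y) ∧ y ≠ 1 ∧ ∀ t : G, orderOf t = 2 → ¬ Commute t y

variable (hG : FourGood G)
include hG

theorem IsFree.odd_of_commute {y v : G} (hy : IsFree y) (h : Commute v y) : Odd (orderOf v) := by
  rcases two_part hG v with ho | ⟨m, -, -, hs, -, -⟩
  · exact ho
  · exact absurd (h.pow_left m) (hy.2.2 _ hs)

theorem IsFree.comm_trans {a b c : G} (hb : IsFree b) (hab : Commute a b) (hbc : Commute b c) : Commute a c :=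
  commute_odd_centralizer hG hb.1 hb.2.1 hab hbc.symm (hb.odd_of_commute hG hab) (hb.odd_of_commute hG hbc.symm)

theorem IsFree.of_commute {y v : G} (hy : IsFree y) (h : Commute v y) (h1 : v ≠ 1) : IsFree v :=
  ⟨hy.odd_of_commute hG h, h1, fun t ht htv =>
    hy.2.2 t ht (inv_commute_odd hG (hy.odd_of_commute hG h) h1 ht htv h.symm hy.1)⟩

omit hG in
theorem IsFree.conj {y : G} (hy : IsFree y) (g : G) : IsFree (g * y * g⁻¹) := by
  refine ⟨?_, by simpa using hy.2.1, fun t ht htc => hy.2.2 (g⁻¹ * t * g) ?_ ?_⟩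
  · rw [← MulAut.conj_apply, MulEquiv.orderOf_eq]; exact hy.1
  · rw [show g⁻¹ * t * g = MulAut.conj g⁻¹ t by simp, MulEquiv.orderOf_eq]; exact ht
  · have := commute_conj (g := g⁻¹) htc
    simpa [mul_assoc] using this

/-- The free elements centralizing a conjugate of `y`. -/
def classOf (y : G) : Set G := {z : G | IsFree z ∧ ∃ g : G, Commute (g * z * g⁻¹) y}

theorem class_count {y : G} (hy : IsFree y) :
    ∃ a : ℕ, Odd a ∧ 3 ≤ a ∧ (∀ x : G, Commute x y → orderOf x ∣ a) ∧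
      2 * a * (classOf y).ncard = Nat.card G * (a - 1) := by
  set C := Subgroup.centralizer ({y} : Set G) with hC
  have hmem : ∀ x, x ∈ C ↔ Commute x y := fun x => Subgroup.mem_centralizer_singleton_iff
  set a := Nat.card C
  have hodd : Odd a := by
    by_contra h
    haveI := Fact.mk Nat.prime_two
    obtain ⟨w, hw⟩ := exists_prime_orderOf_dvd_card' (G := C) 2 (even_iff_two_dvd.mp (Nat.not_odd_iff_even.mp h))
    exact hy.2.2 _ ((Subgroup.orderOf_coe w).trans hw) ((hmem _).mp w.2)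
  refine ⟨a, hodd, ?_, fun x hx => Subgroup.orderOf_dvd_natCard C ((hmem x).mpr hx), ?_⟩
  · have h1 : 1 < a := by
      refine Finite.one_lt_card_iff_nontrivial.mpr ⟨⟨⟨y, (hmem y).mpr (Commute.refl y)⟩, 1, fun h => ?_⟩⟩
      exact hy.2.1 (congrArg Subtype.val h)
    obtain ⟨k, hk⟩ := hodd
    omega
  obtain ⟨i, p, hp, hp2, hi⟩ := exists_prime_power hy.1 hy.2.1
  haveI := Fact.mk hp
  set y1 := y ^ i
  have hy1c : Commute y1 y := Commute.pow_left (Commute.refl y) i
  have hy11 : y1 ≠ 1 := fun h => hp.one_lt.ne (by rw [← hi, h, orderOf_one])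
  have hy1 : IsFree y1 := hy.of_commute hG hy1c hy11
  obtain ⟨r, hr, hry⟩ := exists_inverting hG hp2 hi
  have hCy : ∀ x, Commute x y1 ↔ Commute x y := fun x =>
    ⟨fun h => hy1.comm_trans hG h hy1c, fun h => hy.comm_trans hG h hy1c.symm⟩
  have hN : ∀ m : G, Commute (m * y * m⁻¹) y ↔ (m ∈ C ∨ r * m ∈ C) := by
    intro m
    rw [hmem, hmem]
    constructor
    · intro h
      have h1 : Commute (m * y1 * m⁻¹) y1 := by
        refine hy.comm_trans hG ?_ hy1c.symm
        exact (hy.conj m).comm_trans hG (commute_conj hy1c) h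
      have hpo : orderOf (m * y1 * m⁻¹) = p := by rw [← MulAut.conj_apply, MulEquiv.orderOf_eq]; exact hi
      have h2 : m * y1 * m⁻¹ ∈ Subgroup.zpowers y1 := by
        rw [← zpowers_eq_of_commute hG hp2 hi hpo h1.symm]; exact Subgroup.mem_zpowers _
      rcases conj_eq_or_inv hG hp2 hi h2 with e | e
      · exact Or.inl ((hCy m).mp (commute_iff_conj.mpr e))
      · refine Or.inr ((hCy _).mp (commute_iff_conj.mpr ?_))
        rw [mul_inv_rev, show r * m * y1 * (m⁻¹ * r⁻¹) = r * (m * y1 * m⁻¹) * r⁻¹ by group, e, ← conj_inv, hry, inv_inv]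
    · intro h
      have h1 : Commute (m * y1 * m⁻¹) y1 := by
        rcases h with h | h
        · rw [commute_iff_conj.mp ((hCy m).mpr h)]
        · have h' := commute_iff_conj.mp ((hCy _).mpr h)
          have : m * y1 * m⁻¹ = r⁻¹ * y1 * r := by
            calc m * y1 * m⁻¹ = r⁻¹ * (r * m * y1 * (r * m)⁻¹) * r := by group
              _ = _ := by rw [h']
          rw [this, show r⁻¹ * y1 * r = (r⁻¹ * y1⁻¹ * r)⁻¹ by group, ← hry,
            show r⁻¹ * (r * y1 * r⁻¹) * r = y1 by group]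
          exact (Commute.refl y1).inv_left
      exact (hy1.conj m).comm_trans hG (commute_conj hy1c.symm) (hy1.comm_trans hG h1 hy1c)
  have hNcard : Nat.card {m : G // Commute (m * y * m⁻¹) y} = 2 * a := by
    have hset : {m : G | Commute (m * y * m⁻¹) y} = (C : Set G) ∪ (fun c => r⁻¹ * c) '' (C : Set G) := by
      ext m
      rw [Set.mem_setOf_eq, hN, Set.mem_union, Set.mem_image]
      refine or_congr Iff.rfl ⟨fun h => ⟨r * m, h, by group⟩, ?_⟩
      rintro ⟨c, hc, rfl⟩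
      rwa [mul_inv_cancel_left]
    show Nat.card {m : G | Commute (m * y * m⁻¹) y} = 2 * a
    rw [Nat.card_coe_set_eq, hset, Set.ncard_union_eq, Set.ncard_image_of_injective _ (mul_right_injective _),
      ← Nat.card_coe_set_eq, two_mul]
    · rfl
    · rw [Set.disjoint_left]
      rintro m hm ⟨c, hc, rfl⟩
      have : r⁻¹ ∈ C := (Subgroup.mul_mem_cancel_right C hc).mp hm
      exact not_inverted hp2 hi hry ((hCy r).mpr ((hmem r).mp (inv_mem_iff.mp this)))
  -- double count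
  let X := {w : G // IsFree w ∧ Commute w y}
  have hX : Nat.card X = a - 1 := by
    have : Nat.card X = ((C : Set G) \ {1}).ncard := by
      rw [← Nat.card_coe_set_eq]
      exact Nat.card_congr (Equiv.subtypeEquivRight fun w =>
        ⟨fun h => ⟨(hmem w).mpr h.2, h.1.2.1⟩, fun h => ⟨hy.of_commute hG ((hmem w).mp h.1) h.2, (hmem w).mp h.1⟩⟩)
    rw [this, Set.ncard_diff_singleton_of_mem (one_mem C), ← Nat.card_coe_set_eq]
    rfl
  let f : G × X → classOf y := fun q => ⟨q.1⁻¹ * q.2.1 * q.1, by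
    simpa using q.2.2.1.conj q.1⁻¹, q.1, by
    rw [show q.1 * (q.1⁻¹ * q.2.1 * q.1) * q.1⁻¹ = q.2.1 by group]; exact q.2.2.2⟩
  have hf : ∀ z : classOf y, Nat.card {q : G × X // f q = z} = 2 * a := by
    rintro ⟨z, hz, g0, hg0⟩
    rw [← hNcard]
    have key : ∀ m : G, Commute (m * (g0 * z * g0⁻¹) * m⁻¹) y ↔ Commute (m * y * m⁻¹) y := by
      intro m
      constructor
      · intro h
        exact ((hz.conj g0).conj m).comm_trans hG (commute_conj hg0.symm) h
      · intro h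
        exact (hy.conj m).comm_trans hG (commute_conj hg0) h
    refine Nat.card_congr
      { toFun := fun q => ⟨q.1.1 * g0⁻¹, (key _).mp ?_⟩
        invFun := fun m => ⟨(m.1 * g0, ⟨m.1 * g0 * z * (m.1 * g0)⁻¹, hz.conj _, ?_⟩), ?_⟩
        left_inv := fun q => ?_
        right_inv := fun m => ?_ }
    · have h' : q.1.1⁻¹ * q.1.2.1 * q.1.1 = z := congrArg Subtype.val q.2
      have e : q.1.1 * g0⁻¹ * (g0 * z * g0⁻¹) * (q.1.1 * g0⁻¹)⁻¹ = q.1.2.1 :=
        (show _ = q.1.1 * z * q.1.1⁻¹ by group).trans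
          ((congrArg (fun x => q.1.1 * x * q.1.1⁻¹) h').symm.trans (by group))
      rw [e]; exact q.1.2.2.2
    · have := (key m.1).mpr m.2
      rwa [show m.1 * g0 * z * (m.1 * g0)⁻¹ = m.1 * (g0 * z * g0⁻¹) * m.1⁻¹ by group]
    · exact Subtype.ext (show (m.1 * g0)⁻¹ * (m.1 * g0 * z * (m.1 * g0)⁻¹) * (m.1 * g0) = z by group)
    · have h' : q.1.1⁻¹ * q.1.2.1 * q.1.1 = z := congrArg Subtype.val q.2
      refine Subtype.ext (Prod.ext (by simp) (Subtype.ext ?_))
      show q.1.1 * g0⁻¹ * g0 * z * (q.1.1 * g0⁻¹ * g0)⁻¹ = q.1.2.1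
      exact (show _ = q.1.1 * z * q.1.1⁻¹ by group).trans
          ((congrArg (fun x => q.1.1 * x * q.1.1⁻¹) h').symm.trans (by group))
    · exact Subtype.ext (by simp)
  letI := Fintype.ofFinite (classOf y)
  have hsum := Nat.card_congr (Equiv.sigmaFiberEquiv f)
  rw [Nat.card_sigma, Finset.sum_congr rfl (fun z _ => hf z), Finset.sum_const, Finset.card_univ,
    smul_eq_mul, Nat.card_prod, hX, ← Nat.card_eq_fintype_card, Nat.card_coe_set_eq] at hsum
  rw [← hsum, mul_comm]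

theorem classOf_disjoint {y y' : G} (hy' : IsFree y') (h : y' ∉ classOf y) :
    Disjoint (classOf y) (classOf y') := by
  rw [Set.disjoint_left]
  rintro z ⟨hz, g, hg⟩ ⟨-, g', hg'⟩
  refine h ⟨hy', g * g'⁻¹, ?_⟩
  have h1 : Commute (g * g'⁻¹ * y' * (g * g'⁻¹)⁻¹) (g * z * g⁻¹) := by
    have := commute_conj (g := g * g'⁻¹) hg'.symm
    rwa [show g * g'⁻¹ * (g' * z * g'⁻¹) * (g * g'⁻¹)⁻¹ = g * z * g⁻¹ by group] at this
  exact (hz.conj g).comm_trans hG h1 hg

omit hG in
theorem arith {g n d a b T c₁ c₂ : ℕ} (hg : g = 4 * d * n) (hT : g = 1 + n * d + n * (d - 1) + T)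
    (hd : Odd d) (hn : 0 < n) (ha : Odd a) (ha3 : 3 ≤ a) (hb : Odd b) (hb3 : 3 ≤ b)
    (h1 : 2 * a * c₁ = g * (a - 1)) (h2 : 2 * b * c₂ = g * (b - 1)) (hc : T = c₁ + c₂) :
    g = 60 ∨ (g = 12 ∧ a = 3 ∧ b = 3) := by
  obtain ⟨d', rfl⟩ : ∃ d', d = d' + 1 := ⟨d - 1, by rcases hd with ⟨k, rfl⟩; omega⟩
  obtain ⟨a', rfl⟩ : ∃ a', a = a' + 1 := ⟨a - 1, by omega⟩
  obtain ⟨b', rfl⟩ : ∃ b', b = b' + 1 := ⟨b - 1, by omega⟩
  simp only [Nat.add_sub_cancel] at h1 h2 hT
  subst hc hg
  zify at h1 h2 hT hn ha3 hb3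
  have e : (2 * ((a' : ℤ) + 1) * ((b' : ℤ) + 1)) * (c₁ + c₂) =
      4 * (d' + 1) * n * ((a' : ℤ) * (b' + 1) + b' * (a' + 1)) := by
    linear_combination ((b' : ℤ) + 1) * h1 + ((a' : ℤ) + 1) * h2
  have e2 : (c₁ : ℤ) + c₂ = 4 * (d' + 1) * n - 1 - n * (d' + 1) - n * d' := by linarith
  rw [e2] at e
  set A : ℤ := (a' : ℤ) + 1 with hA
  set B : ℤ := (b' : ℤ) + 1 with hB
  have hA3 : 3 ≤ A := ha3
  have hB3 : 3 ≤ B := hb3
  have e3 : 2 * (d' + 1 : ℤ) * n * (A * B - A - B) = A * B * (n - 1) := by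
    rw [show (a' : ℤ) = A - 1 by rw [hA]; ring, show (b' : ℤ) = B - 1 by rw [hB]; ring] at e
    have e' : 2 * (2 * (d' + 1 : ℤ) * n * (A * B - A - B)) = 2 * (A * B * (n - 1)) := by
      linear_combination (-1 : ℤ) * e
    linarith
  have hd0 : d' = 0 := by
    by_contra hd0
    have h3 : (3 : ℤ) ≤ d' + 1 := by
      rcases hd with ⟨k, hk⟩
      omega
    have h4 : A * B ≤ 3 * (A * B - A - B) := by nlinarith
    have h5 : 0 ≤ A * B - A - B := by nlinarith
    nlinarith [mul_le_mul_of_nonneg_left h4 (show (0 : ℤ) ≤ 2 * n by positivity),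
      mul_le_mul_of_nonneg_right h3 (show (0 : ℤ) ≤ 2 * n * (A * B - A - B) by positivity),
      mul_pos (show (0:ℤ) < A by linarith) (show (0:ℤ) < B by linarith)]
  subst hd0
  simp only [Nat.cast_zero, zero_add, mul_one] at e3
  have e4 : (n : ℤ) * (A * B - 2 * A - 2 * B) + A * B = 0 := by linarith
  have e5 : (A - 2) * (B - 2) < 4 := by nlinarith
  have hA5 : A < 7 := by nlinarith
  have hB5 : B < 7 := by nlinarith
  have hA' : a' + 1 = 3 ∨ a' + 1 = 5 := by rcases ha with ⟨k, hk⟩; omega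
  have hB' : b' + 1 = 3 ∨ b' + 1 = 5 := by rcases hb with ⟨k, hk⟩; omega
  rcases hA' with h | h <;> rcases hB' with h' | h' <;>
    rw [show A = ((a' + 1 : ℕ) : ℤ) by push_cast; rfl, show B = ((b' + 1 : ℕ) : ℤ) by push_cast; rfl, h, h'] at e4 <;>
    simp only [Nat.zero_add, mul_one] <;> push_cast at e4 <;> omega

/-- The count. -/
theorem card_eq_sixty : Nat.card G = 60 := by
  haveI := Fact.mk Nat.prime_two
  obtain ⟨P⟩ : Nonempty (Sylow 2 G) := inferInstance
  obtain ⟨t0, ht0⟩ := exists_prime_orderOf_dvd_card' (G := G) 2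
    ((show 2 ∣ 4 by norm_num).trans (hG.card2 P ▸ Subgroup.card_subgroup_dvd_card _))
  set I := {t : G // orderOf t = 2}
  let D : G → Type _ := fun t => {z : G // Commute z t ∧ Odd (orderOf z)}
  set n := Nat.card I
  set d := Nat.card (D t0) with hd
  have hDconst : ∀ t : I, Nat.card (D t.1) = d := by
    intro t
    obtain ⟨g, hg⟩ := involutions_conj hG t.2 ht0
    refine Nat.card_congr (Equiv.subtypeEquiv (MulAut.conj g).toEquiv fun z => ?_)
    show Commute z t.1 ∧ Odd (orderOf z) ↔ Commute (g * z * g⁻¹) t0 ∧ Odd (orderOf (g * z * g⁻¹))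
    rw [← MulAut.conj_apply g z, MulEquiv.orderOf_eq, MulAut.conj_apply, ← hg]
    refine and_congr ⟨commute_conj, fun h => ?_⟩ Iff.rfl
    have := commute_conj (g := g⁻¹) h
    simpa [mul_assoc] using this
  -- the centralizer of an involution
  have hC : Odd d ∧ Nat.card (Subgroup.centralizer ({t0} : Set G)) = 4 * d := by
    set C := Subgroup.centralizer ({t0} : Set G)
    obtain ⟨K, -, hK, hKmem, hKi⟩ := exists_odd_core hG (M := C) (Or.inr ⟨t0,
      Subgroup.mem_centralizer_singleton_iff.mpr rfl, ht0, fun x hx => Subgroup.mem_centralizer_singleton_iff.mp hx⟩)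
    have hKd : Nat.card K = d := Nat.card_congr
      { toFun := fun k => ⟨((k : C) : G), Subgroup.mem_centralizer_singleton_iff.mp (k : C).2,
          by rw [Subgroup.orderOf_coe]; exact (hKmem _).mpr k.2⟩
        invFun := fun z => ⟨⟨z.1, Subgroup.mem_centralizer_singleton_iff.mpr z.2.1⟩,
          (hKmem _).mp (by rw [Subgroup.orderOf_mk]; exact z.2.2)⟩
        left_inv := fun k => rfl
        right_inv := fun z => rfl }
    obtain ⟨g, -, hg⟩ := exists_conj_mem hG (M := ⊤) (V := (P : Subgroup G)) le_top (hG.card2 P)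
      (r := t0) (Subgroup.mem_top _) (ht0 ▸ pow_orderOf_eq_one t0)
    have ht0P : t0 ∈ ((g⁻¹ • P : Sylow 2 G) : Subgroup G) := by
      rw [Sylow.coe_subgroup_smul]
      exact ⟨_, hg, by simp [MulAut.conj_apply, mul_assoc]⟩
    set P' := g⁻¹ • P
    have hle : (P' : Subgroup G) ≤ C := fun x hx => by
      refine Subgroup.mem_centralizer_singleton_iff.mpr ?_
      have hsq : ∀ z ∈ (P' : Subgroup G), z⁻¹ = z := fun z hz => by
        obtain ⟨k, hk⟩ := P'.2 ⟨z, hz⟩
        have := sq_eq_one_of_two_power hG (k := k) (g := z) (by simpa using congrArg Subtype.val hk)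
        exact inv_eq_of_mul_eq_one_right (by rw [← pow_two]; exact this)
      calc x * t0 = (x * t0)⁻¹ := (hsq _ (mul_mem hx ht0P)).symm
        _ = t0 * x := by rw [mul_inv_rev, hsq x hx, hsq t0 ht0P]
    have hi := hKi (P'.subtype hle)
    replace hi : K.index = 4 :=
      hi.trans ((Nat.card_congr (Subgroup.subgroupOfEquivOfLe hle).toEquiv).trans (hG.card2 P'))
    exact ⟨hKd ▸ hK, by rw [← K.card_mul_index, hKd, hi, mul_comm]⟩
  have hg : Nat.card G = 4 * d * n := by
    rw [← card_conj_mul (x := t0), hC.2, mul_comm]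
    congr 1
    refine Nat.card_congr (Equiv.subtypeEquivRight fun w => ⟨?_, fun hw => involutions_conj hG ht0 hw⟩)
    rintro ⟨g, rfl⟩
    rw [← MulAut.conj_apply, MulEquiv.orderOf_eq]; exact ht0
  have hn : 0 < n := Nat.card_pos_iff.mpr ⟨⟨⟨t0, ht0⟩⟩, inferInstance⟩
  letI := Fintype.ofFinite I
  -- elements of even order
  have hEven : Nat.card {g : G // ¬ Odd (orderOf g)} = n * d := by
    let f : (Σ t : I, D t.1) → {g : G // ¬ Odd (orderOf g)} := fun q => ⟨q.1.1 * q.2.1, by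
      have hc : Commute q.1.1 q.2.1 := q.2.2.1.symm
      rw [hc.orderOf_mul_eq_mul_orderOf_of_coprime (by rw [q.1.2]; exact q.2.2.2.coprime_two_left), q.1.2]
      exact fun h => Nat.not_even_iff_odd.mpr h (even_two_mul _)⟩
    have hf : Function.Bijective f := by
      refine ⟨?_, ?_⟩
      · rintro ⟨t, z, hz, hzo⟩ ⟨t', z', hz', hzo'⟩ h
        have h' : t.1 * z = t'.1 * z' := congrArg Subtype.val h
        have hN : ∀ (s : I) (w : G), Commute w s.1 → Odd (orderOf w) → ∀ N : ℕ, Odd N → orderOf w ∣ N →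
            (s.1 * w) ^ N = s.1 := by
          intro s w hw _ N hN hd
          obtain ⟨k, rfl⟩ := hN
          rw [hw.symm.mul_pow, orderOf_dvd_iff_pow_eq_one.mp hd, mul_one, pow_succ, pow_mul,
            show s.1 ^ 2 = 1 by simpa [s.2] using pow_orderOf_eq_one s.1, one_pow, one_mul]
        have ht : t = t' := Subtype.ext (by
          rw [← hN t z hz hzo _ (hzo.mul hzo') (dvd_mul_right _ _), h',
            hN t' z' hz' hzo' _ (hzo.mul hzo') (dvd_mul_left _ _)])
        subst ht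
        rw [mul_right_inj] at h'
        subst h'
        rfl
      · rintro ⟨g, hg⟩
        rcases two_part hG g with ho | ⟨m, -, -, hs, hd, hsd⟩
        · exact absurd ho hg
        · exact ⟨⟨⟨g ^ m, hs⟩, ⟨g ^ (m + 1), (Commute.refl g).pow_pow _ _, hd⟩⟩, Subtype.ext hsd⟩
    rw [← Nat.card_congr (Equiv.ofBijective f hf), Nat.card_sigma, Finset.sum_congr rfl (fun t _ => hDconst t),
      Finset.sum_const, Finset.card_univ, smul_eq_mul, ← Nat.card_eq_fintype_card]
  have hEodd : {y : G | Odd (orderOf y) ∧ y ≠ 1 ∧ ∃ t, orderOf t = 2 ∧ Commute t y}.ncard = n * (d - 1) := by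
    let f : (Σ t : I, {z : D t.1 // z.1 ≠ 1}) →
        {y : G | Odd (orderOf y) ∧ y ≠ 1 ∧ ∃ t, orderOf t = 2 ∧ Commute t y} :=
      fun q => ⟨q.2.1.1, q.2.1.2.2, q.2.2, q.1.1, q.1.2, q.2.1.2.1.symm⟩
    have hf : Function.Bijective f := by
      refine ⟨?_, ?_⟩
      · rintro ⟨t, ⟨z, hz, hzo⟩, hz1⟩ ⟨t', ⟨z', hz', hzo'⟩, hz1'⟩ h
        have h' : z = z' := congrArg Subtype.val h
        subst h'
        have ht : t = t' := Subtype.ext (inv_unique hG hzo hz1 t.2 t'.2 hz.symm hz'.symm)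
        subst ht
        rfl
      · rintro ⟨y, hy, hy1, t, ht, hty⟩
        exact ⟨⟨⟨t, ht⟩, ⟨⟨y, hty.symm, hy⟩, hy1⟩⟩, rfl⟩
    have hfib : ∀ t : I, Nat.card {z : D t.1 // z.1 ≠ 1} = d - 1 := by
      intro t
      let one : D t.1 := ⟨1, Commute.one_left _, by simp⟩
      have : Nat.card {z : D t.1 // z.1 ≠ 1} = ({one}ᶜ : Set (D t.1)).ncard := by
        rw [← Nat.card_coe_set_eq]
        exact Nat.card_congr (Equiv.subtypeEquivRight fun z =>
          ⟨fun h e => h (congrArg Subtype.val (Set.mem_singleton_iff.mp e)), fun h e => h (Subtype.ext e)⟩)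
      rw [this, Set.ncard_compl, Set.ncard_singleton, hDconst]
    rw [← Nat.card_coe_set_eq, ← Nat.card_congr (Equiv.ofBijective f hf), Nat.card_sigma,
      Finset.sum_congr rfl (fun t _ => hfib t), Finset.sum_const, Finset.card_univ, smul_eq_mul,
      ← Nat.card_eq_fintype_card]
  set S := {y : G | IsFree y}
  have hT : Nat.card G = 1 + n * d + n * (d - 1) + S.ncard := by
    have h0 : Nat.card G = {g : G | ¬ Odd (orderOf g)}.ncard + {g : G | Odd (orderOf g)}.ncard := by
      rw [← Set.ncard_add_ncard_compl {g : G | Odd (orderOf g)}, add_comm, Set.compl_setOf]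
    have h1 : {g : G | Odd (orderOf g)} =
        insert 1 ({y : G | Odd (orderOf y) ∧ y ≠ 1 ∧ ∃ t, orderOf t = 2 ∧ Commute t y} ∪ S) := by
      ext g
      simp only [Set.mem_insert_iff, Set.mem_union, Set.mem_setOf_eq, S, IsFree]
      constructor
      · intro h
        by_cases hg1 : g = 1
        · exact Or.inl hg1
        by_cases ht : ∃ t, orderOf t = 2 ∧ Commute t g
        · exact Or.inr (Or.inl ⟨h, hg1, ht⟩)
        · exact Or.inr (Or.inr ⟨h, hg1, fun t ht' hc => ht ⟨t, ht', hc⟩⟩)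
      · rintro (rfl | ⟨h, -⟩ | ⟨h, -⟩) <;> first | simp | exact h
    rw [h0, h1, Set.ncard_insert_of_notMem, Set.ncard_union_eq, hEodd, ← Nat.card_coe_set_eq,
      show Nat.card {g : G | ¬ Odd (orderOf g)} = n * d from hEven]
    · ring
    · rw [Set.disjoint_left]
      rintro y ⟨-, -, t, ht, hc⟩ ⟨-, -, h⟩
      exact h t ht hc
    · simp [S, IsFree]
  have hpos : 0 < d := hC.1.pos
  have hnd : n ≤ n * d := Nat.le_mul_of_pos_right n hpos
  have hTval : S.ncard + 1 = 2 * (n * d) + n := by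
    have : n * (d - 1) + n = n * d := by rw [← Nat.mul_succ]; congr 1; omega
    rw [hg, show 4 * d * n = 4 * (n * d) by ring] at hT
    omega
  have hclass : ∀ y, classOf y ⊆ S := fun y z hz => hz.1
  -- first class
  obtain ⟨y₁, hy₁⟩ := Set.nonempty_of_ncard_ne_zero (s := S) (by omega)
  obtain ⟨a, ha, ha3, hda, h1⟩ := class_count hG hy₁
  have hlt : ∀ {a c : ℕ}, 3 ≤ a → 2 * a * c = Nat.card G * (a - 1) →
      2 * c < Nat.card G ∧ Nat.card G ≤ 3 * c := by
    intro a c ha h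
    obtain ⟨a, rfl⟩ : ∃ k, a = k + 1 := ⟨a - 1, by omega⟩
    rw [Nat.add_sub_cancel] at h
    have hG0 : 0 < Nat.card G := Nat.card_pos
    refine ⟨lt_of_mul_lt_mul_left (a := a + 1) ?_ (Nat.zero_le _), le_of_mul_le_mul_left (a := a + 1) ?_ (by omega)⟩
    · calc (a + 1) * (2 * c) = 2 * (a + 1) * c := by ring
        _ = Nat.card G * a := h
        _ < (a + 1) * Nat.card G := by rw [mul_comm (a + 1)]; exact Nat.mul_lt_mul_of_pos_left (by omega) hG0
    · have : 2 * ((a + 1) * Nat.card G) ≤ 3 * (Nat.card G * a) := by nlinarith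
      rw [← h] at this
      nlinarith
  obtain ⟨y₂, hy₂, hy₂n⟩ : ∃ y₂ ∈ S, y₂ ∉ classOf y₁ := by
    by_contra hall
    push Not at hall
    have := Set.ncard_le_ncard (show S ⊆ classOf y₁ from hall)
    have h' := (hlt ha3 h1).1
    rw [hg, show 4 * d * n = 4 * (n * d) by ring] at h'
    omega
  obtain ⟨b, hb, hb3, hdb, h2⟩ := class_count hG hy₂
  have hdis := classOf_disjoint hG hy₂ hy₂n
  have hsum : S.ncard = (classOf y₁).ncard + (classOf y₂).ncard := by
    rw [← Set.ncard_union_eq hdis]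
    congr 1
    refine (Set.Subset.antisymm (Set.union_subset (hclass _) (hclass _)) fun z hz => ?_).symm
    by_contra hn'
    rw [Set.mem_union, not_or] at hn'
    obtain ⟨c, hc, hc3, -, h3⟩ := class_count hG (show IsFree z from hz)
    have hd2 : Disjoint (classOf y₁ ∪ classOf y₂) (classOf z) :=
      Set.disjoint_union_left.mpr ⟨classOf_disjoint hG hz hn'.1, classOf_disjoint hG hz hn'.2⟩
    have hle := Set.ncard_le_ncard (Set.union_subset (Set.union_subset (hclass y₁) (hclass y₂)) (hclass z))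
    rw [Set.ncard_union_eq hd2, Set.ncard_union_eq hdis] at hle
    have e1 := (hlt ha3 h1).2
    have e2 := (hlt hb3 h2).2
    have e3 := (hlt hc3 h3).2
    rw [hg, show 4 * d * n = 4 * (n * d) by ring] at e1 e2 e3
    omega
  rcases arith hg hT hC.1 hn ha ha3 hb hb3 h1 h2 hsum with h | ⟨h, rfl, rfl⟩
  · exact h
  -- order 12: the two classes would coincide
  exfalso
  haveI := Fact.mk Nat.prime_three
  have hf : (Nat.card G).factorization 3 = 1 := by
    rw [h, show (12 : ℕ) = 2 ^ 2 * 3 by norm_num, Nat.factorization_mul (by norm_num) (by norm_num),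
      Nat.Prime.factorization_pow Nat.prime_two, Nat.Prime.factorization Nat.prime_three]
    simp
  have hsy : ∀ y, IsFree y → orderOf y ∣ 3 → ∃ Q : Sylow 3 G, (Q : Subgroup G) = Subgroup.zpowers y := by
    intro y hy hd3
    have ho : orderOf y = 3 :=
      ((Nat.dvd_prime Nat.prime_three).mp hd3).resolve_left fun h => hy.2.1 (orderOf_eq_one_iff.mp h)
    have hcz : Nat.card (Subgroup.zpowers y) = 3 ^ (Nat.card G).factorization 3 := by
      rw [Nat.card_zpowers, ho, hf, pow_one]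
    exact ⟨Sylow.ofCard _ hcz, rfl⟩
  obtain ⟨Q₁, hQ₁⟩ := hsy y₁ hy₁ (hda y₁ (Commute.refl _))
  obtain ⟨Q₂, hQ₂⟩ := hsy y₂ hy₂ (hdb y₂ (Commute.refl _))
  obtain ⟨g, hg'⟩ := MulAction.exists_smul_eq G Q₂ Q₁
  refine hy₂n ⟨hy₂, g, ?_⟩
  have hm : g * y₂ * g⁻¹ ∈ (Q₁ : Subgroup G) := by
    rw [← hg', Sylow.coe_subgroup_smul, hQ₂]; exact ⟨y₂, Subgroup.mem_zpowers _, rfl⟩
  rw [hQ₁] at hm
  obtain ⟨i, hi⟩ := hm
  exact hi ▸ (Commute.refl y₁).zpow_left i

end CfsgLib.PerfectCompl
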