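import Cfsg.Agent.Lib.PerfectCompl.Two
import Cfsg.Agent.Lib.PerfectCompl.Count
import Cfsg.Agent.Lib.PerfectCompl.Cover
import Cfsg.Agent.Lib.Transfer.Thompson

/-!
# Perfect groups acting fixed point freely are `SL(2, 5)`
-/

set_option autoImplicit false
set_option linter.style.haveILetI false
set_option linter.unusedSectionVars false

open scoped Classical

namespace CfsgLib.PerfectCompl

open CfsgLib.FrobCompl

universe u

variable {H : Type u} [Group H] [Finite H] [Nontrivial H] (hH : HasFpf H) (hperf : commutator H = ⊤)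
include hH hperf

theorem exists_involution : ∃ z : H, orderOf z = 2 := by
  haveI := Fact.mk Nat.prime_two
  by_contra hno
  push Not at hno
  have hodd : Odd (Nat.card H) := by
    by_contra h
    obtain ⟨z, hz⟩ := exists_prime_orderOf_dvd_card' (G := H) 2 (even_iff_two_dvd.mp (Nat.not_odd_iff_even.mp h))
    exact hno z hz
  haveI : IsCyclic (⊤ : Subgroup H) :=
    isCyclic_of_odd (oddGood hH hperf) (by rwa [Subgroup.card_top])
  haveI : IsCyclic H := Subgroup.topEquiv.isCyclic.mp inferInstance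
  letI := IsCyclic.commGroup (α := H)
  exact not_solvable_of_perfect hperf inferInstance

omit hperf in
theorem zpowers_normal {z : H} (hz : orderOf z = 2) : (Subgroup.zpowers z).Normal := ⟨fun x hx g => by
  obtain ⟨i, rfl⟩ := Subgroup.mem_zpowers_iff.mp hx
  rw [← ((involution_central hH hz g).zpow_left i).eq, mul_inv_cancel_right]
  exact ⟨i, rfl⟩⟩

theorem sylow_two_structure {z : H} (hz : orderOf z = 2) (P : Sylow 2 H) :
    Nat.card (P : Subgroup H) = 8 ∧ ∀ x ∈ (P : Subgroup H), x ^ 4 = 1 := by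
  haveI := Fact.mk Nat.prime_two
  have hzc := involution_central hH hz
  haveI := zpowers_normal hH hz
  have hzP : z ∈ (P : Subgroup H) := by
    have hp : IsPGroup 2 (Subgroup.zpowers z) :=
      IsPGroup.of_card (n := 1) (by rw [Nat.card_zpowers, hz, pow_one])
    exact (le_sup_left.trans (P.3 (hp.to_sup_of_normal_left P.2) le_sup_right).le) (Subgroup.mem_zpowers z)
  have hz1 : z ≠ 1 := fun h => by rw [h, orderOf_one] at hz; omega
  have hzz : z * z = 1 := by rw [← pow_two, ← hz, pow_orderOf_eq_one]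
  have huniq : ∀ x y : (P : Subgroup H), orderOf x = 2 → orderOf y = 2 → x = y := fun x y hx hy =>
    Subtype.ext (involution_eq hH ((Subgroup.orderOf_coe x).trans hx) ((Subgroup.orderOf_coe y).trans hy))
  rcases CfsgLib.ZStar.unique_involution_structure P.2 huniq with h | ⟨a', n, hn, ha, hexp, hidx, hout⟩
  · exfalso
    obtain ⟨K, -, -, hK, hle⟩ := exists_complement P hzP hz (fun g _ => (hzc g).symm)
    rw [hperf, top_le_iff] at hle
    apply hK
    rw [hle, Subgroup.card_top, ← hz]
    exact orderOf_dvd_natCard z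
  set a : H := (a' : H)
  have hao : orderOf a = 2 ^ n := (Subgroup.orderOf_coe a').trans ha
  -- the subgroup `⟨a⟩`
  set Q := Subgroup.zpowers a
  have hQP : Q ≤ (P : Subgroup H) := Subgroup.zpowers_le.mpr a'.2
  have hQmap : Q.subgroupOf (P : Subgroup H) = Subgroup.zpowers a' := by
    ext x
    rw [Subgroup.mem_subgroupOf, Subgroup.mem_zpowers_iff, Subgroup.mem_zpowers_iff]
    exact exists_congr fun k => by rw [Subtype.ext_iff]; simp [a]
  have hQi : Q.relIndex (P : Subgroup H) = 2 := by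
    show (Q.subgroupOf (P : Subgroup H)).index = 2
    rw [hQmap, hidx]
  have hzQ : z ∈ Q := by
    have h := involution_eq hH (y := a ^ 2 ^ (n - 1)) (z := z) (by
      rw [orderOf_pow' _ (pow_ne_zero _ two_ne_zero), hao, Nat.gcd_eq_right (pow_dvd_pow 2 (Nat.sub_le n 1)),
        Nat.pow_div (Nat.sub_le n 1) two_pos, show n - (n - 1) = 1 by omega, pow_one]) hz
    exact h ▸ Subgroup.pow_mem _ (Subgroup.mem_zpowers a) _
  have hcard : Nat.card (P : Subgroup H) = 2 * 2 ^ n := by
    rw [← Subgroup.card_mul_index (Subgroup.zpowers a'), Nat.card_zpowers, ha, hidx, mul_comm]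
  rcases (show n = 2 ∨ 3 ≤ n by omega) with rfl | hn3
  · exact ⟨by rw [hcard]; norm_num, fun x hx => by
      simpa using congrArg Subtype.val (hexp ⟨x, hx⟩)⟩
  exfalso
  set A := a ^ 2 ^ (n - 3) with hA
  have hAo : orderOf A = 8 := by
    rw [hA, orderOf_pow' _ (pow_ne_zero _ two_ne_zero), hao, Nat.gcd_eq_right (pow_dvd_pow 2 (Nat.sub_le n 3)),
      Nat.pow_div (Nat.sub_le n 3) two_pos, show n - (n - 3) = 3 by omega]
    norm_num
  have hAQ : A ∈ Q := Subgroup.pow_mem _ (Subgroup.mem_zpowers a) _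
  obtain ⟨b', hb'⟩ : ∃ x, x ∉ Subgroup.zpowers a' := by
    by_contra h
    push Not at h
    rw [show Subgroup.zpowers a' = ⊤ from eq_top_iff.mpr fun x _ => h x, Subgroup.index_top] at hidx
    omega
  have hbQ : ∀ b : H, b ∈ (P : Subgroup H) → b ∉ Q → b * A * b⁻¹ = A⁻¹ ∧ b * b = z := by
    intro b hb hbn
    set b'' : (P : Subgroup H) := ⟨b, hb⟩
    have hb'' : b'' ∉ Subgroup.zpowers a' := by
      rw [← hQmap, Subgroup.mem_subgroupOf]; exact hbn
    have hconj : b * a * b⁻¹ = a⁻¹ := congrArg Subtype.val (hout b'' hb'')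
    refine ⟨by rw [hA, ← conj_pow, hconj, inv_pow], ?_⟩
    obtain ⟨k, hk⟩ : b'' * b'' ∈ Subgroup.zpowers a' := Subgroup.mul_self_mem_of_index_two hidx b''
    have hk' : a ^ k = b * b := by simpa [a, b''] using congrArg Subtype.val hk
    have h1 : b * (b * b) * b⁻¹ = (b * b)⁻¹ := by rw [← hk', ← conj_zpow, hconj, inv_zpow]
    rw [show b * (b * b) * b⁻¹ = b * b by group, eq_inv_iff_mul_eq_one] at h1
    rcases eq_or_ne (b * b) 1 with h | h
    · exfalso
      rcases eq_or_ne b 1 with h' | h'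
      · exact hbn (h' ▸ one_mem Q)
      · exact hbn (involution_eq hH (orderOf_eq_prime (by rw [pow_two]; exact h) h') hz ▸ hzQ)
    · exact involution_eq hH (orderOf_eq_prime (by rw [pow_two]; exact h1) h) hz
  set i := A * A
  have hiQ : i ∈ Q := mul_mem hAQ hAQ
  have hi2 : i * i = z := involution_eq hH (by
    rw [show i * i = A ^ 4 by simp [i, pow_succ, mul_assoc], orderOf_pow' _ (by norm_num), hAo]
    norm_num) hz
  have hconj : ∀ b : H, b ∈ (P : Subgroup H) → b ∉ Q → ∃ g : H, g * b * g⁻¹ = i ∨ g * b * g⁻¹ = i * z := by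
    intro b hb hbn
    set π := QuotientGroup.mk' (Subgroup.zpowers z)
    have hker : π.ker ≤ Q := by rw [QuotientGroup.ker_mk']; exact Subgroup.zpowers_le.mpr hzQ
    have hri : (Q.map π).relIndex ((P.mapSurjective (QuotientGroup.mk'_surjective (Subgroup.zpowers z)) :
        Sylow 2 (H ⧸ Subgroup.zpowers z)) : Subgroup (H ⧸ Subgroup.zpowers z)) = 2 := by
      show (Q.map π).relIndex ((P : Subgroup H).map π) = 2
      rw [Subgroup.relIndex_map_map, sup_of_le_left hker, sup_of_le_left (hker.trans hQP), hQi]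
    have hbb : π b * π b = 1 := by
      rw [← map_mul, (hbQ b hb hbn).2]; exact (QuotientGroup.eq_one_iff z).mpr (Subgroup.mem_zpowers z)
    have hbn' : π b ∉ Q.map π := by
      rintro ⟨q, hq, he⟩
      refine hbn ?_
      have : q⁻¹ * b ∈ Q := hker (by
        rw [MonoidHom.mem_ker, map_mul, map_inv, he, inv_mul_cancel])
      have h := mul_mem (SetLike.mem_coe.mp hq) this
      rwa [mul_inv_cancel_left] at h
    rcases CfsgLib.Transfer.thompson_transfer _ hri hbb (Subgroup.mem_map_of_mem π hb) hbn' with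
      ⟨M, hMn, hMi, -⟩ | ⟨g', -, hg'⟩
    · exfalso
      haveI := hMn
      have hperfG : commutator (H ⧸ Subgroup.zpowers z) = ⊤ := by
        rw [commutator_def, ← Subgroup.map_top_of_surjective π (QuotientGroup.mk'_surjective _),
          ← Subgroup.map_commutator, ← commutator_def, hperf]
      haveI : IsCyclic ((H ⧸ Subgroup.zpowers z) ⧸ M) :=
        isCyclic_of_prime_card (p := 2) (by rw [← Subgroup.index_eq_card, hMi])
      letI := IsCyclic.commGroup (α := (H ⧸ Subgroup.zpowers z) ⧸ M)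
      have := Abelianization.commutator_subset_ker (QuotientGroup.mk' M)
      rw [hperfG, QuotientGroup.ker_mk', top_le_iff] at this
      rw [this, Subgroup.index_top] at hMi
      omega
    · obtain ⟨g, rfl⟩ := QuotientGroup.mk'_surjective _ g'
      rw [← map_inv, ← map_mul, ← map_mul] at hg'
      obtain ⟨q, hq, he⟩ := hg'
      have hcQ : g * b * g⁻¹ ∈ Q := by
        have : q⁻¹ * (g * b * g⁻¹) ∈ Q := hker (by
          rw [MonoidHom.mem_ker, map_mul, map_inv, he, inv_mul_cancel])
        have h := mul_mem (SetLike.mem_coe.mp hq) this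
        rwa [mul_inv_cancel_left] at h
      refine ⟨g, ?_⟩
      set c := g * b * g⁻¹
      have hc2 : c * c = z := by
        rw [show c * c = g * (b * b) * g⁻¹ by simp [c, mul_assoc], (hbQ b hb hbn).2, ← (hzc g).eq,
          mul_inv_cancel_right]
      obtain ⟨k1, hk1⟩ := Subgroup.mem_zpowers_iff.mp hcQ
      obtain ⟨k2, hk2⟩ := Subgroup.mem_zpowers_iff.mp hiQ
      have hci : Commute c i := hk1 ▸ hk2 ▸ ((Commute.refl a).zpow_zpow k1 k2)
      have h1 : (i⁻¹ * c) * (i⁻¹ * c) = 1 := by
        rw [hci.inv_right.mul_mul_mul_comm, hc2, ← mul_inv_rev, hi2, inv_mul_cancel]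
      rcases eq_or_ne (i⁻¹ * c) 1 with h | h
      · exact Or.inl (inv_mul_eq_one.mp h).symm
      · exact Or.inr (inv_mul_eq_iff_eq_mul.mp (involution_eq hH (orderOf_eq_prime (by rw [pow_two]; exact h1) h) hz))
  have hbn : (b' : H) ∉ Q := fun h => hb' (hQmap ▸ Subgroup.mem_subgroupOf.mpr h)
  have h16 : Q16 z A (b' : H) :=
    ⟨hz, hAo, (hbQ _ b'.2 hbn).1, (hbQ _ b'.2 hbn).2, hconj _ b'.2 hbn,
      hconj _ (mul_mem (hQP hAQ) b'.2) fun h => hbn (by simpa using mul_mem (inv_mem hAQ) h)⟩
  exact false_of_q16 hH hperf h16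

theorem fourGood {z : H} (hz : orderOf z = 2) [(Subgroup.zpowers z).Normal] :
    FourGood (H ⧸ Subgroup.zpowers z) := by
  haveI := Fact.mk Nat.prime_two
  set π := QuotientGroup.mk' (Subgroup.zpowers z)
  have hπ : Function.Surjective π := QuotientGroup.mk'_surjective _
  have hzc := involution_central hH hz
  have hperfG : commutator (H ⧸ Subgroup.zpowers z) = ⊤ := by
    rw [commutator_def, ← Subgroup.map_top_of_surjective π hπ, ← Subgroup.map_commutator, ← commutator_def, hperf]
  have hOG := oddGood hH hperf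
  refine ⟨⟨hperfG, fun p hp hp2 P' => ?_, fun x y hx hx2 hy hy2 hn => ?_⟩, fun S => ?_, fun g' hg' => ?_⟩
  · obtain ⟨P⟩ : Nonempty (Sylow p H) := inferInstance
    haveI := hOG.cyc p hp2 P
    have hc : IsCyclic ((P : Subgroup H).map π) :=
      isCyclic_of_surjective (π.subgroupMap (P : Subgroup H)) (π.subgroupMap_surjective _)
    exact ((P.mapSurjective hπ).equiv P').isCyclic.mp hc
  · have lift : ∀ x : H ⧸ Subgroup.zpowers z, (orderOf x).Prime → orderOf x ≠ 2 →
        ∃ x' : H, π x' = x ∧ orderOf x' = orderOf x := by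
      intro x hp hp2
      haveI := Fact.mk hp
      obtain ⟨h, rfl⟩ := hπ x
      set p := orderOf (π h)
      have h2p : h ^ (2 * p) = 1 := by
        have : h ^ p ∈ Subgroup.zpowers z :=
          (QuotientGroup.eq_one_iff _).mp (by rw [← QuotientGroup.mk'_apply, map_pow]; exact pow_orderOf_eq_one _)
        obtain ⟨i, hi⟩ := Subgroup.mem_zpowers_iff.mp this
        rw [mul_comm, pow_mul, ← hi, ← zpow_natCast (z ^ i) 2, ← zpow_mul, mul_comm, zpow_mul, zpow_natCast,
          ← hz, pow_orderOf_eq_one, one_zpow]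
      obtain ⟨k, hk⟩ := hp.odd_of_ne_two hp2
      have hπh : π (h ^ (p + 1)) = π h := by rw [map_pow, pow_succ, pow_orderOf_eq_one, one_mul]
      refine ⟨h ^ (p + 1), hπh, orderOf_eq_prime ?_ fun e => hp.one_lt.ne ?_⟩
      · rw [← pow_mul, show (p + 1) * p = 2 * p * (k + 1) by rw [hk]; ring, pow_mul, h2p, one_pow]
      · rw [eq_comm, show p = orderOf (π (h ^ (p + 1))) from hπh ▸ rfl, e, map_one, orderOf_one]
    obtain ⟨x', rfl, hx'⟩ := lift x hx hx2
    obtain ⟨y', rfl, hy'⟩ := lift y hy hy2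
    haveI := Fact.mk hy
    obtain ⟨k, hk⟩ := Subgroup.mem_zpowers_iff.mp hn
    rw [← map_zpow, ← map_inv, ← map_mul, ← map_mul] at hk
    refine (hOG.pq x' y' (hx' ▸ hx) (hx' ▸ hx2) (hy' ▸ hy) (hy' ▸ hy2) ?_).map π
    rcases (mk_eq_iff hz).mp hk with e | e
    · exact ⟨k, e.symm⟩
    · exfalso
      set p := orderOf (π y')
      obtain ⟨m, hm⟩ := hy.odd_of_ne_two hy2
      have h1 : (x' * y' * x'⁻¹) ^ p = 1 := by
        rw [conj_pow, ← hy', pow_orderOf_eq_one, mul_one, mul_inv_cancel]
      rw [e, (hzc (y' ^ k)).symm.mul_pow, ← zpow_natCast (y' ^ k) p, ← zpow_mul, mul_comm, zpow_mul,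
        zpow_natCast, show y' ^ p = 1 from hy' ▸ pow_orderOf_eq_one y', one_zpow, one_mul, hm, pow_succ,
        pow_mul, ← hz, pow_orderOf_eq_one, one_pow, one_mul] at h1
      rw [h1, orderOf_one] at hz
      omega
  · obtain ⟨P⟩ : Nonempty (Sylow 2 H) := inferInstance
    obtain ⟨h8, -⟩ := sylow_two_structure hH hperf hz P
    have hzP : z ∈ (P : Subgroup H) := by
      have hp : IsPGroup 2 (Subgroup.zpowers z) :=
        IsPGroup.of_card (n := 1) (by rw [Nat.card_zpowers, hz, pow_one])
      exact (le_sup_left.trans (P.3 (hp.to_sup_of_normal_left P.2) le_sup_right).le) (Subgroup.mem_zpowers z)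
    have hi : ((P : Subgroup H).map π).index = (P : Subgroup H).index :=
      Subgroup.index_map_eq (P : Subgroup H) hπ (by rw [QuotientGroup.ker_mk']; exact Subgroup.zpowers_le.mpr hzP)
    have h1 := (P : Subgroup H).card_mul_index
    have h2 := ((P : Subgroup H).map π).card_mul_index
    have h3 := Subgroup.card_eq_card_quotient_mul_card_subgroup (Subgroup.zpowers z)
    rw [Nat.card_zpowers, hz, ← h1, ← h2, hi, h8] at h3
    rw [Nat.card_congr (S.equiv (P.mapSurjective hπ)).toEquiv]
    show Nat.card ((P : Subgroup H).map π) = 4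
    have hpos : 0 < (P : Subgroup H).index := Nat.pos_of_ne_zero Subgroup.index_ne_zero_of_finite
    nlinarith
  · obtain ⟨g, rfl⟩ := hπ g'
    have h4 : g ^ 4 ∈ Subgroup.zpowers z :=
      (QuotientGroup.eq_one_iff _).mp (by rw [← QuotientGroup.mk'_apply, map_pow, ← hg', pow_orderOf_eq_one])
    obtain ⟨i, hi⟩ := Subgroup.mem_zpowers_iff.mp h4
    have h8 : g ^ 8 = 1 := by
      rw [show 8 = 4 * 2 from rfl, pow_mul, ← hi, ← zpow_natCast (z ^ i) 2, ← zpow_mul, mul_comm, zpow_mul,
        zpow_natCast, ← hz, pow_orderOf_eq_one, one_zpow]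
    obtain ⟨j, -, hj⟩ := (Nat.dvd_prime_pow Nat.prime_two).mp (show orderOf g ∣ 2 ^ 3 from orderOf_dvd_of_pow_eq_one h8)
    obtain ⟨P, hP⟩ := (IsPGroup.of_card (n := j) (by rw [Nat.card_zpowers, hj]) :
      IsPGroup 2 (Subgroup.zpowers g)).exists_le_sylow
    have hg4 := (sylow_two_structure hH hperf hz P).2 g (hP (Subgroup.mem_zpowers g))
    have h2 : π (g ^ 2) ≠ 1 := fun e => by
      rw [map_pow] at e
      exact absurd (Nat.le_of_dvd two_pos (hg' ▸ orderOf_dvd_of_pow_eq_one e)) (by norm_num)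
    apply h2
    rcases eq_or_ne (g ^ 2) 1 with h | h
    · rw [h, map_one]
    · rw [involution_eq hH (orderOf_eq_prime (by rw [← pow_mul]; exact hg4) h) hz]
      exact (QuotientGroup.eq_one_iff z).mpr (Subgroup.mem_zpowers z)

/-- **Zassenhaus**: a perfect group acting fixed point freely is `SL(2, 5)`. -/
theorem iso_of_perfect_fpf : Nonempty (H ≃* Matrix.SpecialLinearGroup (Fin 2) (ZMod 5)) := by
  obtain ⟨z, hz⟩ := exists_involution hH hperf
  haveI := zpowers_normal hH hz
  have h60 := card_eq_sixty (fourGood hH hperf hz)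
  refine iso_SL25 hperf ?_ hz (involution_central hH hz)
  rw [Subgroup.card_eq_card_quotient_mul_card_subgroup (Subgroup.zpowers z), h60, Nat.card_zpowers, hz]

end CfsgLib.PerfectCompl
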