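import Mathlib

/-!
# Perfect groups with cyclic odd Sylow subgroups and no nonabelian subgroups of order `p * q`
-/

set_option autoImplicit false
set_option linter.style.haveILetI false
set_option linter.unusedSectionVars false

namespace CfsgLib.PerfectCompl

variable {G : Type*} [Group G] [Finite G]

theorem conj_pow_iterate {h x : G} {e : ℕ} (he : h * x * h⁻¹ = x ^ e) :
    ∀ j : ℕ, h ^ j * x * (h ^ j)⁻¹ = x ^ e ^ j := by
  intro j
  induction j with
  | zero => simp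
  | succ j ih =>
    calc h ^ (j + 1) * x * (h ^ (j + 1))⁻¹ = h ^ j * (h * x * h⁻¹) * (h ^ j)⁻¹ := by
          rw [pow_succ]; group
      _ = (h ^ j * x * (h ^ j)⁻¹) ^ e := by rw [he, conj_pow]
      _ = x ^ e ^ (j + 1) := by rw [ih, ← pow_mul, pow_succ]

theorem exists_conj_eq_pow {h x : G} (hn : h * x * h⁻¹ ∈ Subgroup.zpowers x) :
    ∃ e : ℕ, h * x * h⁻¹ = x ^ e := by
  obtain ⟨i, hi⟩ := mem_powers_iff_mem_zpowers.mpr hn
  exact ⟨i, hi.symm⟩

theorem commute_iff_conj {h x : G} : Commute h x ↔ h * x * h⁻¹ = x :=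
  ⟨fun c => by rw [c.eq, mul_inv_cancel_right], fun e => mul_inv_eq_iff_eq_mul.mp e⟩

/-- In a cyclic `p`-group the elements of order dividing `p` form the subgroup of an element of order `p`. -/
theorem mem_zpowers_of_cyclic {p : ℕ} [hp : Fact p.Prime] {P : Subgroup G} [IsCyclic P] {w v : G}
    (hw : w ∈ P) (hwo : orderOf w = p) (hv : v ∈ P) (hvp : v ^ p = 1) : v ∈ Subgroup.zpowers w := by
  classical
  have hsub : (Finset.univ.image fun i : Fin p => (⟨w, hw⟩ : P) ^ (i : ℕ)) ⊆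
      (letI := Fintype.ofFinite P; ({z | z ^ p = 1} : Finset P)) := by
    letI := Fintype.ofFinite P
    intro z hz
    obtain ⟨i, -, rfl⟩ := Finset.mem_image.mp hz
    refine Finset.mem_filter.mpr ⟨Finset.mem_univ _, ?_⟩
    rw [← pow_mul, mul_comm, pow_mul]
    have : (⟨w, hw⟩ : P) ^ p = 1 := Subtype.ext (by simpa [hwo] using pow_orderOf_eq_one w)
    rw [this, one_pow]
  letI := Fintype.ofFinite P
  have hcard : (Finset.univ.image fun i : Fin p => (⟨w, hw⟩ : P) ^ (i : ℕ)).card = p := by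
    rw [Finset.card_image_of_injective, Finset.card_univ, Fintype.card_fin]
    intro a b hab
    have hab' : w ^ (a : ℕ) = w ^ (b : ℕ) := by simpa using congrArg Subtype.val hab
    exact Fin.ext (pow_injOn_Iio_orderOf (by simp [hwo]) (by simp [hwo]) hab')
  have heq := Finset.eq_of_subset_of_card_le hsub
    (by rw [hcard]; exact IsCyclic.card_pow_eq_one_le hp.out.pos)
  have hmem : (⟨v, hv⟩ : P) ∈ ({z | z ^ p = 1} : Finset P) :=
    Finset.mem_filter.mpr ⟨Finset.mem_univ _, Subtype.ext (by simpa using hvp)⟩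
  rw [← heq] at hmem
  obtain ⟨i, -, hi⟩ := Finset.mem_image.mp hmem
  exact ⟨i, by simpa using congrArg Subtype.val hi⟩

theorem zpowers_eq_of_cyclic {p : ℕ} [hp : Fact p.Prime] {P : Subgroup G} [IsCyclic P] {w v : G}
    (hw : w ∈ P) (hwo : orderOf w = p) (hv : v ∈ P) (hvo : orderOf v = p) :
    Subgroup.zpowers v = Subgroup.zpowers w :=
  Subgroup.eq_of_le_of_card_ge
    (Subgroup.zpowers_le.mpr (mem_zpowers_of_cyclic hw hwo hv (hvo ▸ pow_orderOf_eq_one v)))
    (by rw [Nat.card_zpowers, Nat.card_zpowers, hwo, hvo])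

/-- An element fixing the subgroup of order `p` of a cyclic `p`-group centralizes it, if a power prime
to `p` lies in the group. -/
theorem centralizes_of_fix {p : ℕ} [hp : Fact p.Prime] {P : Subgroup G} [IsCyclic P] (hP : IsPGroup p P)
    {h : G} (hn : h ∈ Subgroup.normalizer (P : Set G)) {m : ℕ} (hm : m.Coprime p) (hhm : h ^ m ∈ P)
    {w : G} (hw : w ∈ P) (hwo : orderOf w = p) (hfix : Commute h w) : ∀ x ∈ P, Commute h x := by
  obtain ⟨g, hg⟩ := IsCyclic.exists_generator (α := P)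
  have hgen : ∀ x ∈ P, x ∈ Subgroup.zpowers (g : G) := fun x hx => by
    obtain ⟨i, hi⟩ := hg ⟨x, hx⟩
    exact ⟨i, by simpa using congrArg Subtype.val hi⟩
  suffices hmain : Commute h (g : G) by
    intro x hx
    obtain ⟨i, rfl⟩ := hgen x hx
    exact hmain.zpow_right i
  obtain ⟨e, he⟩ := exists_conj_eq_pow (hgen _ ((Subgroup.mem_normalizer_iff.mp hn _).mp g.2))
  -- `e` is congruent to one modulo `p`
  have he1 : (p : ℤ) ∣ (e : ℤ) - 1 := by
    obtain ⟨i, hi⟩ := mem_powers_iff_mem_zpowers.mpr (hgen w hw)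
    have hi' : (g : G) ^ i = w := hi
    have h1 : w ^ e = w := by
      rw [← hi', ← pow_mul, mul_comm, pow_mul, ← he, conj_pow, hi']
      exact commute_iff_conj.mp hfix
    have h2 : w ^ ((e : ℤ) - 1) = 1 := by rw [zpow_sub, zpow_natCast, zpow_one, h1, mul_inv_cancel]
    have := orderOf_dvd_iff_zpow_eq_one.mpr h2
    rwa [hwo] at this
  obtain ⟨k, hk⟩ := hP g
  have hk' : (g : G) ^ p ^ k = 1 := by simpa using congrArg Subtype.val hk
  have h2 : (g : G) ^ e ^ p ^ k = g := by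
    have hd := dvd_sub_pow_of_dvd_sub he1 k
    rw [one_pow] at hd
    have hd' : (orderOf (g : G) : ℤ) ∣ (e : ℤ) ^ p ^ k - 1 := by
      refine dvd_trans ?_ hd
      exact_mod_cast (orderOf_dvd_of_pow_eq_one hk').trans (pow_dvd_pow p k.le_succ)
    rw [orderOf_dvd_iff_zpow_eq_one, zpow_sub, zpow_one, mul_inv_eq_one, ← Nat.cast_pow, zpow_natCast] at hd'
    exact hd'
  have hc1 : Commute (h ^ p ^ k) (g : G) := commute_iff_conj.mpr ((conj_pow_iterate he _).trans h2)
  have hc2 : Commute (h ^ m) (g : G) := by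
    haveI : IsMulCommutative P := IsCyclic.isMulCommutative
    exact congrArg Subtype.val (mul_comm' (⟨h ^ m, hhm⟩ : P) g)
  have hb := Nat.gcd_eq_gcd_ab m (p ^ k)
  rw [(hm.pow_right k).gcd_eq_one] at hb
  have hh : h = (h ^ m) ^ (m.gcdA (p ^ k)) * (h ^ p ^ k) ^ (m.gcdB (p ^ k)) := by
    rw [← zpow_natCast h m, ← zpow_natCast h (p ^ k), ← zpow_mul, ← zpow_mul, ← zpow_add, ← hb, Nat.cast_one, zpow_one]
  rw [hh]
  exact (hc2.zpow_left _).mul_left (hc1.zpow_left _)

/-- A cyclic Sylow subgroup whose normalizer fixes its subgroup of order `p` has a normal complement. -/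
theorem exists_complement {p : ℕ} [hp : Fact p.Prime] (P : Sylow p G) [IsCyclic (P : Subgroup G)]
    {w : G} (hw : w ∈ (P : Subgroup G)) (hwo : orderOf w = p)
    (hfix : ∀ g ∈ Subgroup.normalizer ((P : Subgroup G) : Set G), Commute g w) :
    ∃ K : Subgroup G, K.Normal ∧ K.index = Nat.card (P : Subgroup G) ∧ ¬ p ∣ Nat.card K ∧
      commutator G ≤ K := by
  have hc : Subgroup.normalizer ((P : Subgroup G) : Set G) ≤
      Subgroup.centralizer ((P : Subgroup G) : Set G) := by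
    intro g hg
    set N := Subgroup.normalizer ((P : Subgroup G) : Set G)
    have hle : (P : Subgroup G) ≤ N := Subgroup.le_normalizer
    haveI : ((P : Subgroup G).subgroupOf N).Normal :=
      (Subgroup.normal_subgroupOf_iff_le_normalizer hle).mpr le_rfl
    set m := ((P : Subgroup G).subgroupOf N).index
    have hm : m.Coprime p := Nat.Coprime.symm ((Nat.Prime.coprime_iff_not_dvd hp.out).mpr fun h =>
      P.not_dvd_index (h.trans (Subgroup.relIndex_dvd_index_of_le hle)))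
    have hgm : g ^ m ∈ (P : Subgroup G) := by
      have := Subgroup.pow_index_mem ((P : Subgroup G).subgroupOf N) ⟨g, hg⟩
      simpa using Subgroup.mem_subgroupOf.mp this
    exact Subgroup.mem_centralizer_iff.mpr fun x hx =>
      (centralizes_of_fix P.2 hg hm hgm hw hwo (hfix g hg) x hx).symm.eq
  letI : CommGroup (P : Subgroup G) := IsCyclic.commGroup
  refine ⟨(MonoidHom.transferSylow P hc).ker, inferInstance, ?_, MonoidHom.not_dvd_card_ker_transferSylow P hc,
    Abelianization.commutator_subset_ker _⟩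
  have hcompl := MonoidHom.ker_transferSylow_isComplement' P hc
  exact hcompl.symm.index_eq_card

theorem mem_of_coprime_index {K : Subgroup G} [K.Normal] {g : G} (h : (orderOf g).Coprime K.index) :
    g ∈ K := by
  rw [← QuotientGroup.eq_one_iff, ← orderOf_eq_one_iff]
  refine Nat.eq_one_of_dvd_coprimes h (orderOf_map_dvd (QuotientGroup.mk' K) g) ?_
  rw [Subgroup.index_eq_card]
  exact orderOf_dvd_natCard _

theorem commutator_centralizes {R : Subgroup G} [IsCyclic R] {a b : G}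
    (ha : a ∈ Subgroup.normalizer (R : Set G)) (hb : b ∈ Subgroup.normalizer (R : Set G)) :
    ∀ r ∈ R, Commute (a * b * a⁻¹ * b⁻¹) r := by
  obtain ⟨r0, hr0⟩ := IsCyclic.exists_generator (α := R)
  have hgen : ∀ r ∈ R, r ∈ Subgroup.zpowers (r0 : G) := fun r hr => by
    obtain ⟨i, hi⟩ := hr0 ⟨r, hr⟩
    exact ⟨i, by simpa using congrArg Subtype.val hi⟩
  obtain ⟨ea, hea⟩ := exists_conj_eq_pow (hgen _ ((Subgroup.mem_normalizer_iff.mp ha _).mp r0.2))
  obtain ⟨eb, heb⟩ := exists_conj_eq_pow (hgen _ ((Subgroup.mem_normalizer_iff.mp hb _).mp r0.2))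
  have key : ∀ r ∈ R, a * b * r * (a * b)⁻¹ = b * a * r * (b * a)⁻¹ := by
    intro r hr
    obtain ⟨i, rfl⟩ := hgen r hr
    rw [← conj_zpow, ← conj_zpow]
    congr 1
    calc a * b * r0 * (a * b)⁻¹ = a * (b * r0 * b⁻¹) * a⁻¹ := by group
      _ = (r0 : G) ^ (ea * eb) := by rw [heb, ← conj_pow, hea, ← pow_mul]
      _ = b * (a * r0 * a⁻¹) * b⁻¹ := by rw [hea, ← conj_pow, heb, ← pow_mul, mul_comm]
      _ = _ := by group
  intro r hr
  have hr' : (b * a)⁻¹ * r * (b * a) ∈ R := by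
    simpa using (Subgroup.mem_normalizer_iff.mp (inv_mem (mul_mem hb ha)) r).mp hr
  have h := key _ hr'
  rw [commute_iff_conj]
  calc a * b * a⁻¹ * b⁻¹ * r * (a * b * a⁻¹ * b⁻¹)⁻¹ = a * b * ((b * a)⁻¹ * r * (b * a)) * (a * b)⁻¹ := by group
    _ = _ := by rw [h]; group

/-- Perfect, with cyclic odd Sylow subgroups, and elements of odd prime orders `p, q` commute when one
normalizes the group generated by the other. -/
structure OddGood (G : Type*) [Group G] : Prop where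
  perf : commutator G = ⊤
  cyc : ∀ (p : ℕ) [Fact p.Prime], p ≠ 2 → ∀ P : Sylow p G, IsCyclic (P : Subgroup G)
  pq : ∀ x y : G, (orderOf x).Prime → orderOf x ≠ 2 → (orderOf y).Prime → orderOf y ≠ 2 →
    x * y * x⁻¹ ∈ Subgroup.zpowers y → Commute x y

variable (hG : OddGood G)
include hG

theorem exists_moving {p : ℕ} [hp : Fact p.Prime] (hp2 : p ≠ 2) {y : G} (hy : orderOf y = p) :
    ∃ g : G, g * y * g⁻¹ ∈ Subgroup.zpowers y ∧ ¬ Commute g y := by
  obtain ⟨P, hP⟩ := (IsPGroup.of_card (n := 1) (by rw [Nat.card_zpowers, hy, pow_one]) :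
    IsPGroup p (Subgroup.zpowers y)).exists_le_sylow
  haveI := hG.cyc p hp2 P
  have hyP : y ∈ (P : Subgroup G) := hP (Subgroup.mem_zpowers y)
  by_contra hall
  push Not at hall
  obtain ⟨K, -, -, hK, hle⟩ := exists_complement P hyP hy fun g hg => hall g
    (mem_zpowers_of_cyclic hyP hy ((Subgroup.mem_normalizer_iff.mp hg y).mp hyP)
      (by rw [conj_pow, ← hy, pow_orderOf_eq_one, mul_one, mul_inv_cancel]))
  rw [hG.perf, top_le_iff] at hle
  apply hK
  rw [hle, Subgroup.card_top, ← hy]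
  exact orderOf_dvd_natCard y

omit hG in
theorem conj_exponent_eq_one {p : ℕ} [hp : Fact p.Prime] {y h : G} (hy : orderOf y = p) {e : ℕ}
    (he : h * y * h⁻¹ = y ^ e) : Commute h y ↔ (e : ZMod p) = 1 := by
  rw [commute_iff_conj, he]
  constructor
  · intro h1
    have h2 : y ^ e = y ^ 1 := by rw [pow_one, h1]
    have h3 : e ≡ 1 [MOD p] := hy ▸ pow_eq_pow_iff_modEq.mp h2
    simpa using (ZMod.natCast_eq_natCast_iff e 1 p).mpr h3
  · intro h1
    have h3 : e ≡ 1 [MOD p] := (ZMod.natCast_eq_natCast_iff e 1 p).mp (by simpa using h1)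
    calc y ^ e = y ^ 1 := pow_eq_pow_iff_modEq.mpr (hy.symm ▸ h3)
      _ = y := pow_one y

omit hG in
theorem exponent_pow_eq_one {p : ℕ} [hp : Fact p.Prime] {y h : G} (hy : orderOf y = p) {e n : ℕ}
    (he : h * y * h⁻¹ = y ^ e) (hn : h ^ n = 1) : (e : ZMod p) ^ n = 1 := by
  have h1 := conj_pow_iterate he n
  have h2 := (conj_exponent_eq_one hy h1).mp (by rw [hn]; exact Commute.one_left y)
  simpa using h2

theorem commute_of_prime_power {p q : ℕ} [hp : Fact p.Prime] [hq : Fact q.Prime] (hp2 : p ≠ 2)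
    (hq2 : q ≠ 2) {x y : G} {j : ℕ} (hx : orderOf x = q ^ j) (hy : orderOf y = p)
    (hn : x * y * x⁻¹ ∈ Subgroup.zpowers y) : Commute x y := by
  obtain ⟨e, he⟩ := exists_conj_eq_pow hn
  refine (conj_exponent_eq_one hy he).mpr ?_
  have hex : (e : ZMod p) ^ q ^ j = 1 := exponent_pow_eq_one hy he (hx ▸ pow_orderOf_eq_one x)
  by_cases hqp : q = p
  · subst hqp
    have : ∀ i, (e : ZMod q) ^ q ^ i = (e : ZMod q) := fun i => by
      induction i with
      | zero => simp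
      | succ i ih => rw [pow_succ, pow_mul, ih, ZMod.pow_card]
    rwa [this] at hex
  rcases Nat.eq_zero_or_pos j with rfl | hj
  · simpa using hex
  -- the subgroup of order `q` below `x`
  set x1 := x ^ q ^ (j - 1) with hx1def
  have hx1 : orderOf x1 = q := by
    rw [hx1def, orderOf_pow' _ (pow_ne_zero _ hq.out.ne_zero), hx,
      Nat.gcd_eq_right (pow_dvd_pow q (Nat.sub_le j 1)),
      Nat.pow_div (Nat.sub_le j 1) hq.out.pos, show j - (j - 1) = 1 by omega, pow_one]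
  have hx1y : Commute x1 y := by
    refine hG.pq _ _ (by rw [hx1]; exact hq.out) (by rw [hx1]; exact hq2) (by rw [hy]; exact hp.out)
      (by rw [hy]; exact hp2) ?_
    rw [conj_pow_iterate he]
    exact Subgroup.pow_mem _ (Subgroup.mem_zpowers y) _
  obtain ⟨Q, hQ⟩ := (IsPGroup.of_card (n := j) (by rw [Nat.card_zpowers, hx]) :
    IsPGroup q (Subgroup.zpowers x)).exists_le_sylow
  haveI hQc := hG.cyc q hq2 Q
  have hxQ : x ∈ (Q : Subgroup G) := hQ (Subgroup.mem_zpowers x)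
  have hx1Q : x1 ∈ (Q : Subgroup G) := Subgroup.pow_mem _ hxQ _
  obtain ⟨g0, hg0⟩ := IsCyclic.exists_generator (α := (Q : Subgroup G))
  set x0 : G := (g0 : G) with hx0
  have hgen : ∀ z ∈ (Q : Subgroup G), z ∈ Subgroup.zpowers x0 := fun z hz => by
    obtain ⟨i, hi⟩ := hg0 ⟨z, hz⟩
    exact ⟨i, by simpa using congrArg Subtype.val hi⟩
  have hQeq : (Q : Subgroup G) = Subgroup.zpowers x0 :=
    le_antisymm hgen (Subgroup.zpowers_le.mpr g0.2)
  set C := Subgroup.centralizer ({x1} : Set G) with hC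
  have hQC : (Q : Subgroup G) ≤ C := fun z hz => Subgroup.mem_centralizer_singleton_iff.mpr
    (congrArg Subtype.val (mul_comm' (⟨z, hz⟩ : (Q : Subgroup G)) ⟨x1, hx1Q⟩))
  have hxC : x ∈ C := hQC hxQ
  have hyC : y ∈ C := Subgroup.mem_centralizer_singleton_iff.mpr hx1y.eq.symm
  -- a normal complement in `C`
  haveI : IsCyclic ((Q.subtype hQC : Sylow q C) : Subgroup C) :=
    (Subgroup.subgroupOfEquivOfLe hQC).isCyclic.mpr hQc
  obtain ⟨K, hKn, hKi, hKq, -⟩ := exists_complement (Q.subtype hQC)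
    (w := (⟨x1, hQC hx1Q⟩ : C)) (by simpa [Subgroup.mem_subgroupOf] using hx1Q)
    (by rw [Subgroup.orderOf_mk, hx1])
    (fun c _ => Subtype.ext (Subgroup.mem_centralizer_singleton_iff.mp c.2))
  have hKi' : K.index = Nat.card (Q : Subgroup G) :=
    hKi.trans (Nat.card_congr (Subgroup.subgroupOfEquivOfLe hQC).toEquiv)
  obtain ⟨kq, hkq⟩ := Q.2.exists_card_eq
  rw [hkq] at hKi'
  have hKmem : ∀ c : C, c ∈ K ↔ ¬ q ∣ orderOf c := fun c => by
    constructor
    · intro hc h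
      exact hKq (h.trans (Subgroup.orderOf_mk c hc ▸ orderOf_dvd_natCard (⟨c, hc⟩ : K)))
    · intro h
      exact mem_of_coprime_index (hKi' ▸ ((hq.out.coprime_iff_not_dvd.mpr h).symm.pow_right kq))
  -- the group `M` moving `x1`
  obtain ⟨g, hg, hgc⟩ : ∃ g : G, g ∈ Subgroup.normalizer ((Q : Subgroup G) : Set G) ∧ ¬ Commute g x1 := by
    by_contra hall
    push Not at hall
    obtain ⟨K', -, -, hK', hle⟩ := exists_complement Q hx1Q hx1 hall
    rw [hG.perf, top_le_iff] at hle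
    apply hK'
    rw [hle, Subgroup.card_top, ← hx1]
    exact orderOf_dvd_natCard x1
  obtain ⟨m, hm⟩ := exists_conj_eq_pow (hgen _ ((Subgroup.mem_normalizer_iff.mp hg x0).mp g0.2))
  obtain ⟨i1, hi1⟩ := mem_powers_iff_mem_zpowers.mpr (hgen x1 hx1Q)
  have hm1 : g * x1 * g⁻¹ = x1 ^ m := by
    show g * x1 * g⁻¹ = x1 ^ m
    rw [show x1 = x0 ^ i1 from hi1.symm, ← conj_pow, hm, ← pow_mul, ← pow_mul, mul_comm]
  set M := Subgroup.normalizer ((Subgroup.zpowers x1 : Subgroup G) : Set G) with hM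
  have hCM : C ≤ M := fun c hc => Subgroup.centralizer_le_normalizer _
    (Subgroup.mem_centralizer_iff.mpr fun z hz => by
      obtain ⟨i, rfl⟩ := Subgroup.mem_zpowers_iff.mp hz
      exact ((show Commute x1 c from (Subgroup.mem_centralizer_singleton_iff.mp hc).symm).zpow_left i).eq)
  have hgM : g ∈ M := by
    refine Subgroup.mem_normalizer_fintype ?_
    intro z hz
    obtain ⟨i, rfl⟩ := Subgroup.mem_zpowers_iff.mp hz
    rw [← conj_zpow, hm1, ← zpow_natCast, ← zpow_mul]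
    exact ⟨_, rfl⟩
  have hMC : ∀ a ∈ M, ∀ c ∈ C, a * c * a⁻¹ ∈ C := by
    intro a ha c hc
    have hi : a⁻¹ * x1 * a ∈ Subgroup.zpowers x1 := by
      simpa using (Subgroup.mem_normalizer_iff.mp (inv_mem ha) x1).mp (Subgroup.mem_zpowers x1)
    obtain ⟨i, hi'⟩ := hi
    have hi'' : x1 ^ i = a⁻¹ * x1 * a := hi'
    have hcm : Commute c (a⁻¹ * x1 * a) :=
      hi'' ▸ ((show Commute c x1 from Subgroup.mem_centralizer_singleton_iff.mp hc).zpow_right i)
    refine Subgroup.mem_centralizer_singleton_iff.mpr ?_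
    calc a * c * a⁻¹ * x1 = a * (c * (a⁻¹ * x1 * a)) * a⁻¹ := by group
      _ = a * ((a⁻¹ * x1 * a) * c) * a⁻¹ := by rw [hcm.eq]
      _ = x1 * (a * c * a⁻¹) := by group
  -- `K` as a normal subgroup of `M`
  set KG := K.map C.subtype with hKG
  haveI hKM : (KG.subgroupOf M).Normal := by
    refine ⟨fun c hc a => ?_⟩
    obtain ⟨c', hc', hce⟩ := Subgroup.mem_map.mp (Subgroup.mem_subgroupOf.mp hc)
    have hcc : (c' : G) = (c : G) := hce
    refine Subgroup.mem_subgroupOf.mpr ⟨⟨(a : G) * c * (a : G)⁻¹, hMC a a.2 c (hcc ▸ c'.2)⟩, ?_, rfl⟩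
    rw [SetLike.mem_coe, hKmem, Subgroup.orderOf_mk, ← MulAut.conj_apply, MulEquiv.orderOf_eq,
      ← hcc, Subgroup.orderOf_coe]
    exact (hKmem c').mp hc'
  have hyK : (⟨y, hyC⟩ : C) ∈ K := (hKmem _).mpr (by
    rw [Subgroup.orderOf_mk, hy]
    exact fun h => hqp ((Nat.prime_dvd_prime_iff_eq hq.out hp.out).mp h))
  -- a Sylow subgroup of `K` containing `y`
  obtain ⟨R, hR⟩ := (IsPGroup.of_card (n := 1) (by
      rw [Nat.card_zpowers, ← Subgroup.orderOf_coe, ← Subgroup.orderOf_coe, pow_one]; exact hy) :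
    IsPGroup p (Subgroup.zpowers (⟨⟨y, hCM hyC⟩, ⟨⟨y, hyC⟩, hyK, rfl⟩⟩ : KG.subgroupOf M))).exists_le_sylow
  set RG : Subgroup G := ((R : Subgroup (KG.subgroupOf M)).map (KG.subgroupOf M).subtype).map M.subtype
    with hRG
  have hRp : IsPGroup p RG := (R.2.map _).map _
  haveI hRc : IsCyclic RG := by
    obtain ⟨P, hP⟩ := hRp.exists_le_sylow
    haveI := hG.cyc p hp2 P
    exact (Subgroup.subgroupOfEquivOfLe hP).isCyclic.mp inferInstance
  have hyR : y ∈ RG :=
    ⟨⟨y, hCM hyC⟩, ⟨_, hR (Subgroup.mem_zpowers _), rfl⟩, rfl⟩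
  set L := Subgroup.normalizer ((((R : Subgroup (KG.subgroupOf M)).map (KG.subgroupOf M).subtype) :
    Subgroup M) : Set M) with hL
  have hfr : L ⊔ KG.subgroupOf M = ⊤ := Sylow.normalizer_sup_eq_top R
  have hLn : ∀ a ∈ L, (a : G) ∈ Subgroup.normalizer (RG : Set G) := fun a ha =>
    Subgroup.le_normalizer_map M.subtype ⟨a, ha, rfl⟩
  -- `g` and `x0` modulo `KG`
  set π := QuotientGroup.mk' (KG.subgroupOf M) with hπ
  have hx0C : x0 ∈ C := hQC g0.2
  obtain ⟨n1, hn1, k1, hk1, hgk⟩ := Subgroup.mem_sup_of_normal_right.mp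
    (hfr.ge (Subgroup.mem_top (⟨g, hgM⟩ : M)))
  obtain ⟨n2, hn2, k2, hk2, hxk⟩ := Subgroup.mem_sup_of_normal_right.mp
    (hfr.ge (Subgroup.mem_top (⟨x0, hCM hx0C⟩ : M)))
  have hker : ∀ k ∈ KG.subgroupOf M, π k = 1 := fun k hk => (QuotientGroup.eq_one_iff k).mpr hk
  have hπe : π (n1 * n2 * n1⁻¹ * n2⁻¹) =
      π ((⟨g, hgM⟩ : M) * ⟨x0, hCM hx0C⟩ * (⟨g, hgM⟩ : M)⁻¹ * (⟨x0, hCM hx0C⟩ : M)⁻¹) := by
    rw [← hgk, ← hxk]
    simp only [map_mul, map_inv, hker k1 hk1, hker k2 hk2, mul_one]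
  obtain ⟨c', hc'K, hc'e⟩ := Subgroup.mem_map.mp (Subgroup.mem_subgroupOf.mp (QuotientGroup.eq.mp hπe))
  set l : G := (n1 : G) * n2 * (n1 : G)⁻¹ * (n2 : G)⁻¹ with hldef
  have hle : l * (c' : G) = x0 ^ ((m : ℤ) - 1) := by
    rw [zpow_sub, zpow_natCast, zpow_one, ← hm]
    have h' : (c' : G) = l⁻¹ * (g * x0 * g⁻¹ * x0⁻¹) := by simpa [hldef, mul_assoc] using hc'e
    rw [h', mul_inv_cancel_left]
  have hlC : l ∈ C := by
    rw [eq_mul_inv_iff_mul_eq.mpr hle]
    exact mul_mem (Subgroup.zpow_mem _ hx0C _) (inv_mem c'.2)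
  have hlR : ∀ r ∈ RG, Commute l r := commutator_centralizes (hLn n1 hn1) (hLn n2 hn2)
  -- the image of `l` generates `C ⧸ K`
  have hordx0 : orderOf x0 = q ^ kq := by rw [← Nat.card_zpowers, ← hQeq, hkq]
  have hm1q : IsCoprime ((m : ℤ) - 1) ((q : ℤ) ^ kq) := by
    refine (((Nat.prime_iff_prime_int.mp hq.out).coprime_iff_not_dvd).mpr fun h => hgc ?_).symm.pow_right
    refine commute_iff_conj.mpr (hm1.trans ?_)
    have h' : x1 ^ ((m : ℤ) - 1) = 1 := orderOf_dvd_iff_zpow_eq_one.mp (hx1 ▸ h)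
    rwa [zpow_sub, zpow_natCast, zpow_one, mul_inv_eq_one] at h'
  have hqo : q ^ kq ∣ orderOf l := by
    set ρ := QuotientGroup.mk' K
    have hl' : ρ ⟨l, hlC⟩ = ρ ⟨x0, hx0C⟩ ^ ((m : ℤ) - 1) := by
      rw [← map_zpow]
      refine QuotientGroup.eq.mpr ?_
      have : (⟨l, hlC⟩ : C)⁻¹ * (⟨x0, hx0C⟩ : C) ^ ((m : ℤ) - 1) = c' := Subtype.ext (by
        rw [Subgroup.coe_mul, Subgroup.coe_inv, SubgroupClass.coe_zpow, ← hle]
        simp)
      rw [this]; exact hc'K
    have hox : (q ^ kq : ℤ) ∣ (orderOf (ρ ⟨x0, hx0C⟩) : ℤ) := by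
      have hi : (⟨x0, hx0C⟩ : C) ^ orderOf (ρ ⟨x0, hx0C⟩) ∈ K :=
        (QuotientGroup.eq_one_iff _).mp (by
          rw [← QuotientGroup.mk'_apply, map_pow, pow_orderOf_eq_one])
      have h' := (hKmem _).mp hi
      have hd : orderOf ((⟨x0, hx0C⟩ : C) ^ orderOf (ρ ⟨x0, hx0C⟩)) ∣ q ^ kq := by
        refine (orderOf_pow_dvd _).trans ?_
        rw [Subgroup.orderOf_mk, hordx0]
      obtain ⟨i, -, hi'⟩ := (Nat.dvd_prime_pow hq.out).mp hd
      rcases Nat.eq_zero_or_pos i with rfl | hipos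
      · rw [pow_zero, orderOf_eq_one_iff] at hi'
        have h'' : x0 ^ orderOf (ρ ⟨x0, hx0C⟩) = 1 := by simpa using congrArg Subtype.val hi'
        exact_mod_cast hordx0 ▸ orderOf_dvd_of_pow_eq_one h''
      · exact absurd (hi' ▸ dvd_pow_self q hipos.ne') h'
    have h1 : (ρ ⟨x0, hx0C⟩) ^ (((m : ℤ) - 1) * (orderOf (ρ ⟨l, hlC⟩) : ℤ)) = 1 := by
      rw [zpow_mul, ← hl', zpow_natCast, pow_orderOf_eq_one]
    have h2 : ((q : ℤ) ^ kq) ∣ (orderOf (ρ ⟨l, hlC⟩) : ℤ) :=
      hm1q.symm.dvd_of_dvd_mul_left (hox.trans (orderOf_dvd_iff_zpow_eq_one.mpr h1))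
    have h3 : q ^ kq ∣ orderOf (ρ ⟨l, hlC⟩) := by exact_mod_cast h2
    exact h3.trans ((orderOf_map_dvd ρ _).trans (Subgroup.orderOf_mk l hlC).dvd)
  set l' : C := (⟨l, hlC⟩ : C) ^ (orderOf l / q ^ kq) with hl'def
  have hl'o : orderOf l' = q ^ kq := by
    rw [hl'def, orderOf_pow' _ (Nat.div_pos (Nat.le_of_dvd (orderOf_pos l) hqo) (pow_pos hq.out.pos _)).ne',
      Subgroup.orderOf_mk, Nat.gcd_eq_right (Nat.div_dvd_of_dvd hqo),
      Nat.div_div_self hqo (orderOf_pos l).ne']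
  have hl'R : ∀ r ∈ RG, Commute (l' : G) r := fun r hr => by
    rw [hl'def, SubgroupClass.coe_pow]; exact (hlR r hr).pow_left _
  have hgenC : ∀ c : C, ∃ k ∈ K, ∃ i : ℤ, c = k * l' ^ i := by
    have ho : orderOf (QuotientGroup.mk' K l') = Nat.card (C ⧸ K) := by
      rw [← Subgroup.index_eq_card, hKi']
      have hd : orderOf (QuotientGroup.mk' K l') ∣ q ^ kq := hl'o ▸ orderOf_map_dvd _ _
      refine Nat.dvd_antisymm hd ?_
      have hi : l' ^ orderOf (QuotientGroup.mk' K l') ∈ K :=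
        (QuotientGroup.eq_one_iff _).mp (by
          rw [← QuotientGroup.mk'_apply, map_pow, pow_orderOf_eq_one])
      have h' := (hKmem _).mp hi
      have hd2 : orderOf (l' ^ orderOf (QuotientGroup.mk' K l')) ∣ q ^ kq := hl'o ▸ orderOf_pow_dvd _
      obtain ⟨i, -, hi'⟩ := (Nat.dvd_prime_pow hq.out).mp hd2
      rcases Nat.eq_zero_or_pos i with rfl | hipos
      · rw [pow_zero, orderOf_eq_one_iff] at hi'
        exact hl'o ▸ orderOf_dvd_of_pow_eq_one hi'
      · exact absurd (hi' ▸ dvd_pow_self q hipos.ne') h'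
    have htop : Subgroup.zpowers (QuotientGroup.mk' K l') = ⊤ :=
      Subgroup.eq_top_of_card_eq _ (by rw [Nat.card_zpowers, ho])
    intro c
    obtain ⟨i, hi⟩ : QuotientGroup.mk' K c ∈ Subgroup.zpowers (QuotientGroup.mk' K l') :=
      htop.ge (Subgroup.mem_top _)
    refine ⟨c * l' ^ (-i), (QuotientGroup.eq_one_iff _).mp ?_, i, by group⟩
    have hi' : (QuotientGroup.mk' K l') ^ i = QuotientGroup.mk' K c := hi
    rw [← QuotientGroup.mk'_apply, map_mul, map_zpow, zpow_neg, hi', mul_inv_cancel]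
  -- `x` is conjugate by an element of `K` to a power of `l'`
  obtain ⟨T, hT⟩ : ∃ T : Sylow q C, (T : Subgroup C) = Subgroup.zpowers l' :=
    ⟨Sylow.ofCard (Subgroup.zpowers l') (by
      rw [Nat.card_zpowers, hl'o, ← hkq, ← Nat.card_congr (Subgroup.subgroupOfEquivOfLe hQC).toEquiv]
      exact (Q.subtype hQC).card_eq_multiplicity), rfl⟩
  obtain ⟨c, hc⟩ := MulAction.exists_smul_eq C T (Q.subtype hQC)
  have hxT : (⟨x, hxC⟩ : C) ∈ (Q.subtype hQC : Subgroup C) := by
    simpa [Subgroup.mem_subgroupOf] using hxQ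
  rw [← hc, Sylow.coe_subgroup_smul] at hxT
  obtain ⟨t, ht, htx⟩ := hxT
  rw [hT] at ht
  obtain ⟨i2, rfl⟩ := Subgroup.mem_zpowers_iff.mp ht
  obtain ⟨k, hk, i3, rfl⟩ := hgenC c
  have hxk' : k⁻¹ * ⟨x, hxC⟩ * k = l' ^ i2 := by
    have h' : k * l' ^ i3 * l' ^ i2 * (k * l' ^ i3)⁻¹ = ⟨x, hxC⟩ := htx
    rw [← h']; group
  have hcomm' : Commute ((l' ^ i2 : C) : G) y := by
    rw [SubgroupClass.coe_zpow]; exact (hl'R y hyR).zpow_left i2
  set k' : C := (l' ^ i2)⁻¹ * ⟨x, hxC⟩ with hk'def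
  have hk' : k' ∈ K := by
    have e1 : k' = (k⁻¹ * (⟨x, hxC⟩ : C)⁻¹ * k * (⟨x, hxC⟩ : C)) := by rw [hk'def, ← hxk']; group
    rw [e1, show k⁻¹ * (⟨x, hxC⟩ : C)⁻¹ * k * (⟨x, hxC⟩ : C) =
      k⁻¹ * ((⟨x, hxC⟩ : C)⁻¹ * k * ((⟨x, hxC⟩ : C)⁻¹)⁻¹) by group]
    exact mul_mem (inv_mem hk) (hKn.conj_mem k hk _)
  have hxe : x = ((l' ^ i2 : C) : G) * (k' : G) := by
    rw [← Subgroup.coe_mul, hk'def, mul_inv_cancel_left]
  have hek : (k' : G) * y * (k' : G)⁻¹ = y ^ e := by
    have h1 : (k' : G) * y * (k' : G)⁻¹ = ((l' ^ i2 : C) : G)⁻¹ * (x * y * x⁻¹) * ((l' ^ i2 : C) : G) := by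
      rw [hxe]; group
    rw [h1, he]
    exact ((hcomm'.pow_right e).inv_left).eq ▸ by group
  have h3 : (e : ZMod p) ^ orderOf k' = 1 :=
    exponent_pow_eq_one hy hek (by
      rw [← Subgroup.orderOf_coe]; exact pow_orderOf_eq_one _)
  have h4 : (orderOf k').Coprime (q ^ j) :=
    (hq.out.coprime_iff_not_dvd.mpr ((hKmem k').mp hk')).symm.pow_right j
  have h5 : (e : ZMod p) ^ Nat.gcd (orderOf k') (q ^ j) = 1 := pow_gcd_eq_one.mpr ⟨h3, hex⟩
  rwa [h4.gcd_eq_one, pow_one] at h5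

/-- Elements of odd order normalizing a group of odd prime order centralize it. -/
theorem commute_of_odd {p : ℕ} [hp : Fact p.Prime] (hp2 : p ≠ 2) {h y : G} (hy : orderOf y = p)
    (hh : Odd (orderOf h)) (hn : h * y * h⁻¹ ∈ Subgroup.zpowers y) : Commute h y := by
  obtain ⟨e, he⟩ := exists_conj_eq_pow hn
  refine (conj_exponent_eq_one hy he).mpr ?_
  have h1 : (e : ZMod p) ^ orderOf h = 1 := exponent_pow_eq_one hy he (pow_orderOf_eq_one h)
  by_contra hne
  have hd := orderOf_dvd_of_pow_eq_one h1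
  have hn1 : orderOf (e : ZMod p) ≠ 1 := fun h' => hne (orderOf_eq_one_iff.mp h')
  obtain ⟨q, hq, hqn⟩ := Nat.exists_prime_and_dvd hn1
  haveI := Fact.mk hq
  have hqo : q ∣ orderOf h := hqn.trans hd
  have hq2 : q ≠ 2 := fun h2 => Nat.not_even_iff_odd.mpr hh (even_iff_two_dvd.mpr (h2 ▸ hqo))
  have hop : orderOf h ≠ 0 := (orderOf_pos h).ne'
  set v := (orderOf h).factorization q
  set r := orderOf h / q ^ v
  have hvd : q ^ v ∣ orderOf h := Nat.ordProj_dvd _ _
  have hr : ¬ q ∣ r := Nat.not_dvd_ordCompl hq hop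
  have hx : orderOf (h ^ r) = q ^ v := by
    rw [orderOf_pow' _ (Nat.ordCompl_pos q hop).ne', Nat.gcd_eq_right (Nat.div_dvd_of_dvd hvd),
      Nat.div_div_self hvd hop]
  have hxy := hx
  have hn' : h ^ r * y * (h ^ r)⁻¹ ∈ Subgroup.zpowers y := by
    rw [conj_pow_iterate he]; exact Subgroup.pow_mem _ (Subgroup.mem_zpowers y) _
  have hc := commute_of_prime_power hG hp2 hq2 hxy hy hn'
  have h2 := (conj_exponent_eq_one hy (conj_pow_iterate he r)).mp hc
  rw [Nat.cast_pow] at h2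
  exact hr (hqn.trans (orderOf_dvd_of_pow_eq_one h2))

/-- Subgroups of odd order are cyclic. -/
theorem isCyclic_of_odd {K : Subgroup G} (hK : Odd (Nat.card K)) : IsCyclic K := by
  have hcomm : commutator K = ⊥ := by
    refine Subgroup.card_eq_one.mp (Nat.eq_one_iff_not_exists_prime_dvd.mpr fun p hp hpd => ?_)
    haveI := Fact.mk hp
    have hpK : p ∣ Nat.card K := hpd.trans (Subgroup.card_subgroup_dvd_card _)
    have hp2 : p ≠ 2 := fun h2 => Nat.not_even_iff_odd.mpr hK (even_iff_two_dvd.mpr (h2 ▸ hpK))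
    obtain ⟨w, hw⟩ := exists_prime_orderOf_dvd_card' p hpK
    obtain ⟨P, hP⟩ := (IsPGroup.of_card (n := 1) (by rw [Nat.card_zpowers, hw, pow_one]) :
      IsPGroup p (Subgroup.zpowers w)).exists_le_sylow
    obtain ⟨P', hP'⟩ := (P.2.map K.subtype).exists_le_sylow
    haveI := hG.cyc p hp2 P'
    haveI : IsCyclic (P : Subgroup K) := by
      have : IsCyclic ((P : Subgroup K).map K.subtype) :=
        (Subgroup.subgroupOfEquivOfLe hP').isCyclic.mp inferInstance
      exact (Subgroup.equivMapOfInjective _ _ K.subtype_injective).isCyclic.mpr this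
    have hwP : w ∈ (P : Subgroup K) := hP (Subgroup.mem_zpowers w)
    obtain ⟨K', -, -, hK', hle⟩ := exists_complement P hwP hw fun g hg => by
      have hmem := mem_zpowers_of_cyclic hwP hw ((Subgroup.mem_normalizer_iff.mp hg w).mp hwP)
        (by rw [conj_pow, ← hw, pow_orderOf_eq_one, mul_one, mul_inv_cancel])
      refine Subtype.ext (commute_of_odd hG hp2 (h := (g : G)) (y := (w : G))
        ((Subgroup.orderOf_coe w).trans hw) ?_ ?_).eq
      · refine hK.of_dvd_nat ?_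
        rw [Subgroup.orderOf_coe]
        exact orderOf_dvd_natCard g
      · obtain ⟨i, hi⟩ := hmem
        exact ⟨i, by simpa using congrArg Subtype.val hi⟩
    exact hK' (hpd.trans (Subgroup.card_dvd_of_le hle))
  letI : CommGroup K :=
    { (inferInstance : Group K) with
      mul_comm := fun a b => (commutatorElement_eq_one_iff_mul_comm.mp (Subgroup.mem_bot.mp
        (hcomm.le (Subgroup.commutator_mem_commutator (Subgroup.mem_top a) (Subgroup.mem_top b))))) }
  haveI : IsZGroup K := ⟨fun p hp P => by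
    haveI := Fact.mk hp
    by_cases hp2 : p = 2
    · subst hp2
      have h1 : Nat.card (P : Subgroup K) = 1 := by
        obtain ⟨k, hk⟩ := P.2.exists_card_eq
        rcases Nat.eq_zero_or_pos k with rfl | hk0
        · simpa using hk
        · exfalso
          refine Nat.not_even_iff_odd.mpr hK (even_iff_two_dvd.mpr ?_)
          exact (hk ▸ dvd_pow_self 2 hk0.ne').trans (Subgroup.card_subgroup_dvd_card _)
      haveI := (Nat.card_eq_one_iff_unique.mp h1).1
      infer_instance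
    · obtain ⟨P', hP'⟩ := (P.2.map K.subtype).exists_le_sylow
      haveI := hG.cyc p hp2 P'
      have : IsCyclic ((P : Subgroup K).map K.subtype) :=
        (Subgroup.subgroupOfEquivOfLe hP').isCyclic.mp inferInstance
      exact (Subgroup.equivMapOfInjective _ _ K.subtype_injective).isCyclic.mpr this⟩
  infer_instance

/-- Elements of odd order of a group with a normal subgroup of odd order and index a power of two
commute. -/
theorem commute_of_odd_core {K : Subgroup G} (hK : Odd (Nat.card K)) {a b : G} (ha : a ∈ K) (hb : b ∈ K) :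
    Commute a b := by
  haveI := isCyclic_of_odd hG hK
  exact congrArg Subtype.val (mul_comm' (⟨a, ha⟩ : K) ⟨b, hb⟩)

end CfsgLib.PerfectCompl
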