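import Cfsg.Agent.Lib.PerfectCompl.Main
import Cfsg.Agent.Lib.PerfectCompl.Nonsolvable
import Cfsg.Agent.S3377

/-!
# Groups of order 120 with quaternion Sylow 2-subgroups; a presentation of `SL(2, 5)`
-/

set_option autoImplicit false
set_option linter.style.haveILetI false
set_option linter.unusedSectionVars false

open scoped Classical

namespace CfsgLib.PerfectCompl

universe u

local notation "SL25" => Matrix.SpecialLinearGroup (Fin 2) (ZMod 5)

theorem no_index_three_alt_six (H : Subgroup (alternatingGroup (Fin 6))) : H.index ≠ 3 := by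
  intro h
  haveI : Nontrivial (alternatingGroup (Fin 6)) := alternatingGroup.nontrivial_of_three_le_card (by simp)
  haveI : IsSimpleGroup (alternatingGroup (Fin 6)) := alternatingGroup.isSimpleGroup (by simp)
  let f := MulAction.toPermHom (alternatingGroup (Fin 6)) (alternatingGroup (Fin 6) ⧸ H)
  rcases (inferInstance : f.ker.Normal).eq_bot_or_eq_top with h' | h'
  · have hd : Nat.card f.range ∣ Nat.card (Equiv.Perm (alternatingGroup (Fin 6) ⧸ H)) :=
      Subgroup.card_subgroup_dvd_card _
    rw [Nat.card_perm, ← Subgroup.index_eq_card, h, ← Subgroup.index_ker, h', Subgroup.index_bot,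
      nat_card_alternatingGroup, Nat.card_fin] at hd
    exact absurd hd (by decide)
  · have : H = ⊤ := by
      rw [eq_top_iff]
      intro g _
      have : f g = 1 := MonoidHom.mem_ker.mp (h' ▸ Subgroup.mem_top g)
      have := DFunLike.congr_fun this ((1 : alternatingGroup (Fin 6)) : alternatingGroup (Fin 6) ⧸ H)
      change ((g * 1 : alternatingGroup (Fin 6)) : alternatingGroup (Fin 6) ⧸ H) = ((1 : alternatingGroup (Fin 6)) : _) at this
      rwa [mul_one, QuotientGroup.eq, mul_one, inv_mem_iff] at this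
    rw [this, Subgroup.index_top] at h
    omega

theorem iso_of_quaternion_sylow {G : Type u} [Group G] [Finite G] (hcard : Nat.card G = 120)
    (hns : ¬ Group.IsSolvable G) (hQ : ∀ P : Sylow 2 G, Nonempty ((P : Subgroup G) ≃* QuaternionGroup 2)) :
    Nonempty (G ≃* SL25) := by
  haveI := Fact.mk Nat.prime_two
  haveI : Fact (Nat.Prime 5) := ⟨by norm_num⟩
  -- perfect
  obtain ⟨D, hDn, hD1, hDperf⟩ := exists_perfect_core hns
  haveI := hDn
  haveI : Nontrivial D := (Subgroup.nontrivial_iff_ne_bot D).mpr hD1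
  have h60 := CfsgLib.AEightSub.sixty_le (not_solvable_of_perfect hDperf)
  have hdvd : Nat.card D ∣ 120 := hcard ▸ Subgroup.card_subgroup_dvd_card D
  have hD60 : Nat.card D ≠ 60 := by
    intro h
    haveI := CfsgLib.AEightSub.simple_of_sixty (not_solvable_of_perfect hDperf) h
    obtain ⟨e⟩ := Cfsg.Agent.S0494.result h
    let s : alternatingGroup (Fin 5) := ⟨Equiv.swap 0 1 * Equiv.swap 2 3, Equiv.Perm.mem_alternatingGroup.mpr (by decide)⟩
    let t : alternatingGroup (Fin 5) := ⟨Equiv.swap 0 2 * Equiv.swap 1 3, Equiv.Perm.mem_alternatingGroup.mpr (by decide)⟩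
    set s' : G := ((e.symm s : D) : G) with hs'
    set t' : G := ((e.symm t : D) : G) with ht'
    have hs : orderOf s' = 2 := by
      rw [hs', Subgroup.orderOf_coe, MulEquiv.orderOf_eq]
      exact orderOf_eq_prime (Subtype.ext (by decide)) (fun h => absurd (congrArg Subtype.val h) (by decide))
    have ht : orderOf t' = 2 := by
      rw [ht', Subgroup.orderOf_coe, MulEquiv.orderOf_eq]
      exact orderOf_eq_prime (Subtype.ext (by decide)) (fun h => absurd (congrArg Subtype.val h) (by decide))
    have hst : Commute s' t' :=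
      ((show Commute s t from Subtype.ext (by decide)).map e.symm.toMonoidHom).map D.subtype
    have hK : IsPGroup 2 (Subgroup.zpowers s' ⊔ Subgroup.zpowers t' : Subgroup G) := by
      refine IsPGroup.to_sup_of_normal_right' (IsPGroup.of_card (n := 1) (by rw [Nat.card_zpowers, hs, pow_one]))
        (IsPGroup.of_card (n := 1) (by rw [Nat.card_zpowers, ht, pow_one])) ?_
      refine Subgroup.zpowers_le.mpr (Subgroup.mem_normalizer_fintype fun w hw => ?_)
      obtain ⟨j, rfl⟩ := Subgroup.mem_zpowers_iff.mp hw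
      rw [(hst.zpow_right j).eq, mul_inv_cancel_right]
      exact ⟨j, rfl⟩
    obtain ⟨P, hP⟩ := hK.exists_le_sylow
    obtain ⟨q⟩ := hQ P
    have huniq : ∀ x y : QuaternionGroup 2, x ≠ 1 → x ^ 2 = 1 → y ≠ 1 → y ^ 2 = 1 → x = y := by decide +kernel
    have hsP : s' ∈ (P : Subgroup G) := hP (Subgroup.mem_sup_left (Subgroup.mem_zpowers _))
    have htP : t' ∈ (P : Subgroup G) := hP (Subgroup.mem_sup_right (Subgroup.mem_zpowers _))
    have ho : ∀ x : (P : Subgroup G), orderOf (x : G) = 2 → q x ≠ 1 ∧ q x ^ 2 = 1 := fun x hx => by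
      have : orderOf (q x) = 2 := by rw [MulEquiv.orderOf_eq, ← Subgroup.orderOf_coe, hx]
      exact ⟨fun h => by rw [h, orderOf_one] at this; omega, by have hp := pow_orderOf_eq_one (q x); rwa [this] at hp⟩
    have heq := huniq _ _ (ho ⟨s', hsP⟩ hs).1 (ho ⟨s', hsP⟩ hs).2 (ho ⟨t', htP⟩ ht).1 (ho ⟨t', htP⟩ ht).2
    have h0 := q.injective heq
    have h1 : s = t := e.symm.injective (Subtype.ext (show ((e.symm s : D) : G) = ((e.symm t : D) : G) from
      congrArg (fun x : (P : Subgroup G) => (x : G)) h0))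
    exact absurd h1 (by decide)
  have hDtop : D = ⊤ := by
    refine Subgroup.eq_top_of_card_eq D ?_
    rw [hcard]
    obtain ⟨c, hc⟩ := hdvd
    have hc2 : c ≤ 2 := by nlinarith
    interval_cases c <;> omega
  have hperf : commutator G = ⊤ := by
    have h := congrArg (Subgroup.map D.subtype) hDperf
    rw [commutator_def, Subgroup.map_commutator, ← MonoidHom.range_eq_map, Subgroup.range_subtype, hDtop] at h
    exact h
  -- a central involution
  let f := MulAction.toPermHom G (Sylow 5 G)
  have hn5 : Nat.card (Sylow 5 G) = 6 := by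
    obtain ⟨P⟩ : Nonempty (Sylow 5 G) := inferInstance
    have hm := card_sylow_modEq_one 5 G
    have hd : Nat.card (Sylow 5 G) ∣ 24 := by
      have h5 : Nat.card P = 5 := by
        rw [P.card_eq_multiplicity, hcard, show (120 : ℕ) = 5 * 24 from rfl,
          Nat.factorization_mul (by norm_num) (by norm_num)]
        simp [Nat.Prime.factorization_self (show Nat.Prime 5 by norm_num),
          Nat.factorization_eq_zero_of_not_dvd (show ¬ 5 ∣ 24 by norm_num)]
      have h := (P : Subgroup G).card_mul_index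
      rw [hcard, show Nat.card (P : Subgroup G) = 5 from h5] at h
      have : (P : Subgroup G).index = 24 := by omega
      exact this ▸ Sylow.card_dvd_index P
    have hne : Nat.card (Sylow 5 G) ≠ 1 := by
      intro h1
      haveI : Subsingleton (Sylow 5 G) := (Nat.card_eq_one_iff_unique.mp h1).1
      have hPn : (P : Subgroup G).Normal := Subgroup.normalizer_eq_top_iff.mp (by
        rw [eq_top_iff]
        intro g _
        exact Sylow.smul_eq_iff_mem_normalizer.mp (Subsingleton.elim (g • P) P))
      have h5 : Nat.card (G ⧸ (P : Subgroup G)) < 60 := by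
        have h := Subgroup.card_eq_card_quotient_mul_card_subgroup (P : Subgroup G)
        have hp5 : 5 ∣ Nat.card P := P.dvd_card_of_dvd_card (by rw [hcard]; norm_num)
        have := Nat.le_of_dvd Nat.card_pos hp5
        rw [hcard] at h
        nlinarith [Nat.card_pos (α := G ⧸ (P : Subgroup G))]
      haveI : Group.IsSolvable (G ⧸ (P : Subgroup G)) := by
        by_contra h
        have := CfsgLib.AEightSub.sixty_le h
        omega
      haveI : Group.IsNilpotent (P : Subgroup G) := P.2.isNilpotent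
      exact hns (solvable_of_ker_le_range (P : Subgroup G).subtype (QuotientGroup.mk' (P : Subgroup G))
        (by rw [QuotientGroup.ker_mk', Subgroup.range_subtype]))
    have hle := Nat.le_of_dvd (by norm_num) hd
    have hm' : Nat.card (Sylow 5 G) % 5 = 1 := hm
    interval_cases Nat.card (Sylow 5 G) <;> omega
  let eS : Sylow 5 G ≃ Fin 6 := (Nat.equivFinOfCardPos (by omega)).trans (finCongr hn5)
  let f' : G →* Equiv.Perm (Fin 6) := eS.permCongrHom.toMonoidHom.comp f
  have hsign : ∀ g, f' g ∈ alternatingGroup (Fin 6) := fun g => by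
    rw [Equiv.Perm.mem_alternatingGroup, ← MonoidHom.comp_apply]
    exact MonoidHom.mem_ker.mp ((Abelianization.commutator_subset_ker (Equiv.Perm.sign.comp f'))
      (hperf ▸ Subgroup.mem_top g))
  let f6 := f'.codRestrict _ hsign
  have hne : f6.ker ≠ ⊤ := fun h => by
    haveI : MulAction.IsPretransitive G (Sylow 5 G) := inferInstance
    obtain ⟨P⟩ : Nonempty (Sylow 5 G) := inferInstance
    have hsub : Subsingleton (Sylow 5 G) := ⟨fun a b => by
      obtain ⟨g, rfl⟩ := MulAction.exists_smul_eq G a b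
      have hg : g ∈ f6.ker := by rw [h]; exact Subgroup.mem_top g
      have h0 : f6 g = 1 := hg
      have h1 : f' g = 1 := congrArg Subtype.val h0
      have h2 : f g = 1 := eS.permCongrHom.injective (h1.trans (map_one eS.permCongrHom).symm)
      exact (DFunLike.congr_fun h2 a).symm⟩
    rw [Nat.card_of_subsingleton P] at hn5
    omega
  have hkb : f6.ker ≠ ⊥ := fun h => by
    refine no_index_three_alt_six f6.range ?_
    have h1 := f6.range.card_mul_index
    rw [← Subgroup.index_ker, h, Subgroup.index_bot, hcard, nat_card_alternatingGroup, Nat.card_fin] at h1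
    have : Nat.factorial 6 / 2 = 360 := by decide
    omega
  have hq : ¬ Group.IsSolvable (G ⧸ f6.ker) := fun h => by
    haveI : Nontrivial (G ⧸ f6.ker) := QuotientGroup.nontrivial_iff.mpr hne
    refine not_solvable_of_perfect ?_ h
    rw [commutator_def, ← Subgroup.map_top_of_surjective _ (QuotientGroup.mk'_surjective f6.ker),
      ← Subgroup.map_commutator, ← commutator_def, hperf]
  have h60' := CfsgLib.AEightSub.sixty_le hq
  have hk2 : Nat.card f6.ker = 2 := by
    have h := Subgroup.card_eq_card_quotient_mul_card_subgroup f6.ker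
    rw [hcard] at h
    have h1 : Nat.card f6.ker ≠ 1 := fun e => hkb (Subgroup.card_eq_one.mp e)
    have := Nat.card_pos (α := f6.ker)
    have h2 : Nat.card f6.ker ≤ 2 := by nlinarith
    omega
  obtain ⟨⟨z, hzk⟩, hz⟩ := exists_prime_orderOf_dvd_card' (G := f6.ker) 2 (hk2 ▸ dvd_rfl)
  rw [Subgroup.orderOf_mk] at hz
  refine iso_SL25 hperf hcard hz fun g => ?_
  have hm := (inferInstance : f6.ker.Normal).conj_mem z hzk g
  have h2 := Subgroup.orderOf_dvd_natCard _ hm
  have ho : orderOf (g * z * g⁻¹) = 2 := (MulEquiv.orderOf_eq (MulAut.conj g) z).trans hz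
  have hall : ∀ w ∈ f6.ker, w ≠ 1 → w = z := fun w hw hw1 => by
    obtain ⟨a, b, -, hab⟩ := Nat.card_eq_two_iff.mp hk2
    have hz1 : (⟨z, hzk⟩ : f6.ker) ≠ 1 := fun e => by
      have := congrArg Subtype.val e
      simp only [OneMemClass.coe_one] at this
      rw [this, orderOf_one] at hz
      omega
    have hw1' : (⟨w, hw⟩ : f6.ker) ≠ 1 := fun e => hw1 (congrArg Subtype.val e)
    have hm' : ∀ x : f6.ker, x = a ∨ x = b := fun x => by
      have : x ∈ ({a, b} : Set f6.ker) := hab ▸ Set.mem_univ x
      exact this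
    rcases hm' ⟨w, hw⟩ with h | h <;> rcases hm' ⟨z, hzk⟩ with h' | h' <;> rcases hm' 1 with h'' | h''
    all_goals first
      | exact congrArg Subtype.val (h.trans h'.symm)
      | exact absurd (h.trans h''.symm) hw1'
      | exact absurd (h'.trans h''.symm) hz1
  have hgz : g * z * g⁻¹ = z := hall _ hm fun e => by rw [e, orderOf_one] at ho; omega
  exact (mul_inv_eq_iff_eq_mul.mp hgz).symm

/-- The relators of the binary icosahedral group. -/
abbrev binRels : Set (FreeGroup (Fin 3)) :=
  {FreeGroup.of (0 : Fin 3) ^ 3, FreeGroup.of (1 : Fin 3) ^ 5, FreeGroup.of (2 : Fin 3) ^ 2,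
    (FreeGroup.of (2 : Fin 3))⁻¹ * FreeGroup.of 0 * FreeGroup.of 2 * (FreeGroup.of (0 : Fin 3))⁻¹,
    (FreeGroup.of (2 : Fin 3))⁻¹ * FreeGroup.of 1 * FreeGroup.of 2 * (FreeGroup.of (1 : Fin 3))⁻¹,
    (FreeGroup.of (0 : Fin 3) * FreeGroup.of 1) ^ 2 * (FreeGroup.of (2 : Fin 3))⁻¹}

theorem presentation_SL25 : Nonempty (PresentedGroup binRels ≃* SL25) := by
  set P := PresentedGroup binRels
  let a : P := PresentedGroup.of 0
  let b : P := PresentedGroup.of 1
  let c : P := PresentedGroup.of 2
  have hrel : ∀ r ∈ binRels, PresentedGroup.mk binRels r = 1 := fun r hr => PresentedGroup.one_of_mem hr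
  have ha : a ^ 3 = 1 := by
    have := hrel (FreeGroup.of (0 : Fin 3) ^ 3) (by simp [binRels]); rwa [map_pow] at this
  have hb : b ^ 5 = 1 := by
    have := hrel (FreeGroup.of (1 : Fin 3) ^ 5) (by simp [binRels]); rwa [map_pow] at this
  have hc : c ^ 2 = 1 := by
    have := hrel (FreeGroup.of (2 : Fin 3) ^ 2) (by simp [binRels]); rwa [map_pow] at this
  have hca : c⁻¹ * a * c * a⁻¹ = 1 := by
    have := hrel ((FreeGroup.of (2 : Fin 3))⁻¹ * FreeGroup.of 0 * FreeGroup.of 2 * (FreeGroup.of (0 : Fin 3))⁻¹)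
      (by simp [binRels])
    rwa [map_mul, map_mul, map_mul, map_inv, map_inv] at this
  have hcb : c⁻¹ * b * c * b⁻¹ = 1 := by
    have := hrel ((FreeGroup.of (2 : Fin 3))⁻¹ * FreeGroup.of 1 * FreeGroup.of 2 * (FreeGroup.of (1 : Fin 3))⁻¹)
      (by simp [binRels])
    rwa [map_mul, map_mul, map_mul, map_inv, map_inv] at this
  have hab : (a * b) ^ 2 * c⁻¹ = 1 := by
    have := hrel ((FreeGroup.of (0 : Fin 3) * FreeGroup.of 1) ^ 2 * (FreeGroup.of (2 : Fin 3))⁻¹)
      (by simp [binRels])
    rwa [map_mul, map_pow, map_mul, map_inv] at this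
  have hcomm : ∀ x, c⁻¹ * x * c * x⁻¹ = 1 → Commute c x := fun x h => by
    have h' : c⁻¹ * x * c = x := mul_inv_eq_one.mp h
    show c * x = x * c
    calc c * x = c * (c⁻¹ * x * c) := by rw [h']
      _ = x * c := by group
  have hgen : Subgroup.closure ({a, b, c} : Set P) = ⊤ := by
    rw [eq_top_iff, ← PresentedGroup.closure_range_of binRels]
    refine Subgroup.closure_mono ?_
    rintro _ ⟨i, rfl⟩
    fin_cases i <;> simp [a, b, c]
  have hcen : ∀ x, Commute c x := by
    have hle : Subgroup.closure ({a, b, c} : Set P) ≤ Subgroup.centralizer ({c} : Set P) := by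
      rw [Subgroup.closure_le]
      intro x hx
      rw [SetLike.mem_coe, Subgroup.mem_centralizer_iff]
      rintro y (rfl : y = c)
      rcases hx with rfl | rfl | rfl
      · exact (hcomm a hca).eq
      · exact (hcomm b hcb).eq
      · rfl
    rw [hgen] at hle
    intro x
    exact Subgroup.mem_centralizer_iff.mp (hle (Subgroup.mem_top x)) c rfl
  haveI hN : (Subgroup.zpowers c).Normal := ⟨fun x hx g => by
    obtain ⟨i, rfl⟩ := Subgroup.mem_zpowers_iff.mp hx
    rw [← ((hcen g).zpow_left i).eq, mul_inv_cancel_right]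
    exact ⟨i, rfl⟩⟩
  let q := QuotientGroup.mk' (Subgroup.zpowers c)
  have hqc : q c = 1 := (QuotientGroup.eq_one_iff c).mpr (Subgroup.mem_zpowers c)
  let img : Fin 2 → P ⧸ Subgroup.zpowers c := ![q a, q b]
  have himg : ∀ r ∈ ({FreeGroup.of (0 : Fin 2) ^ 3, FreeGroup.of (1 : Fin 2) ^ 5,
      (FreeGroup.of (0 : Fin 2) * FreeGroup.of 1) ^ 2} : Set (FreeGroup (Fin 2))), FreeGroup.lift img r = 1 := by
    rintro r (rfl | rfl | rfl)
    · rw [map_pow, FreeGroup.lift_apply_of]; show q a ^ 3 = 1; rw [← map_pow, ha, map_one]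
    · rw [map_pow, FreeGroup.lift_apply_of]; show q b ^ 5 = 1; rw [← map_pow, hb, map_one]
    · rw [map_pow, map_mul, FreeGroup.lift_apply_of, FreeGroup.lift_apply_of]
      show (q a * q b) ^ 2 = 1
      rw [← map_mul, ← map_pow, mul_inv_eq_one.mp hab, hqc]
  let φ := PresentedGroup.toGroup himg
  have hφ : Function.Surjective φ := by
    rw [← MonoidHom.range_eq_top, eq_top_iff, ← Subgroup.map_top_of_surjective q (QuotientGroup.mk'_surjective _),
      ← hgen, MonoidHom.map_closure, Subgroup.closure_le]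
    rintro _ ⟨x, hx, rfl⟩
    rcases hx with rfl | rfl | rfl
    · exact ⟨PresentedGroup.of 0, PresentedGroup.toGroup.of himg⟩
    · exact ⟨PresentedGroup.of 1, PresentedGroup.toGroup.of himg⟩
    · rw [hqc]; exact one_mem _
  obtain ⟨e5⟩ := Cfsg.Agent.S3377.result
  haveI := Finite.of_equiv _ e5.symm.toEquiv
  haveI : Finite (P ⧸ Subgroup.zpowers c) := Finite.of_surjective φ hφ
  have hA5 : Nat.card (alternatingGroup (Fin 5)) = 60 := by
    rw [nat_card_alternatingGroup, Nat.card_fin]; decide
  have hQ : Nat.card (P ⧸ Subgroup.zpowers c) ≤ 60 := by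
    rw [← hA5, ← Nat.card_congr e5.toEquiv]
    exact Nat.card_le_card_of_surjective φ hφ
  have hcfin : IsOfFinOrder c := isOfFinOrder_iff_pow_eq_one.2 ⟨2, by norm_num, hc⟩
  haveI : Finite (Subgroup.zpowers c) := hcfin.finite_zpowers.to_subtype
  haveI : Finite P := Finite.of_equiv _ (Subgroup.groupEquivQuotientProdSubgroup (s := Subgroup.zpowers c)).symm
  have hP : Nat.card P ≤ 120 := by
    rw [Subgroup.card_eq_card_quotient_mul_card_subgroup (Subgroup.zpowers c), Nat.card_zpowers]
    exact (Nat.mul_le_mul hQ (orderOf_le_of_pow_eq_one (by norm_num) hc)).trans (by norm_num)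
  -- the model
  let A : SL25 := ⟨!![0, -1; 1, -1], by decide⟩
  let B : SL25 := ⟨!![1, 1; 0, 1], by decide⟩
  let C : SL25 := ⟨!![-1, 0; 0, -1], by decide⟩
  let img' : Fin 3 → SL25 := ![A, B, C]
  have himg' : ∀ r ∈ binRels, FreeGroup.lift img' r = 1 := by
    rintro r (rfl | rfl | rfl | rfl | rfl | rfl) <;>
      simp only [map_mul, map_pow, map_inv, FreeGroup.lift_apply_of] <;> decide +kernel
  let ψ := PresentedGroup.toGroup himg'
  have hS : Nat.card SL25 = 120 := by
    rw [CfsgLib.Classical.card_SL_two, ZMod.card]; norm_num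
  have hA : A ∈ ψ.range := ⟨PresentedGroup.of 0, PresentedGroup.toGroup.of himg'⟩
  have hB : B ∈ ψ.range := ⟨PresentedGroup.of 1, PresentedGroup.toGroup.of himg'⟩
  have h60 : 60 ∣ Nat.card ψ.range := by
    haveI : Fact (Nat.Prime 3) := ⟨Nat.prime_three⟩
    haveI : Fact (Nat.Prime 2) := ⟨Nat.prime_two⟩
    have h3 : 3 ∣ Nat.card ψ.range := by
      have := Subgroup.orderOf_dvd_natCard _ hA
      rwa [orderOf_eq_prime (show A ^ 3 = 1 by decide +kernel) (show A ≠ 1 from fun e => absurd (show (-1 : ZMod 5) = 0 from congrArg (fun M : SL25 => (M : Matrix (Fin 2) (Fin 2) (ZMod 5)) 0 1) e) (by decide +kernel))] at this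
    have h5 : 5 ∣ Nat.card ψ.range := by
      have := Subgroup.orderOf_dvd_natCard _ hB
      rwa [orderOf_eq_prime (show B ^ 5 = 1 by decide +kernel) (show B ≠ 1 from fun e => absurd (show (1 : ZMod 5) = 0 from congrArg (fun M : SL25 => (M : Matrix (Fin 2) (Fin 2) (ZMod 5)) 0 1) e) (by decide +kernel))] at this
    have h4 : 4 ∣ Nat.card ψ.range := by
      have := Subgroup.orderOf_dvd_natCard _ (mul_mem hA hB)
      rwa [orderOf_eq_prime_pow (p := 2) (n := 1) (show ¬ (A * B) ^ 2 ^ 1 = 1 by decide +kernel)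
        (show (A * B) ^ 2 ^ (1 + 1) = 1 by decide +kernel)] at this
    exact Nat.Coprime.mul_dvd_of_dvd_of_dvd (by norm_num : Nat.Coprime 12 5)
      (Nat.Coprime.mul_dvd_of_dvd_of_dvd (by norm_num : Nat.Coprime 4 3) h4 h3) h5
  have htop : ψ.range = ⊤ := by
    have h := ψ.range.card_mul_index
    rw [hS] at h
    obtain ⟨k, hk⟩ := h60
    rw [hk] at h
    have h2 : k * ψ.range.index = 2 := by linarith
    rcases (Nat.dvd_prime Nat.prime_two).mp (Dvd.intro_left k h2) with h' | h'
    · exact Subgroup.index_eq_one.mp h'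
    · haveI := Subgroup.normal_of_index_eq_two h'
      haveI : IsCyclic (SL25 ⧸ ψ.range) := isCyclic_of_prime_card (p := 2) (hp := ⟨Nat.prime_two⟩)
        ((Subgroup.index_eq_card ψ.range).symm.trans h')
      rw [eq_top_iff, ← CfsgLib.Classical.commutator_SL_eq_top (ι := Fin 2) (F := ZMod 5) (Or.inr ⟨2, by decide, by decide⟩)]
      letI : CommGroup (SL25 ⧸ ψ.range) := IsCyclic.commGroup
      intro x hx
      exact (QuotientGroup.eq_one_iff x).mp (MonoidHom.mem_ker.mp
        (Abelianization.commutator_subset_ker (QuotientGroup.mk' ψ.range) hx))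
  have hψ : Function.Surjective ψ := MonoidHom.range_eq_top.mp htop
  exact ⟨MulEquiv.ofBijective ψ ((Nat.bijective_iff_surjective_and_card ψ).mpr
    ⟨hψ, le_antisymm (hS ▸ hP) (Nat.card_le_card_of_surjective ψ hψ)⟩)⟩

end CfsgLib.PerfectCompl
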