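import Cfsg.Agent.Lib.PerfectCompl.Odd
import Cfsg.Agent.Lib.PerfectCompl.Algebra
import Cfsg.Agent.Lib.FrobCompl.FpfModule
import Cfsg.Agent.Lib.FrobCompl.Noncyclic
import Cfsg.Agent.S3357

/-!
# Fixed-point-free groups: representation in characteristic zero and first consequences
-/

set_option autoImplicit false
set_option linter.style.haveILetI false
set_option linter.unusedSectionVars false

namespace CfsgLib.PerfectCompl

open CfsgLib.FrobCompl

universe u

variable {H : Type u} [Group H] [Finite H]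

theorem exists_rep [Nontrivial H] (hH : HasFpf H) :
    ∃ (R : Type) (_ : Ring R) (_ : Algebra ℚ R) (_ : Nontrivial R) (ρ : H →* R),
      ∀ h : H, h ≠ 1 → ∀ x : R, ρ h * x = x → x = 0 := by
  obtain ⟨n, ρ, hn, -, -, hfix⟩ := Cfsg.Agent.S3357.result hH.exists_complement
  haveI : Nonempty (Fin n) := ⟨⟨0, hn⟩⟩
  refine ⟨Matrix (Fin n) (Fin n) (AlgebraicClosure ℚ), inferInstance, inferInstance, inferInstance,
    (Units.coeHom _).comp ρ, fun h hh x hx => ?_⟩
  ext i j
  have hcol : ((ρ h : GL (Fin n) (AlgebraicClosure ℚ)) : Matrix (Fin n) (Fin n) (AlgebraicClosure ℚ)).mulVec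
      (fun k => x k j) = fun k => x k j := by
    funext k
    exact congrFun (congrFun hx k) j
  exact congrFun (hfix h hh _ hcol) i

/-- `H` as a group of automorphisms inside a finite group. -/
theorem ambient [Nontrivial H] (hH : HasFpf H) :
    ∃ (L : Type) (_ : Group L) (_ : Finite L) (A V : Subgroup L) (_ : IsMulCommutative V) (f : H →* L),
      Function.Injective f ∧ f.range = A ∧ V ≠ ⊥ ∧ A ≤ Subgroup.normalizer (V : Set L) ∧
        ∀ e ∈ A, e ≠ 1 → V ⊓ Subgroup.centralizer {e} = ⊥ := by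
  obtain ⟨L, iL, fL, C, hC, ⟨e⟩⟩ := hH.exists_complement
  obtain ⟨N, -, hN, hc⟩ := exists_kernel_complement hC
  haveI := hN
  have hN1 : N ≠ ⊥ := fun h => hC.2.1 (Subgroup.isComplement'_bot_left.mp (h ▸ hc))
  obtain ⟨V, hVc, hV, hCV, hfpf⟩ := exists_abelian_module hc hN1 hC.1 (fun h hh h1 => eq_bot_iff.mpr fun k hk => by
    obtain ⟨hkN, hkc⟩ := Subgroup.mem_inf.mp hk
    have hkC := mem_of_commute hC hh h1 (Subgroup.mem_centralizer_singleton_iff.mp hkc)
    exact hc.disjoint.le_bot ⟨hkN, hkC⟩)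
  refine ⟨L, iL, fL, C, V, hVc, C.subtype.comp e.toMonoidHom, C.subtype_injective.comp e.injective, ?_, hV, hCV, hfpf⟩
  rw [MonoidHom.range_comp, MonoidHom.range_eq_top.mpr e.surjective, ← MonoidHom.range_eq_map, Subgroup.range_subtype]

theorem oddGood (hH : HasFpf H) (hperf : commutator H = ⊤) : OddGood H := by
  rcases subsingleton_or_nontrivial H with hs | hs
  · exact ⟨hperf, fun p _ _ P => inferInstance, fun x y _ _ _ _ _ => Subsingleton.elim _ _⟩
  obtain ⟨L, _, _, A, V, _, f, hf, hfA, hV, hAV, hfpf⟩ := ambient hH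
  refine ⟨hperf, fun p _ hp2 P => ?_, fun x y hx _ hy _ hn => ?_⟩
  · have hc := (sylow_structure hV hAV hfpf (P.2.map f) (hfA ▸ Subgroup.map_le_range f _)).1 hp2
    exact (Subgroup.equivMapOfInjective _ f hf).isCyclic.mpr hc
  · obtain ⟨i, hi⟩ := hn
    have hi' : y ^ i = x * y * x⁻¹ := hi
    have hN : f x ∈ Subgroup.normalizer ((Subgroup.zpowers (f y) : Subgroup L) : Set L) := by
      refine Subgroup.mem_normalizer_fintype fun w hw => ?_
      obtain ⟨j, rfl⟩ := Subgroup.mem_zpowers_iff.mp hw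
      rw [← conj_zpow, ← map_inv, ← map_mul, ← map_mul, ← hi', map_zpow, ← zpow_mul]
      exact ⟨_, rfl⟩
    have h := (mem_zpowers_or_commute hx hy hV hAV hfpf (hfA ▸ ⟨x, rfl⟩) (hfA ▸ ⟨y, rfl⟩)
      (orderOf_injective f hf x) (orderOf_injective f hf y) hN).2
    exact hf (by rw [map_mul, map_mul]; exact h)

section

variable {R : Type} [Ring R] (ρ : H →* R) (hρ : ∀ h : H, h ≠ 1 → ∀ x : R, ρ h * x = x → x = 0)
include hρ

theorem sum_pow_eq_zero' {g : H} {n : ℕ} (hg : g ≠ 1) (hn : g ^ n = 1) :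
    ∑ i ∈ Finset.range n, ρ g ^ i = 0 := by
  refine hρ g hg _ ?_
  have h := mul_geom_sum (ρ g) n
  rw [← map_pow, hn, map_one, sub_self, sub_mul, one_mul, sub_eq_zero] at h
  exact h

theorem rep_involution {z : H} (hz : orderOf z = 2) : ρ z = -1 := by
  have hz1 : z ≠ 1 := fun h => by rw [h, orderOf_one] at hz; omega
  have h := sum_pow_eq_zero' ρ hρ hz1 (hz ▸ pow_orderOf_eq_one z)
  simp only [Finset.sum_range_succ, Finset.sum_range_zero, zero_add, pow_zero, pow_one] at h
  exact eq_neg_of_add_eq_zero_right h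

theorem rep_three {g : H} (hg : g ≠ 1) (h3 : g ^ 3 = 1) : ρ g * ρ g + ρ g + 1 = 0 := by
  have h := sum_pow_eq_zero' ρ hρ hg h3
  simp only [Finset.sum_range_succ, Finset.sum_range_zero, zero_add, pow_zero, pow_one, pow_two] at h
  rw [← h]; abel

theorem rep_injective [Nontrivial R] : Function.Injective ρ := by
  refine (injective_iff_map_eq_one ρ).mpr fun h hh => ?_
  by_contra h1
  exact one_ne_zero (hρ h h1 1 (by rw [hh, mul_one]))

theorem rep_cube {z g : H} (hz : orderOf z = 2) (hzc : Commute z g) (hgz : g ≠ z)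
    (h : ρ g * (ρ g * ρ g) = -1) [Nontrivial R] : ρ g * ρ g - ρ g + 1 = 0 := by
  have hz2 : z ^ 2 = 1 := hz ▸ pow_orderOf_eq_one z
  have h1 : z * g ≠ 1 := fun e => hgz (by
    calc g = z * (z * g) := by rw [← mul_assoc, ← pow_two, hz2, one_mul]
      _ = z := by rw [e, mul_one])
  have h3 : (z * g) ^ 3 = 1 := by
    refine rep_injective ρ hρ ?_
    rw [map_one, map_pow, map_mul, rep_involution ρ hρ hz, neg_one_mul, pow_succ, pow_two, neg_mul_neg,
      mul_neg, mul_assoc, h, neg_neg]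
  have := rep_three ρ hρ h1 h3
  rwa [map_mul, rep_involution ρ hρ hz, neg_one_mul, neg_mul_neg, ← sub_eq_add_neg] at this

end

theorem involution_eq (hH : HasFpf H) {y z : H} (hy : orderOf y = 2) (hz : orderOf z = 2) : y = z := by
  haveI : Nontrivial H := ⟨⟨z, 1, fun h => by rw [h, orderOf_one] at hz; omega⟩⟩
  obtain ⟨R, _, _, _, ρ, hρ⟩ := exists_rep hH
  exact rep_injective ρ hρ (by rw [rep_involution ρ hρ hy, rep_involution ρ hρ hz])

theorem involution_central (hH : HasFpf H) {z : H} (hz : orderOf z = 2) (g : H) : Commute z g := by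
  have h := involution_eq hH (y := g * z * g⁻¹) (by rw [← MulAut.conj_apply, MulEquiv.orderOf_eq]; exact hz) hz
  exact (commute_iff_conj.mpr h).symm

end CfsgLib.PerfectCompl
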