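import Cfsg.Agent.Lib.PerfectCompl.Solvable

/-!
# The six types of quotients of a group acting fixed point freely
-/

set_option autoImplicit false
set_option linter.style.haveILetI false
set_option linter.unusedSectionVars false

open scoped Classical

namespace CfsgLib.PerfectCompl

open CfsgLib.FrobCompl

universe u

variable {G : Type u} [Group G] [Finite G]

theorem ZSylow.isZGroup {N : Subgroup G} (hN : ZSylow N) : IsZGroup N :=
  ⟨fun p hp P => by haveI := Fact.mk hp; exact hN p P⟩

theorem ZSylow.solvable {N : Subgroup G} (hN : ZSylow N) : Group.IsSolvable N := by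
  haveI := hN.isZGroup
  infer_instance

theorem alt_five_not_solvable : ¬ Group.IsSolvable (alternatingGroup (Fin 5)) := by
  intro h
  let a : alternatingGroup (Fin 5) := ⟨Equiv.swap 0 1 * Equiv.swap 1 2, Equiv.Perm.mem_alternatingGroup.mpr (by decide)⟩
  let b : alternatingGroup (Fin 5) := ⟨Equiv.swap 0 1 * Equiv.swap 1 3, Equiv.Perm.mem_alternatingGroup.mpr (by decide)⟩
  have := (IsSimpleGroup.comm_iff_isSolvable.mpr h) a b
  exact absurd (congrArg Subtype.val this) (show ¬ (Equiv.swap (0 : Fin 5) 1 * Equiv.swap 1 2) *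
    (Equiv.swap 0 1 * Equiv.swap 1 3) = (Equiv.swap 0 1 * Equiv.swap 1 3) * (Equiv.swap 0 1 * Equiv.swap 1 2) by decide)

/-- A solvable subgroup of the symmetric group of degree five normalized by the alternating group is trivial. -/
theorem solvable_normalized_bot {K : Subgroup (Equiv.Perm (Fin 5))} (hK : Group.IsSolvable K)
    (hn : ∀ a ∈ alternatingGroup (Fin 5), ∀ k ∈ K, a * k * a⁻¹ ∈ K) : K = ⊥ := by
  set A := alternatingGroup (Fin 5)
  haveI : (K.subgroupOf A).Normal := ⟨fun k hk a => hn a a.2 k hk⟩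
  rcases Subgroup.Normal.eq_bot_or_eq_top (inferInstance : (K.subgroupOf A).Normal) with h | h
  · refine eq_bot_iff.mpr fun k hk => Subgroup.mem_bot.mpr ?_
    apply CfsgLib.AutAlternating.conjNormal_injective (n := 5) (by norm_num)
    rw [map_one]
    refine MulEquiv.ext fun a => Subtype.ext ?_
    rw [MulAut.conjNormal_apply]
    show k * a * k⁻¹ = a
    have hA : (a : Equiv.Perm (Fin 5)) * k * (a : Equiv.Perm (Fin 5))⁻¹ * k⁻¹ ∈ A := by
      rw [show (a : Equiv.Perm (Fin 5)) * k * (a : Equiv.Perm (Fin 5))⁻¹ * k⁻¹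
        = a * (k * (a : Equiv.Perm (Fin 5))⁻¹ * k⁻¹) by group]
      exact mul_mem a.2 ((inferInstance : A.Normal).conj_mem _ (inv_mem a.2) k)
    have hKm : (⟨_, hA⟩ : A) ∈ K.subgroupOf A := mul_mem (hn a a.2 k hk) (inv_mem hk)
    rw [h, Subgroup.mem_bot] at hKm
    have h1 : (a : Equiv.Perm (Fin 5)) * k * (a : Equiv.Perm (Fin 5))⁻¹ * k⁻¹ = 1 := congrArg Subtype.val hKm
    rw [mul_inv_eq_one, mul_inv_eq_iff_eq_mul] at h1
    rw [← h1, mul_inv_cancel_right]
  · refine absurd ?_ alt_five_not_solvable
    exact solvable_of_solvable_injective (f := Subgroup.inclusion (Subgroup.subgroupOf_eq_top.mp h))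
      (Subgroup.inclusion_injective _)

/-- A normal solvable subgroup lies in the kernel of a map whose image contains the alternating group. -/
theorem le_ker_five {N : Subgroup G} [N.Normal] (hN : Group.IsSolvable N) (f : G →* Equiv.Perm (Fin 5))
    (hf : alternatingGroup (Fin 5) ≤ f.range) : N ≤ f.ker := by
  haveI := hN
  have h := solvable_normalized_bot (K := N.map f)
    (solvable_of_surjective (f.subgroupMap_surjective N)) (by
      rintro a ha _ ⟨n, hn, rfl⟩
      obtain ⟨g, rfl⟩ := hf ha
      exact ⟨g * n * g⁻¹, (inferInstance : N.Normal).conj_mem n hn g, by simp⟩)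
  exact fun n hn => Subgroup.mem_bot.mp (h ▸ Subgroup.mem_map_of_mem f hn)

theorem solvable_of_quotient {T : Type*} [Group T] [Group.IsSolvable T] (f : G →* T) (h : Group.IsSolvable f.ker) :
    Group.IsSolvable G := by
  haveI := h
  exact solvable_of_ker_le_range f.ker.subtype f (by rw [Subgroup.range_subtype])

/-- Two commuting involutions in the image of a group with cyclic Sylow 2-subgroups coincide. -/
theorem eq_of_commute_invol {T : Type*} [Group T] [Finite T] (f : G →* T) (hf : Function.Surjective f)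
    (hP : ∀ P : Sylow 2 G, IsCyclic (P : Subgroup G)) {s t : T} (hs : orderOf s = 2) (ht : orderOf t = 2)
    (hst : Commute s t) : s = t := by
  haveI := Fact.mk Nat.prime_two
  obtain ⟨P⟩ : Nonempty (Sylow 2 G) := inferInstance
  haveI := hP P
  let Q : Sylow 2 T := P.mapSurjective hf
  have hQ : IsCyclic (Q : Subgroup T) := by
    show IsCyclic ((P : Subgroup G).map f)
    exact isCyclic_of_surjective (f.subgroupMap (P : Subgroup G)) (f.subgroupMap_surjective _)
  have hK : IsPGroup 2 (Subgroup.zpowers s ⊔ Subgroup.zpowers t : Subgroup T) := by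
    refine IsPGroup.to_sup_of_normal_right' (IsPGroup.of_card (n := 1) (by rw [Nat.card_zpowers, hs, pow_one]))
      (IsPGroup.of_card (n := 1) (by rw [Nat.card_zpowers, ht, pow_one])) ?_
    refine Subgroup.zpowers_le.mpr (Subgroup.mem_normalizer_fintype fun w hw => ?_)
    obtain ⟨j, rfl⟩ := Subgroup.mem_zpowers_iff.mp hw
    rw [(hst.zpow_right j).eq, mul_inv_cancel_right]
    exact ⟨j, rfl⟩
  obtain ⟨R, hR⟩ := hK.exists_le_sylow
  haveI : IsCyclic (R : Subgroup T) := (Q.equiv R).isCyclic.mp hQ
  haveI : IsCyclic (Subgroup.zpowers s ⊔ Subgroup.zpowers t : Subgroup T) := Subgroup.isCyclic_of_le hR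
  set K := Subgroup.zpowers s ⊔ Subgroup.zpowers t
  have hsK : s ∈ K := Subgroup.mem_sup_left (Subgroup.mem_zpowers s)
  have htK : t ∈ K := Subgroup.mem_sup_right (Subgroup.mem_zpowers t)
  haveI : Fintype K := Fintype.ofFinite K
  have h2 : 2 ∣ Fintype.card K := by
    rw [← Nat.card_eq_fintype_card, ← hs]
    exact Subgroup.orderOf_dvd_natCard K hsK
  have h1 : (Finset.univ.filter fun x : K => orderOf x = 2).card ≤ 1 := by
    rw [IsCyclic.card_orderOf_eq_totient h2, Nat.totient_two]
  have := Finset.card_le_one.mp h1 ⟨s, hsK⟩ (by simp [hs]) ⟨t, htK⟩ (by simp [ht])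
  exact congrArg Subtype.val this

end CfsgLib.PerfectCompl
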