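import Cfsg.Agent.Lib.PerfectCompl.Odd

/-!
# Perfect groups with a four-group as Sylow 2-subgroup and cyclic odd subgroups have order 60
-/

set_option autoImplicit false
set_option linter.style.haveILetI false
set_option linter.unusedSectionVars false

open scoped Classical

namespace CfsgLib.PerfectCompl

variable {G : Type*} [Group G] [Finite G]

/-- The hypotheses: `OddGood`, Sylow 2-subgroups of order 4, no elements of order 4. -/
structure FourGood (G : Type*) [Group G] : Prop extends OddGood G where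
  card2 : ∀ S : Sylow 2 G, Nat.card (S : Subgroup G) = 4
  noFour : ∀ g : G, orderOf g ≠ 4

variable (hG : FourGood G)
include hG

omit hG in
theorem commute_conj {g a b : G} (h : Commute a b) : Commute (g * a * g⁻¹) (g * b * g⁻¹) :=
  h.map (MulAut.conj g).toMonoidHom

theorem two_part (g : G) :
    (Odd (orderOf g)) ∨ ∃ m : ℕ, Odd m ∧ orderOf g = 2 * m ∧ orderOf (g ^ m) = 2 ∧
      Odd (orderOf (g ^ (m + 1))) ∧ g ^ m * g ^ (m + 1) = g := by
  rcases (orderOf g).even_or_odd with he | ho
  swap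
  · exact Or.inl ho
  obtain ⟨m, hm⟩ := he
  have hm0 : m ≠ 0 := fun h => (orderOf_pos g).ne' (by omega)
  have hord : orderOf g = 2 * m := by omega
  have hodd : Odd m := by
    by_contra h
    obtain ⟨k, hk⟩ := Nat.not_odd_iff_even.mp h
    refine hG.noFour (g ^ k) ?_
    rw [orderOf_pow' _ (by omega), hord, Nat.gcd_eq_right ⟨4, by omega⟩,
      show 2 * m = 4 * k by omega, Nat.mul_div_cancel _ (by omega : 0 < k)]
  refine Or.inr ⟨m, hodd, hord, ?_, ?_, ?_⟩
  · rw [orderOf_pow' _ hm0, hord, Nat.gcd_eq_right (dvd_mul_left m 2), Nat.mul_div_cancel _ (by omega)]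
  · refine hodd.of_dvd_nat (orderOf_dvd_of_pow_eq_one ?_)
    obtain ⟨k, hk⟩ := hodd.add_one
    rw [← pow_mul, show (m + 1) * m = orderOf g * k by rw [hord, hk]; ring, pow_mul, pow_orderOf_eq_one,
      one_pow]
  · rw [← pow_add, show m + (m + 1) = orderOf g + 1 by omega, pow_succ, pow_orderOf_eq_one, one_mul]

theorem sq_eq_one_of_two_power {g : G} {k : ℕ} (h : g ^ 2 ^ k = 1) : g ^ 2 = 1 := by
  obtain ⟨i, -, hi⟩ := (Nat.dvd_prime_pow Nat.prime_two).mp (orderOf_dvd_of_pow_eq_one h)
  rcases two_part hG g with ho | ⟨m, hm, hord, -, -, -⟩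
  · rcases Nat.eq_zero_or_pos i with rfl | hi0
    · have h1 : g = 1 := by simpa using hi
      rw [h1, one_pow]
    · exact absurd (even_iff_two_dvd.mpr (hi ▸ dvd_pow_self 2 hi0.ne')) (Nat.not_even_iff_odd.mpr ho)
  · have hd : m ∣ 2 ^ i := ⟨2, by omega⟩
    have : m = 1 := Nat.eq_one_of_dvd_coprimes (Nat.Coprime.pow_right i hm.coprime_two_right) dvd_rfl hd
    subst this
    exact (by simpa using hord : orderOf g = 2) ▸ pow_orderOf_eq_one g

/-- Elements normalizing a subgroup of odd prime order centralize or invert it. -/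
theorem conj_eq_or_inv {p : ℕ} [hp : Fact p.Prime] (hp2 : p ≠ 2) {y h : G} (hy : orderOf y = p)
    (hn : h * y * h⁻¹ ∈ Subgroup.zpowers y) : h * y * h⁻¹ = y ∨ h * y * h⁻¹ = y⁻¹ := by
  rcases two_part hG h with ho | ⟨m, -, -, hs, hd, hsd⟩
  · exact Or.inl (commute_iff_conj.mp (commute_of_odd hG.toOddGood hp2 hy ho hn))
  obtain ⟨e, he⟩ := exists_conj_eq_pow hn
  have h2 : (e : ZMod p) ^ (m + 1) = 1 := by
    have := (conj_exponent_eq_one hy (conj_pow_iterate he (m + 1))).mp
      (commute_of_odd hG.toOddGood hp2 hy hd (by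
        rw [conj_pow_iterate he]; exact Subgroup.pow_mem _ (Subgroup.mem_zpowers y) _))
    simpa using this
  have h1 : (e : ZMod p) ^ (m * 2) = 1 := by
    refine exponent_pow_eq_one hy he ?_
    rw [pow_mul, ← hs, pow_orderOf_eq_one]
  have h3 : (e : ZMod p) ^ 2 = 1 := by
    have h4 : (e : ZMod p) ^ ((m + 1) * 2) = 1 := by rw [pow_mul, h2, one_pow]
    rw [add_mul, one_mul, pow_add, h1, one_mul] at h4
    exact h4
  rcases sq_eq_one_iff.mp h3 with h5 | h5
  · exact Or.inl (commute_iff_conj.mp ((conj_exponent_eq_one hy he).mpr h5))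
  · refine Or.inr ?_
    rw [he, eq_inv_iff_mul_eq_one, ← pow_succ, ← orderOf_dvd_iff_pow_eq_one, hy,
      ← ZMod.natCast_eq_zero_iff, Nat.cast_add, Nat.cast_one, h5, neg_add_cancel]
  all_goals exact h3

omit hG in
theorem not_inverted {p : ℕ} [hp : Fact p.Prime] (hp2 : p ≠ 2) {y r : G} (hy : orderOf y = p)
    (hr : r * y * r⁻¹ = y⁻¹) : ¬ Commute r y := fun hc => by
  rw [commute_iff_conj.mp hc, eq_inv_iff_mul_eq_one, ← pow_two] at hr
  exact hp2 ((Nat.prime_dvd_prime_iff_eq hp.out Nat.prime_two).mp (hy ▸ orderOf_dvd_of_pow_eq_one hr))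

theorem exists_inverting {p : ℕ} [hp : Fact p.Prime] (hp2 : p ≠ 2) {y : G} (hy : orderOf y = p) :
    ∃ r : G, orderOf r = 2 ∧ r * y * r⁻¹ = y⁻¹ := by
  obtain ⟨g, hg, hgc⟩ := exists_moving hG.toOddGood hp2 hy
  rcases two_part hG g with ho | ⟨m, -, -, hs, hd, hsd⟩
  · exact absurd (commute_of_odd hG.toOddGood hp2 hy ho hg) hgc
  obtain ⟨e, he⟩ := exists_conj_eq_pow hg
  have hpow : ∀ i, g ^ i * y * (g ^ i)⁻¹ ∈ Subgroup.zpowers y := fun i => by
    rw [conj_pow_iterate he]; exact Subgroup.pow_mem _ (Subgroup.mem_zpowers y) _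
  refine ⟨g ^ m, hs, ?_⟩
  rcases conj_eq_or_inv hG hp2 hy (hpow m) with h | h
  · refine absurd ?_ hgc
    rw [← hsd]
    exact (commute_iff_conj.mpr h).mul_left (commute_of_odd hG.toOddGood hp2 hy hd (hpow (m + 1)))
  · exact h

/-- A four-group in a subgroup `M` meets all classes of involutions of `M`. -/
theorem exists_conj_mem {M V : Subgroup G} (hVM : V ≤ M) (hV : Nat.card V = 4) {r : G}
    (hr : r ∈ M) (hr2 : r ^ 2 = 1) : ∃ n ∈ M, n * r * n⁻¹ ∈ V := by
  haveI := Fact.mk Nat.prime_two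
  have hVp : IsPGroup 2 (V.subgroupOf M) :=
    IsPGroup.of_card (n := 2) (by rw [Nat.card_congr (Subgroup.subgroupOfEquivOfLe hVM).toEquiv, hV]; norm_num)
  obtain ⟨T, hT⟩ := hVp.exists_le_sylow
  have hTV : (T : Subgroup M) = V.subgroupOf M := by
    refine (Subgroup.eq_of_le_of_card_ge hT ?_).symm
    obtain ⟨S, hS⟩ := (T.2.map M.subtype).exists_le_sylow
    rw [Nat.card_congr (Subgroup.subgroupOfEquivOfLe hVM).toEquiv, hV, ← hG.card2 S,
      ← Subgroup.card_map_of_injective M.subtype_injective]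
    exact Subgroup.card_le_of_le hS
  have hrp : IsPGroup 2 (Subgroup.zpowers (⟨r, hr⟩ : M)) := by
    obtain ⟨i, -, hi⟩ := (Nat.dvd_prime_pow Nat.prime_two).mp
      (show orderOf (⟨r, hr⟩ : M) ∣ 2 ^ 1 from orderOf_dvd_of_pow_eq_one (Subtype.ext (by simpa using hr2)))
    exact IsPGroup.of_card (n := i) (by rw [Nat.card_zpowers, hi])
  obtain ⟨U, hU⟩ := hrp.exists_le_sylow
  obtain ⟨n, hn⟩ := MulAction.exists_smul_eq M U T
  refine ⟨(n : G), n.2, ?_⟩
  have hmem : n * ⟨r, hr⟩ * n⁻¹ ∈ (T : Subgroup M) := by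
    rw [← hn, Sylow.coe_subgroup_smul]
    exact ⟨_, hU (Subgroup.mem_zpowers _), rfl⟩
  rw [hTV] at hmem
  simpa [Subgroup.mem_subgroupOf] using hmem

omit hG in
theorem exists_four {s t : G} (hs : orderOf s = 2) (ht : orderOf t = 2) (hne : s ≠ t) (hc : Commute s t) :
    ∃ V : Subgroup G, Nat.card V = 4 ∧ ∀ x, x ∈ V ↔ x = 1 ∨ x = s ∨ x = t ∨ x = s * t := by
  have hs2 : s * s = 1 := by rw [← pow_two, ← hs, pow_orderOf_eq_one]
  have ht2 : t * t = 1 := by rw [← pow_two, ← ht, pow_orderOf_eq_one]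
  have hst : ∀ x, s * (t * x) = t * (s * x) := fun x => by rw [← mul_assoc, hc.eq, mul_assoc]
  have hsi : s⁻¹ = s := inv_eq_of_mul_eq_one_right hs2
  have hti : t⁻¹ = t := inv_eq_of_mul_eq_one_right ht2
  have hss : ∀ x, s * (s * x) = x := fun x => by rw [← mul_assoc, hs2, one_mul]
  have htt : ∀ x, t * (t * x) = x := fun x => by rw [← mul_assoc, ht2, one_mul]
  let V : Subgroup G :=
    { carrier := {1, s, t, s * t}
      mul_mem' := by
        rintro a b ha hb
        simp only [Set.mem_insert_iff, Set.mem_singleton_iff] at ha hb ⊢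
        rcases ha with rfl | rfl | rfl | rfl <;> rcases hb with rfl | rfl | rfl | rfl <;>
          simp [hs2, ht2, hst, hss, htt, hc.eq, mul_assoc]
      one_mem' := by simp
      inv_mem' := by
        intro a ha
        simp only [Set.mem_insert_iff, Set.mem_singleton_iff] at ha ⊢
        rcases ha with rfl | rfl | rfl | rfl <;> simp [hsi, hti, hc.eq] }
  refine ⟨V, ?_, fun x => by simp [V, ← SetLike.mem_coe]⟩
  have hs1 : s ≠ 1 := fun h => by rw [h, orderOf_one] at hs; omega
  have ht1 : t ≠ 1 := fun h => by rw [h, orderOf_one] at ht; omega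
  have hst1 : s * t ≠ 1 := fun h => hne (by rw [← hti]; exact mul_eq_one_iff_eq_inv.mp h)
  show Nat.card ({1, s, t, s * t} : Set G) = 4
  rw [Nat.card_coe_set_eq]
  rw [Set.ncard_insert_of_notMem (by simp [hs1.symm, ht1.symm, hst1.symm]),
    Set.ncard_insert_of_notMem (by simp [hne, ht1]),
    Set.ncard_insert_of_notMem (by simp [hs1]), Set.ncard_singleton]

/-- No four-group centralizes an element of odd prime order. -/
theorem not_four_centralize {p : ℕ} [hp : Fact p.Prime] (hp2 : p ≠ 2) {y s t : G} (hy : orderOf y = p)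
    (hs : orderOf s = 2) (ht : orderOf t = 2) (hne : s ≠ t) (hc : Commute s t) (hsy : Commute s y)
    (hty : Commute t y) : False := by
  obtain ⟨V, hV, hVm⟩ := exists_four hs ht hne hc
  have hVy : ∀ x ∈ V, Commute x y := fun x hx => by
    rcases (hVm x).mp hx with rfl | rfl | rfl | rfl
    exacts [Commute.one_left y, hsy, hty, hsy.mul_left hty]
  set N := Subgroup.normalizer ((Subgroup.zpowers y : Subgroup G) : Set G)
  have hVN : V ≤ N := fun x hx => Subgroup.mem_normalizer_fintype fun z hz => by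
    obtain ⟨i, rfl⟩ := Subgroup.mem_zpowers_iff.mp hz
    rw [commute_iff_conj.mp ((hVy x hx).zpow_right i)]
    exact ⟨i, rfl⟩
  obtain ⟨r, hr, hry⟩ := exists_inverting hG hp2 hy
  have hrN : r ∈ N := Subgroup.mem_normalizer_fintype fun z hz => by
    obtain ⟨i, rfl⟩ := Subgroup.mem_zpowers_iff.mp hz
    rw [← conj_zpow, hry, inv_zpow']
    exact ⟨-i, rfl⟩
  obtain ⟨n, hn, hnr⟩ := exists_conj_mem hG hVN hV hrN (hr ▸ pow_orderOf_eq_one r)
  refine not_inverted hp2 hy hry ?_
  have hc' := commute_conj (g := n⁻¹) (hVy _ hnr)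
  simp only [inv_inv] at hc'
  rw [show n⁻¹ * (n * r * n⁻¹) * n = r by group] at hc'
  rcases conj_eq_or_inv hG hp2 hy (h := n⁻¹) ((Subgroup.mem_normalizer_iff.mp (inv_mem hn) y).mp
    (Subgroup.mem_zpowers y)) with h | h <;> rw [inv_inv] at h <;> rw [h] at hc'
  · exact hc'
  · exact Commute.inv_right_iff.mp hc'

/-- Commuting-involution-free subgroups and centralizers of involutions: odd elements commute. -/
theorem exists_odd_core {M : Subgroup G}
    (hM : (∀ a ∈ M, ∀ b ∈ M, orderOf a = 2 → orderOf b = 2 → Commute a b → a = b) ∨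
      ∃ u ∈ M, orderOf u = 2 ∧ ∀ x ∈ M, Commute x u) :
    ∃ K : Subgroup M, K.Normal ∧ Odd (Nat.card K) ∧ (∀ x : M, Odd (orderOf x) ↔ x ∈ K) ∧
      ∀ P : Sylow 2 M, K.index = Nat.card (P : Subgroup M) := by
  haveI := Fact.mk Nat.prime_two
  obtain ⟨P⟩ : Nonempty (Sylow 2 M) := inferInstance
  have hsq : ∀ x ∈ (P : Subgroup M), x ^ 2 = 1 := fun x hx => by
    obtain ⟨k, hk⟩ := P.2 ⟨x, hx⟩
    have hk' : (x : G) ^ 2 ^ k = 1 := by simpa using congrArg (fun z : (P : Subgroup M) => ((z : M) : G)) hk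
    exact Subtype.ext (by simpa using sq_eq_one_of_two_power hG hk')
  have hcard : Nat.card (P : Subgroup M) ∣ 4 := by
    obtain ⟨S, hS⟩ := (P.2.map M.subtype).exists_le_sylow
    rw [← hG.card2 S, ← Subgroup.card_map_of_injective M.subtype_injective]
    exact Subgroup.card_dvd_of_le hS
  have hc : Subgroup.normalizer ((P : Subgroup M) : Set M) ≤
      Subgroup.centralizer ((P : Subgroup M) : Set M) := by
    intro n hn
    refine Subgroup.mem_centralizer_iff.mpr fun x hx => ?_
    rcases eq_or_ne x 1 with rfl | hx1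
    · simp
    by_contra hne
    set x' := n * x * n⁻¹ with hx'
    have hx'P : x' ∈ (P : Subgroup M) := (Subgroup.mem_normalizer_iff.mp hn x).mp hx
    have hxx : x' ≠ x := fun h => hne (mul_inv_eq_iff_eq_mul.mp h).symm
    have hord : ∀ z ∈ (P : Subgroup M), z ≠ 1 → orderOf (z : G) = 2 := fun z hz h1 =>
      (Subgroup.orderOf_coe z).trans (orderOf_eq_prime (hsq z hz) h1)
    have hx'1 : x' ≠ 1 := by rw [hx']; simpa using hx1
    have hcom : ∀ a ∈ (P : Subgroup M), ∀ b ∈ (P : Subgroup M), a * b = b * a := fun a ha b hb => by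
      have hi : ∀ z ∈ (P : Subgroup M), z⁻¹ = z := fun z hz =>
        inv_eq_of_mul_eq_one_right (by rw [← pow_two]; exact hsq z hz)
      calc a * b = (a * b)⁻¹ := (hi _ (mul_mem ha hb)).symm
        _ = b * a := by rw [mul_inv_rev, hi a ha, hi b hb]
    have hc' : Commute (x : G) (x' : G) := congrArg Subtype.val (hcom x hx x' hx'P)
    rcases hM with hM | ⟨u, hu, hu2, hucent⟩
    · exact hxx (Subtype.ext (hM x x.2 x' x'.2 (hord x hx hx1) (hord x' hx'P hx'1) hc').symm)
    -- `u` lies in `P` and is fixed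
    set u' : M := ⟨u, hu⟩
    have huz : u' ∈ Subgroup.center M :=
      Subgroup.mem_center_iff.mpr fun z => Subtype.ext (hucent z z.2).eq
    have huP : u' ∈ (P : Subgroup M) := by
      have hz : IsPGroup 2 (Subgroup.zpowers u') :=
        IsPGroup.of_card (n := 1) (by rw [Nat.card_zpowers, pow_one, ← Subgroup.orderOf_coe]; exact hu2)
      haveI : (Subgroup.zpowers u').Normal := ⟨fun a ha g => by
        have : a ∈ Subgroup.center M := Subgroup.zpowers_le.mpr huz ha
        rwa [(Subgroup.mem_center_iff.mp this g), mul_inv_cancel_right]⟩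
      exact (le_sup_left.trans (P.3 (hz.to_sup_of_normal_left P.2) le_sup_right).le) (Subgroup.mem_zpowers u')
    have hu1 : u' ≠ 1 := fun h => by
      rw [show u = 1 from congrArg Subtype.val h, orderOf_one] at hu2; omega
    have hfix : n * u' * n⁻¹ = u' := by rw [Subgroup.mem_center_iff.mp huz n, mul_inv_cancel_right]
    have hxu : x ≠ u' := fun h => hxx (by rw [hx', h]; exact hfix)
    -- the odd part of `n` moves `x`
    have hsqn : ∀ z : M, z ∈ (P : Subgroup M) → n ^ 2 * z * (n ^ 2)⁻¹ = z := by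
      have hV4 : ∀ z ∈ (P : Subgroup M), z = 1 ∨ z = u' ∨ z = x ∨ z = u' * x := by
        by_contra hz
        push Not at hz
        obtain ⟨z, hz, z1, zu, zx, zux⟩ := hz
        have h5 : 5 ≤ Nat.card (P : Subgroup M) := by
          have h : ({1, u', x, u' * x, z} : Set M) ⊆ ((P : Subgroup M) : Set M) := by
            intro w hw
            simp only [Set.mem_insert_iff, Set.mem_singleton_iff] at hw
            rcases hw with rfl | rfl | rfl | rfl | rfl
            exacts [one_mem _, huP, hx, mul_mem huP hx, hz]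
          refine le_trans ?_ (Set.ncard_le_ncard h |>.trans (Nat.card_coe_set_eq _).ge)
          have hux1 : u' * x ≠ 1 := fun h => hxu (by
            rw [← inv_eq_of_mul_eq_one_right (show u' * u' = 1 by rw [← pow_two]; exact hsq u' huP)]
            exact (inv_eq_of_mul_eq_one_right h).symm)
          rw [Set.ncard_insert_of_notMem (by simp [hu1.symm, hx1.symm, hux1.symm, z1.symm]),
            Set.ncard_insert_of_notMem (by simp [hxu.symm, hx1, hu1, zu.symm]),
            Set.ncard_insert_of_notMem (by simp [hu1, hx1, zx.symm]),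
            Set.ncard_insert_of_notMem (by simp [zux.symm]), Set.ncard_singleton]
        have := Nat.le_of_dvd (by norm_num) hcard
        omega
      intro z hz
      have key : n ^ 2 * x * (n ^ 2)⁻¹ = x := by
        have e : n ^ 2 * x * (n ^ 2)⁻¹ = n * x' * n⁻¹ := by rw [hx', pow_two]; group
        rcases hV4 x' hx'P with h | h | h | h
        · exact absurd h hx'1
        · exfalso
          apply hxu
          have : n * x * n⁻¹ = n * u' * n⁻¹ := h.trans hfix.symm
          simpa using this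
        · exact absurd h hxx
        · rw [e, h, show n * (u' * x) * n⁻¹ = n * u' * n⁻¹ * (n * x * n⁻¹) by group, hfix, ← hx', h,
            ← mul_assoc, show u' * u' = 1 by rw [← pow_two]; exact hsq u' huP, one_mul]
      have hku : n ^ 2 * u' * (n ^ 2)⁻¹ = u' := by rw [Subgroup.mem_center_iff.mp huz (n ^ 2), mul_inv_cancel_right]
      rcases hV4 z hz with rfl | rfl | rfl | rfl
      · simp
      · exact hku
      · exact key
      · rw [show n ^ 2 * (u' * x) * (n ^ 2)⁻¹ = n ^ 2 * u' * (n ^ 2)⁻¹ * (n ^ 2 * x * (n ^ 2)⁻¹) by group,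
          hku, key]
    rcases two_part hG (n : G) with ho | ⟨m, hm, -, hs, -, hsd⟩
    · apply hxx
      obtain ⟨k, hk⟩ := ho
      have hn2 : (n ^ 2) ^ (k + 1) = n := Subtype.ext (by
        push_cast
        rw [← pow_mul, show 2 * (k + 1) = orderOf (n : G) + 1 by omega, pow_succ, pow_orderOf_eq_one, one_mul])
      have h := commute_iff_conj.mp ((commute_iff_conj.mpr (hsqn x hx)).pow_left (k + 1))
      rw [hn2] at h
      exact h
    · apply hxx
      have hnm : n ^ m ∈ (P : Subgroup M) := by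
        have hsq' : (n ^ m) ^ 2 = 1 := Subtype.ext (by push_cast; exact hs ▸ pow_orderOf_eq_one _)
        have hz : IsPGroup 2 (Subgroup.zpowers (n ^ m)) :=
          IsPGroup.of_card (n := 1) (by rw [Nat.card_zpowers, pow_one, ← Subgroup.orderOf_coe]; push_cast; exact hs)
        exact (le_sup_left.trans (P.3 (hz.to_sup_of_normal_right' P.2
          (Subgroup.zpowers_le.mpr (Subgroup.pow_mem _ hn m))) le_sup_right).le) (Subgroup.mem_zpowers _)
      obtain ⟨k, hk⟩ := hm.add_one
      have h1 : Commute (n ^ (m + 1)) x := by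
        rw [hk, show k + k = 2 * k by omega, pow_mul]
        exact (commute_iff_conj.mpr (hsqn x hx)).pow_left k
      have h2 : Commute (n ^ m) x := hcom _ hnm x hx
      have hn' : n ^ m * n ^ (m + 1) = n := Subtype.ext (by push_cast; exact hsd)
      exact commute_iff_conj.mp (hn' ▸ h2.mul_left h1)
  haveI : IsMulCommutative (P : Subgroup M) :=
    ⟨⟨fun a b => Subtype.ext ((Subgroup.mem_centralizer_iff.mp (hc (Subgroup.le_normalizer b.2))) a a.2)⟩⟩
  letI : CommGroup (P : Subgroup M) :=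
    { (inferInstance : Group (P : Subgroup M)) with mul_comm := fun a b => mul_comm' a b }
  set K := (MonoidHom.transferSylow P hc).ker
  have hKi : K.index = Nat.card (P : Subgroup M) :=
    (MonoidHom.ker_transferSylow_isComplement' P hc).symm.index_eq_card
  have hKodd : Odd (Nat.card K) := Nat.not_even_iff_odd.mp fun h =>
    MonoidHom.not_dvd_card_ker_transferSylow P hc (even_iff_two_dvd.mp h)
  refine ⟨K, inferInstance, hKodd, fun x => ⟨fun hx => mem_of_coprime_index ?_, fun hx => ?_⟩,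
    fun P' => hKi.trans (Sylow.card_eq_multiplicity P ▸ (Sylow.card_eq_multiplicity P').symm)⟩
  · obtain ⟨k, hk⟩ := P.2.exists_card_eq
    rw [hKi, hk]
    exact hx.coprime_two_right.pow_right k
  · exact hKodd.of_dvd_nat (Subgroup.orderOf_mk x hx ▸ orderOf_dvd_natCard (⟨x, hx⟩ : K))

theorem commute_odd_of_core {M : Subgroup G}
    (hM : (∀ a ∈ M, ∀ b ∈ M, orderOf a = 2 → orderOf b = 2 → Commute a b → a = b) ∨
      ∃ u ∈ M, orderOf u = 2 ∧ ∀ x ∈ M, Commute x u)
    {a b : G} (ha : a ∈ M) (hb : b ∈ M) (hao : Odd (orderOf a)) (hbo : Odd (orderOf b)) :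
    Commute a b := by
  obtain ⟨K, -, hK, hKmem, -⟩ := exists_odd_core hG hM
  refine commute_of_odd_core hG.toOddGood (K := K.map M.subtype)
    (by rwa [Subgroup.card_map_of_injective M.subtype_injective])
    ⟨⟨a, ha⟩, (hKmem _).mp (by rwa [Subgroup.orderOf_mk]), rfl⟩
    ⟨⟨b, hb⟩, (hKmem _).mp (by rwa [Subgroup.orderOf_mk]), rfl⟩

omit hG in
theorem exists_prime_power {y : G} (hy : Odd (orderOf y)) (h1 : y ≠ 1) :
    ∃ i p : ℕ, p.Prime ∧ p ≠ 2 ∧ orderOf (y ^ i) = p := by
  obtain ⟨p, hp, hpy⟩ := Nat.exists_prime_and_dvd (fun h => h1 (orderOf_eq_one_iff.mp h))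
  refine ⟨orderOf y / p, p, hp, fun h2 => Nat.not_even_iff_odd.mpr hy (even_iff_two_dvd.mpr (h2 ▸ hpy)), ?_⟩
  rw [orderOf_pow' _ (Nat.div_pos (Nat.le_of_dvd (orderOf_pos y) hpy) hp.pos).ne',
    Nat.gcd_eq_right (Nat.div_dvd_of_dvd hpy), Nat.div_div_self hpy (orderOf_pos y).ne']

theorem no_commuting_involutions {y : G} (hy : Odd (orderOf y)) (h1 : y ≠ 1) :
    ∀ a ∈ Subgroup.centralizer ({y} : Set G), ∀ b ∈ Subgroup.centralizer ({y} : Set G),
      orderOf a = 2 → orderOf b = 2 → Commute a b → a = b := by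
  intro a ha b hb ha2 hb2 hab
  by_contra hne
  obtain ⟨i, p, hp, hp2, hi⟩ := exists_prime_power hy h1
  haveI := Fact.mk hp
  exact not_four_centralize hG hp2 hi ha2 hb2 hne hab
    ((show Commute a y from Subgroup.mem_centralizer_singleton_iff.mp ha).pow_right i)
    ((show Commute b y from Subgroup.mem_centralizer_singleton_iff.mp hb).pow_right i)

theorem commute_odd_centralizer {y a b : G} (hy : Odd (orderOf y)) (h1 : y ≠ 1) (ha : Commute a y)
    (hb : Commute b y) (hao : Odd (orderOf a)) (hbo : Odd (orderOf b)) : Commute a b :=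
  commute_odd_of_core hG (Or.inl (no_commuting_involutions hG hy h1))
    (Subgroup.mem_centralizer_singleton_iff.mpr ha.eq) (Subgroup.mem_centralizer_singleton_iff.mpr hb.eq)
    hao hbo

theorem commute_odd_involution {t a b : G} (ht : orderOf t = 2) (ha : Commute a t)
    (hb : Commute b t) (hao : Odd (orderOf a)) (hbo : Odd (orderOf b)) : Commute a b :=
  commute_odd_of_core hG (M := Subgroup.centralizer ({t} : Set G))
    (Or.inr ⟨t, Subgroup.mem_centralizer_singleton_iff.mpr rfl, ht,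
      fun x hx => Subgroup.mem_centralizer_singleton_iff.mp hx⟩)
    (Subgroup.mem_centralizer_singleton_iff.mpr ha.eq) (Subgroup.mem_centralizer_singleton_iff.mpr hb.eq)
    hao hbo

theorem zpowers_eq_of_commute {p : ℕ} [hp : Fact p.Prime] (hp2 : p ≠ 2) {y z : G}
    (hy : orderOf y = p) (hz : orderOf z = p) (hc : Commute y z) :
    Subgroup.zpowers z = Subgroup.zpowers y := by
  have hK : IsPGroup p (Subgroup.closure ({y, z} : Set G)) := by
    haveI : (Subgroup.zpowers y).Normal → True := fun _ => trivial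
    have hle : Subgroup.zpowers z ≤ Subgroup.normalizer ((Subgroup.zpowers y : Subgroup G) : Set G) :=
      Subgroup.zpowers_le.mpr (Subgroup.mem_normalizer_fintype fun w hw => by
        obtain ⟨i, rfl⟩ := Subgroup.mem_zpowers_iff.mp hw
        rw [commute_iff_conj.mp (hc.symm.zpow_right i)]
        exact ⟨i, rfl⟩)
    have := IsPGroup.to_sup_of_normal_right'
      (IsPGroup.of_card (n := 1) (by rw [Nat.card_zpowers, hz, pow_one]) : IsPGroup p (Subgroup.zpowers z))
      (IsPGroup.of_card (n := 1) (by rw [Nat.card_zpowers, hy, pow_one]) : IsPGroup p (Subgroup.zpowers y)) hle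
    refine this.to_le ((Subgroup.closure_le _).mpr ?_)
    rintro w (rfl | rfl)
    exacts [Subgroup.mem_sup_right (Subgroup.mem_zpowers _), Subgroup.mem_sup_left (Subgroup.mem_zpowers _)]
  haveI : IsCyclic (Subgroup.closure ({y, z} : Set G)) := isCyclic_of_odd hG.toOddGood (by
    obtain ⟨k, hk⟩ := hK.exists_card_eq
    rw [hk]; exact (hp.out.odd_of_ne_two hp2).pow)
  exact zpowers_eq_of_cyclic (Subgroup.subset_closure (Set.mem_insert y {z})) hy
    (Subgroup.subset_closure (Set.mem_insert_of_mem y (Set.mem_singleton z))) hz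

omit hG in
theorem commute_of_zpowers {u y z : G} (h : Subgroup.zpowers z = Subgroup.zpowers y) (hc : Commute u z) :
    Commute u y := by
  obtain ⟨i, hi⟩ := Subgroup.mem_zpowers_iff.mp (h.ge (Subgroup.mem_zpowers y))
  exact hi ▸ hc.zpow_right i

/-- All involutions are conjugate. -/
theorem involutions_conj {t u : G} (ht : orderOf t = 2) (hu : orderOf u = 2) : ∃ g : G, g * t * g⁻¹ = u := by
  haveI := Fact.mk Nat.prime_two
  obtain ⟨P⟩ : Nonempty (Sylow 2 G) := inferInstance
  have hsq : ∀ x ∈ (P : Subgroup G), x ^ 2 = 1 := fun x hx => by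
    obtain ⟨k, hk⟩ := P.2 ⟨x, hx⟩
    exact sq_eq_one_of_two_power hG (k := k) (by simpa using congrArg Subtype.val hk)
  have hcom : ∀ a ∈ (P : Subgroup G), ∀ b ∈ (P : Subgroup G), a * b = b * a := fun a ha b hb => by
    have hi : ∀ z ∈ (P : Subgroup G), z⁻¹ = z := fun z hz =>
      inv_eq_of_mul_eq_one_right (by rw [← pow_two]; exact hsq z hz)
    calc a * b = (a * b)⁻¹ := (hi _ (mul_mem ha hb)).symm
      _ = b * a := by rw [mul_inv_rev, hi a ha, hi b hb]
  obtain ⟨n, hn, x, hx, hne⟩ : ∃ n ∈ Subgroup.normalizer ((P : Subgroup G) : Set G),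
      ∃ x ∈ (P : Subgroup G), ¬ Commute n x := by
    by_contra hall
    push Not at hall
    letI : CommGroup (P : Subgroup G) :=
      { (inferInstance : Group (P : Subgroup G)) with
        mul_comm := fun a b => Subtype.ext (hcom a a.2 b b.2) }
    have hc : Subgroup.normalizer ((P : Subgroup G) : Set G) ≤
        Subgroup.centralizer ((P : Subgroup G) : Set G) :=
      fun g hg => Subgroup.mem_centralizer_iff.mpr fun x hx => (hall g hg x hx).symm.eq
    have hle := Abelianization.commutator_subset_ker (MonoidHom.transferSylow P hc)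
    rw [hG.perf, top_le_iff] at hle
    refine MonoidHom.not_dvd_card_ker_transferSylow P hc ?_
    rw [hle, Subgroup.card_top]
    exact (show 2 ∣ 4 by norm_num).trans (hG.card2 P ▸ Subgroup.card_subgroup_dvd_card _)
  -- the odd part of `n` moves `x`
  obtain ⟨d, hd, hdo, hdx⟩ : ∃ d ∈ Subgroup.normalizer ((P : Subgroup G) : Set G), Odd (orderOf d) ∧
      ¬ Commute d x := by
    rcases two_part hG n with ho | ⟨m, -, -, hs, hd, hsd⟩
    · exact ⟨n, hn, ho, hne⟩
    · refine ⟨n ^ (m + 1), Subgroup.pow_mem _ hn _, hd, fun hc => hne ?_⟩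
      have hjP : n ^ m ∈ (P : Subgroup G) := by
        have hz : IsPGroup 2 (Subgroup.zpowers (n ^ m)) :=
          IsPGroup.of_card (n := 1) (by rw [Nat.card_zpowers, hs, pow_one])
        exact (le_sup_left.trans (P.3 (hz.to_sup_of_normal_right' P.2
          (Subgroup.zpowers_le.mpr (Subgroup.pow_mem _ hn m))) le_sup_right).le) (Subgroup.mem_zpowers _)
      rw [← hsd]
      exact (show Commute (n ^ m) x from hcom _ hjP x hx).mul_left hc
  set x1 := d * x * d⁻¹ with hx1
  set x2 := d * x1 * d⁻¹ with hx2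
  have hx1P : x1 ∈ (P : Subgroup G) := (Subgroup.mem_normalizer_iff.mp hd x).mp hx
  have hx2P : x2 ∈ (P : Subgroup G) := (Subgroup.mem_normalizer_iff.mp hd x1).mp hx1P
  have hx0 : x ≠ 1 := fun h => hdx (h ▸ Commute.one_right d)
  have h01 : x ≠ x1 := fun h => hdx (commute_iff_conj.mpr h.symm)
  have h12 : x1 ≠ x2 := fun h => h01 ((MulAut.conj d).injective h)
  have h02 : x ≠ x2 := fun h => by
    apply hdx
    have hc2 : Commute (d ^ 2) x := commute_iff_conj.mpr (by
      rw [pow_two, show d * d * x * (d * d)⁻¹ = d * (d * x * d⁻¹) * d⁻¹ by group]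
      exact h.symm)
    obtain ⟨k, hk⟩ := hdo
    have hd2 : (d ^ 2) ^ (k + 1) = d := by
      rw [← pow_mul, show 2 * (k + 1) = orderOf d + 1 by omega, pow_succ, pow_orderOf_eq_one, one_mul]
    exact hd2 ▸ hc2.pow_left (k + 1)
  have h11 : x1 ≠ 1 := by rw [hx1]; simpa using hx0
  have h21 : x2 ≠ 1 := by rw [hx2]; simpa using h11
  have hset : ({1, x, x1, x2} : Set G) = ((P : Subgroup G) : Set G) := by
    refine Set.eq_of_subset_of_ncard_le ?_ ?_
    · intro w hw
      simp only [Set.mem_insert_iff, Set.mem_singleton_iff] at hw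
      rcases hw with rfl | rfl | rfl | rfl
      exacts [one_mem _, hx, hx1P, hx2P]
    · rw [← Nat.card_coe_set_eq, Set.ncard_insert_of_notMem (by simp [hx0.symm, h11.symm, h21.symm]),
        Set.ncard_insert_of_notMem (by simp [h01, h02]), Set.ncard_insert_of_notMem (by simp [h12]),
        Set.ncard_singleton]
      exact (hG.card2 P).le
  have key : ∀ w : G, orderOf w = 2 → ∃ g : G, g * x * g⁻¹ = w := by
    intro w hw
    obtain ⟨k, -, hk⟩ := exists_conj_mem hG (M := ⊤) (V := (P : Subgroup G)) le_top (hG.card2 P)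
      (r := w) (Subgroup.mem_top w) (hw ▸ pow_orderOf_eq_one w)
    have hk' : k * w * k⁻¹ ∈ ({1, x, x1, x2} : Set G) := hset ▸ hk
    simp only [Set.mem_insert_iff, Set.mem_singleton_iff] at hk'
    rcases hk' with h | h | h | h
    · rw [mul_inv_eq_one, mul_eq_left] at h
      rw [h, orderOf_one] at hw; omega
    · exact ⟨k⁻¹, by rw [← h]; group⟩
    · exact ⟨k⁻¹ * d, by
        rw [mul_inv_rev, show k⁻¹ * d * x * (d⁻¹ * k⁻¹⁻¹) = k⁻¹ * (d * x * d⁻¹) * k⁻¹⁻¹ by group,
          ← hx1, ← h]; group⟩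
    · exact ⟨k⁻¹ * d * d, by
        rw [mul_inv_rev, mul_inv_rev, show k⁻¹ * d * d * x * (d⁻¹ * (d⁻¹ * k⁻¹⁻¹)) = k⁻¹ * (d * (d * x * d⁻¹) * d⁻¹) * k⁻¹⁻¹ by group,
          ← hx1, ← hx2, ← h]; group⟩
  obtain ⟨g1, hg1⟩ := key t ht
  obtain ⟨g2, hg2⟩ := key u hu
  exact ⟨g2 * g1⁻¹, by rw [← hg1, ← hg2]; group⟩

theorem inv_commute_odd_prime {p : ℕ} [hp : Fact p.Prime] (hp2 : p ≠ 2) {y o t : G} (hy : orderOf y = p)
    (ht : orderOf t = 2) (hty : Commute t y) (hoy : Commute o y) (ho : Odd (orderOf o)) : Commute t o := by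
  have hyodd : Odd (orderOf y) := by rw [hy]; exact hp.out.odd_of_ne_two hp2
  have hy1 : y ≠ 1 := fun h => hp.out.one_lt.ne (by rw [← hy, h, orderOf_one])
  have hti : t⁻¹ = t := inv_eq_of_mul_eq_one_right (by rw [← pow_two, ← ht, pow_orderOf_eq_one])
  set C := Subgroup.centralizer ({y} : Set G) with hCdef
  obtain ⟨K, hKn, hKodd, hKmem, -⟩ := exists_odd_core hG (Or.inl (no_commuting_involutions hG hyodd hy1))
  have htC : t ∈ C := Subgroup.mem_centralizer_singleton_iff.mpr hty.eq
  have hoC : o ∈ C := Subgroup.mem_centralizer_singleton_iff.mpr hoy.eq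
  by_contra hne
  set w : G := t * o * t * o⁻¹ with hw
  have hwK : (⟨t, htC⟩ : C) * ⟨o, hoC⟩ * (⟨t, htC⟩ : C)⁻¹ * (⟨o, hoC⟩ : C)⁻¹ ∈ K :=
    mul_mem (hKn.conj_mem _ ((hKmem _).mp (by rwa [Subgroup.orderOf_mk])) _)
      (inv_mem ((hKmem _).mp (by rwa [Subgroup.orderOf_mk])))
  have hwC : w ∈ C := mul_mem (mul_mem (mul_mem htC hoC) htC) (inv_mem hoC)
  have hwodd : Odd (orderOf w) := by
    have h := (hKmem _).mpr hwK
    rw [← Subgroup.orderOf_coe] at h
    simpa [hti] using h
  have hw1 : w ≠ 1 := fun h => hne (show Commute t o by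
    rw [commute_iff_conj, hti]; exact mul_inv_eq_one.mp h)
  obtain ⟨i, q, hq, hq2, hi⟩ := exists_prime_power hwodd hw1
  haveI := Fact.mk hq
  set y2 := w ^ i
  have hy2inv : t * y2 * t⁻¹ = y2⁻¹ := by
    have hwinv : t * w * t⁻¹ = w⁻¹ := by
      have htt : t * t = 1 := by rw [← pow_two, ← ht, pow_orderOf_eq_one]
      rw [hw, mul_inv_rev, mul_inv_rev, mul_inv_rev, inv_inv, hti]
      have hoo : Commute (t * o * t) o⁻¹ := (commute_odd_centralizer hG hyodd hy1
        (a := t * o * t) (b := o) (Subgroup.mem_centralizer_singleton_iff.mp (mul_mem (mul_mem htC hoC) htC))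
        hoy (by
          have : orderOf (t * o * t) = orderOf o := by
            nth_rewrite 2 [← hti]
            rw [← MulAut.conj_apply, MulEquiv.orderOf_eq]
          rwa [this]) ho).inv_right
      calc t * (t * o * t * o⁻¹) * t = (t * t) * o * t * o⁻¹ * t := by group
        _ = o * (t * o⁻¹ * t) := by rw [htt]; group
        _ = _ := by group
    show t * w ^ i * t⁻¹ = (w ^ i)⁻¹
    rw [← conj_pow, hwinv, inv_pow]
  have hy2C : Commute y2 y := ((show Commute w y from Subgroup.mem_centralizer_singleton_iff.mp hwC)).pow_left i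
  have hy2o : Odd (orderOf y2) := by rw [hi]; exact hq.odd_of_ne_two hq2
  -- a four-group containing `t` normalizing `⟨y⟩`
  obtain ⟨r, hr, hry⟩ := exists_inverting hG hp2 hy
  set N := Subgroup.normalizer ((Subgroup.zpowers y : Subgroup G) : Set G)
  have hrN : r ∈ N := Subgroup.mem_normalizer_fintype fun z hz => by
    obtain ⟨i, rfl⟩ := Subgroup.mem_zpowers_iff.mp hz
    rw [← conj_zpow, hry, inv_zpow']
    exact ⟨-i, rfl⟩
  have htN : t ∈ N := Subgroup.mem_normalizer_fintype fun z hz => by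
    obtain ⟨i, rfl⟩ := Subgroup.mem_zpowers_iff.mp hz
    rw [commute_iff_conj.mp (hty.zpow_right i)]
    exact ⟨i, rfl⟩
  haveI := Fact.mk Nat.prime_two
  have ht' : orderOf (⟨t, htN⟩ : N) = 2 := (Subgroup.orderOf_mk t htN).trans ht
  obtain ⟨T, hT⟩ := (IsPGroup.of_card (n := 1) (by rw [Nat.card_zpowers, ht', pow_one]) :
    IsPGroup 2 (Subgroup.zpowers (⟨t, htN⟩ : N))).exists_le_sylow
  obtain ⟨s, hsT, hst, hs1⟩ : ∃ s ∈ (T : Subgroup N), s ≠ ⟨t, htN⟩ ∧ s ≠ 1 := by
    by_contra hall
    push Not at hall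
    have hr' : orderOf (⟨r, hrN⟩ : N) = 2 := (Subgroup.orderOf_mk r hrN).trans hr
    obtain ⟨U, hU⟩ := (IsPGroup.of_card (n := 1) (by rw [Nat.card_zpowers, hr', pow_one]) :
      IsPGroup 2 (Subgroup.zpowers (⟨r, hrN⟩ : N))).exists_le_sylow
    obtain ⟨n, hn⟩ := MulAction.exists_smul_eq N U T
    have hmem : n * ⟨r, hrN⟩ * n⁻¹ ∈ (T : Subgroup N) := by
      rw [← hn, Sylow.coe_subgroup_smul]; exact ⟨_, hU (Subgroup.mem_zpowers _), rfl⟩
    have he : n * ⟨r, hrN⟩ * n⁻¹ = ⟨t, htN⟩ := by
      by_contra h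
      have := hall _ hmem h
      rw [mul_inv_eq_one, mul_eq_left] at this
      rw [show r = 1 from congrArg Subtype.val this, orderOf_one] at hr
      omega
    have he' : r = (n : G)⁻¹ * t * n := by
      have := congrArg Subtype.val he
      simp only [Subgroup.coe_mul, Subgroup.coe_inv] at this
      rw [← this]; group
    refine not_inverted hp2 hy hry ?_
    have hc' := commute_conj (g := (n : G)⁻¹) hty
    simp only [inv_inv, ← he'] at hc'
    rcases conj_eq_or_inv hG hp2 hy (h := (n : G)⁻¹) ((Subgroup.mem_normalizer_iff.mp (inv_mem n.2) y).mp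
      (Subgroup.mem_zpowers y)) with h | h <;> rw [inv_inv] at h <;> rw [h] at hc'
    · exact hc'
    · exact Commute.inv_right_iff.mp hc'
  have hsq : ∀ x ∈ (T : Subgroup N), (x : G) ^ 2 = 1 := fun x hx => by
    obtain ⟨k, hk⟩ := T.2 ⟨x, hx⟩
    exact sq_eq_one_of_two_power hG (k := k)
      (by simpa using congrArg (fun z : (T : Subgroup N) => ((z : N) : G)) hk)
  have hs2 : orderOf (s : G) = 2 := orderOf_eq_prime (hsq s hsT) fun h => hs1 (Subtype.ext h)
  have hst' : Commute (s : G) t := by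
    have htT := hT (Subgroup.mem_zpowers _)
    have h := hsq _ (mul_mem hsT htT)
    rw [Subgroup.coe_mul, pow_two] at h
    have hsi : (s : G)⁻¹ = s := inv_eq_of_mul_eq_one_right (by rw [← pow_two, hsq s hsT])
    show (s : G) * t = t * s
    calc (s : G) * t = ((s : G) * t)⁻¹ := (inv_eq_of_mul_eq_one_right h).symm
      _ = t * s := by rw [mul_inv_rev, hti, hsi]
  have hsy : (s : G) * y * (s : G)⁻¹ = y⁻¹ := by
    rcases conj_eq_or_inv hG hp2 hy ((Subgroup.mem_normalizer_iff.mp s.2 y).mp (Subgroup.mem_zpowers y)) with h | h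
    · exact absurd (fun e : (s : G) = t => hst (Subtype.ext e))
        (fun h' => not_four_centralize hG hp2 hy hs2 ht h' hst' (commute_iff_conj.mpr h) hty)
    · exact h
  -- `s` normalizes `⟨y2⟩`
  have hsy2 : (s : G) * y2 * (s : G)⁻¹ ∈ Subgroup.zpowers y2 := by
    have hc : Commute ((s : G) * y2 * (s : G)⁻¹) y := by
      have := commute_conj (g := (s : G)) hy2C
      rw [hsy] at this
      exact Commute.inv_right_iff.mp this
    have ho' : orderOf ((s : G) * y2 * (s : G)⁻¹) = q := by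
      rw [← MulAut.conj_apply, MulEquiv.orderOf_eq]; exact hi
    rw [← zpowers_eq_of_commute hG hq2 hi ho'
      (commute_odd_centralizer hG hyodd hy1 hy2C hc hy2o (by rw [ho']; exact hq.odd_of_ne_two hq2))]
    exact Subgroup.mem_zpowers _
  obtain ⟨u, hu, huy2, huy⟩ : ∃ u : G, orderOf u = 2 ∧ Commute u y2 ∧ u * y * u⁻¹ = y⁻¹ := by
    rcases conj_eq_or_inv hG hq2 hi hsy2 with h | h
    · exact ⟨s, hs2, commute_iff_conj.mpr h, hsy⟩
    · refine ⟨(s : G) * t, orderOf_eq_prime ?_ fun e => hst (Subtype.ext ?_), commute_iff_conj.mpr ?_, ?_⟩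
      · rw [hst'.mul_pow, ← ht, pow_orderOf_eq_one, ht, hsq s hsT, one_mul]
      · exact (mul_eq_one_iff_eq_inv.mp e).trans hti
      · rw [mul_inv_rev, show (s : G) * t * y2 * (t⁻¹ * (s : G)⁻¹) = s * (t * y2 * t⁻¹) * (s : G)⁻¹ by group,
          hy2inv, ← conj_inv, h, inv_inv]
      · rw [mul_inv_rev, show (s : G) * t * y * (t⁻¹ * (s : G)⁻¹) = s * (t * y * t⁻¹) * (s : G)⁻¹ by group,
          commute_iff_conj.mp hty, hsy]
  -- all involutions are conjugate
  obtain ⟨g, hg⟩ : ∃ g : G, g * t * g⁻¹ = u := involutions_conj hG ht hu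
  set y' := g * y * g⁻¹
  have hy'u : Commute u y' := hg ▸ commute_conj hty
  have hy'o : orderOf y' = p := by rw [← hy]; exact MulEquiv.orderOf_eq (MulAut.conj g) y
  have hy'odd : Odd (orderOf y') := by rw [hy'o]; exact hp.out.odd_of_ne_two hp2
  have hc := commute_odd_involution hG hu (hy'u.symm) huy2.symm hy'odd hy2o
  have hy21 : y2 ≠ 1 := fun h => hq.one_lt.ne (by rw [← hi, h, orderOf_one])
  have := zpowers_eq_of_commute hG hp2 hy hy'o
    (commute_odd_centralizer hG hy2o hy21 hy2C.symm hc hyodd hy'odd)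
  exact not_inverted hp2 hy huy (commute_of_zpowers this hy'u)

/-- An involution centralizing a nontrivial element of odd order centralizes its odd centralizer. -/
theorem inv_commute_odd {y o t : G} (hy : Odd (orderOf y)) (hy1 : y ≠ 1) (ht : orderOf t = 2)
    (hty : Commute t y) (hoy : Commute o y) (ho : Odd (orderOf o)) : Commute t o := by
  obtain ⟨i, p, hp, hp2, hi⟩ := exists_prime_power hy hy1
  haveI := Fact.mk hp
  exact inv_commute_odd_prime hG hp2 hi ht (hty.pow_right i) (hoy.pow_right i) ho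

theorem inv_unique {y t t' : G} (hy : Odd (orderOf y)) (hy1 : y ≠ 1) (ht : orderOf t = 2)
    (ht' : orderOf t' = 2) (hty : Commute t y) (ht'y : Commute t' y) : t = t' := by
  refine no_commuting_involutions hG hy hy1 t (Subgroup.mem_centralizer_singleton_iff.mpr hty.eq)
    t' (Subgroup.mem_centralizer_singleton_iff.mpr ht'y.eq) ht ht' ?_
  -- the product `t * t'` is an element of the centralizer inverted by both
  have hti : t⁻¹ = t := inv_eq_of_mul_eq_one_right (by rw [← pow_two, ← ht, pow_orderOf_eq_one])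
  have hti' : t'⁻¹ = t' := inv_eq_of_mul_eq_one_right (by rw [← pow_two, ← ht', pow_orderOf_eq_one])
  rcases two_part hG (t * t') with ho | ⟨m, -, -, hs, hd, hsd⟩
  · have hc := inv_commute_odd hG hy hy1 ht hty (hty.mul_left ht'y) ho
    show t * t' = t' * t
    have e := hc.eq
    have htt : t * t = 1 := by rw [← pow_two, ← ht, pow_orderOf_eq_one]
    calc t * t' = (t * t') * (t * t) := by rw [htt, mul_one]
      _ = ((t * t') * t) * t := by group
      _ = (t * (t * t')) * t := by rw [e]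
      _ = t' * t := by rw [← mul_assoc, htt, one_mul]
  · set j := (t * t') ^ m
    have hj : Commute j y := (hty.mul_left ht'y).pow_left m
    have hdy : Commute ((t * t') ^ (m + 1)) y := (hty.mul_left ht'y).pow_left _
    have h2 := inv_commute_odd hG hy hy1 ht hty hdy hd
    have hjt : Commute t j := by
      have hinv : t * (t * t') * t⁻¹ = (t * t')⁻¹ := by
        rw [mul_inv_rev, hti, hti', ← mul_assoc, show t * t = 1 by rw [← pow_two, ← ht, pow_orderOf_eq_one], one_mul]
      rw [commute_iff_conj, show j = (t * t') ^ m from rfl, ← conj_pow, hinv, inv_pow]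
      exact inv_eq_of_mul_eq_one_right (by rw [← pow_two, ← hs, pow_orderOf_eq_one])
    have := h2
    have hc : Commute t (t * t') := hsd ▸ hjt.mul_right h2
    show t * t' = t' * t
    have e := hc.eq
    have htt : t * t = 1 := by rw [← pow_two, ← ht, pow_orderOf_eq_one]
    calc t * t' = (t * t') * (t * t) := by rw [htt, mul_one]
      _ = ((t * t') * t) * t := by group
      _ = (t * (t * t')) * t := by rw [e]
      _ = t' * t := by rw [← mul_assoc, htt, one_mul]

end CfsgLib.PerfectCompl
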