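import Cfsg.Agent.Lib.PerfectCompl.Nonsolvable
import Cfsg.Agent.Lib.Invol.SolvableCore
import Cfsg.Agent.Lib.ZStar.UniqueInvol
import Cfsg.Agent.S3742

/-!
# Solvable groups acting fixed point freely, with non-cyclic Sylow 2-subgroups
-/

set_option autoImplicit false
set_option linter.style.haveILetI false
set_option linter.unusedSectionVars false

open scoped Classical commutatorElement

namespace CfsgLib.PerfectCompl

open CfsgLib.FrobCompl

universe u

/-- All Sylow subgroups are cyclic. -/
def ZSylow {G : Type u} [Group G] (N : Subgroup G) : Prop :=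
  ∀ (p : ℕ) [Fact p.Prime] (P : Sylow p N), IsCyclic (P : Subgroup N)

variable {G : Type u} [Group G] [Finite G]

theorem isCyclic_of_le {K L : Subgroup G} (h : K ≤ L) [IsCyclic L] : IsCyclic K :=
  (Subgroup.subgroupOfEquivOfLe h).isCyclic.mp inferInstance

/-- A 2-subgroup of a group with cyclic Sylow subgroups is cyclic. -/
theorem ZSylow.cyclic {N : Subgroup G} (hN : ZSylow N) {K : Subgroup G} (hK : IsPGroup 2 K) (hle : K ≤ N) :
    IsCyclic K := by
  haveI := Fact.mk Nat.prime_two
  have h : IsPGroup 2 (K.subgroupOf N) := hK.of_equiv (Subgroup.subgroupOfEquivOfLe hle).symm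
  obtain ⟨P, hP⟩ := h.exists_le_sylow
  haveI := hN 2 P
  haveI := isCyclic_of_le hP
  exact (Subgroup.subgroupOfEquivOfLe hle).isCyclic.mp inferInstance

theorem isPGroup_preimage_map {O : Subgroup G} [O.Normal] (hO : Odd (Nat.card O)) {K : Subgroup G}
    (hK : IsPGroup 2 K) : Function.Injective ((QuotientGroup.mk' O).comp K.subtype) := by
  refine (injective_iff_map_eq_one _).mpr fun k hk => ?_
  have hkO : (k : G) ∈ O := (QuotientGroup.eq_one_iff _).mp hk
  obtain ⟨j, hj⟩ := IsPGroup.iff_orderOf.mp hK k
  have h2 : orderOf (k : G) ∣ Nat.card O := Subgroup.orderOf_dvd_natCard O hkO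
  rw [Subgroup.orderOf_coe, hj] at h2
  exact orderOf_eq_one_iff.mp (hj.trans (Nat.eq_one_of_dvd_coprimes
    (Nat.Coprime.pow_left j hO.coprime_two_left) dvd_rfl h2))

/-- The odd core is contained in the kernel of a map onto a group without a normal subgroup of odd order. -/
theorem le_ker_of_odd {T : Type*} [Group T] [Finite T] {f : G →* T} (hf : Function.Surjective f)
    {O : Subgroup G} [O.Normal] (hO : Odd (Nat.card O))
    (hT : ∀ K : Subgroup T, K.Normal → Odd (Nat.card K) → K = ⊥) : O ≤ f.ker := by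
  have h := hT (O.map f) (Subgroup.Normal.map inferInstance f hf)
    (hO.of_dvd_nat (Subgroup.card_map_dvd O f))
  intro x hx
  exact MonoidHom.mem_ker.mpr (Subgroup.mem_bot.mp (h ▸ Subgroup.mem_map_of_mem f hx))

theorem no_odd_normal_of_two_group {T : Type*} [Group T] [Finite T] (hT : IsPGroup 2 T)
    (K : Subgroup T) (hK : Odd (Nat.card K)) : K = ⊥ := by
  haveI := Fact.mk Nat.prime_two
  obtain ⟨j, hj⟩ := (hT.to_subgroup K).exists_card_eq
  rcases Nat.eq_zero_or_pos j with rfl | hj0
  · exact Subgroup.card_eq_one.mp (by simpa using hj)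
  · exact absurd (even_iff_two_dvd.mpr (hj ▸ dvd_pow_self 2 hj0.ne')) (Nat.not_even_iff_odd.mpr hK)

/-- No normal subgroup of odd order in a group of order 12 or 24 with two subgroups of order 3. -/
theorem no_odd_normal_of_two_threes {T : Type*} [Group T] [Finite T] (hcard : Nat.card T = 12 ∨ Nat.card T = 24)
    {x y : T} (hx : orderOf x = 3) (hy : orderOf y = 3) (hxy : y ∉ Subgroup.zpowers x)
    (K : Subgroup T) (hKn : K.Normal) (hK : Odd (Nat.card K)) : K = ⊥ := by
  by_contra hne
  haveI := Fact.mk Nat.prime_three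
  have hd : Nat.card K ∣ 24 :=
    (Subgroup.card_subgroup_dvd_card K).trans (by rcases hcard with h | h <;> rw [h] <;> norm_num)
  have hd3 : Nat.card K ∣ 3 :=
    (Nat.Coprime.pow_right 3 hK.coprime_two_right).dvd_of_dvd_mul_left (show Nat.card K ∣ 2 ^ 3 * 3 from hd)
  have h3 : Nat.card K = 3 :=
    ((Nat.dvd_prime Nat.prime_three).mp hd3).resolve_left fun h => hne (Subgroup.card_eq_one.mp h)
  have hmem : ∀ v : T, orderOf v = 3 → v ∈ K := fun v hv => by
    refine mem_of_coprime_index ?_
    have h := K.card_mul_index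
    rw [h3] at h
    rw [hv]
    refine (Nat.prime_three.coprime_iff_not_dvd).mpr fun h' => ?_
    rcases hcard with h'' | h'' <;> omega
  refine hxy ?_
  have he : Subgroup.zpowers x = K :=
    Subgroup.eq_of_le_of_card_ge (Subgroup.zpowers_le.mpr (hmem x hx)) (by rw [Nat.card_zpowers, hx, h3])
  rw [he]
  exact hmem y hy

theorem alt_four_card : Nat.card (alternatingGroup (Fin 4)) = 12 := by
  rw [Nat.card_eq_fintype_card]; decide +kernel

theorem perm_four_card : Nat.card (Equiv.Perm (Fin 4)) = 24 := by
  rw [Nat.card_perm, Nat.card_eq_fintype_card, Fintype.card_fin]; rfl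

theorem no_odd_normal_alt_four (K : Subgroup (alternatingGroup (Fin 4))) (hKn : K.Normal)
    (hK : Odd (Nat.card K)) : K = ⊥ := by
  let x : alternatingGroup (Fin 4) := ⟨Equiv.swap 0 1 * Equiv.swap 1 2, Equiv.Perm.mem_alternatingGroup.mpr (by decide)⟩
  let y : alternatingGroup (Fin 4) := ⟨Equiv.swap 0 1 * Equiv.swap 1 3, Equiv.Perm.mem_alternatingGroup.mpr (by decide)⟩
  refine no_odd_normal_of_two_threes (Or.inl alt_four_card) (x := x) (y := y)
    (orderOf_eq_prime (by decide) (by decide)) (orderOf_eq_prime (by decide) (by decide)) ?_ K hKn hK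
  rw [← mem_powers_iff_mem_zpowers]
  rintro ⟨i, hi⟩
  have hx3 : x ^ 3 = 1 := by decide
  have hi' : x ^ i = y := hi
  rw [← Nat.mod_add_div i 3, pow_add, pow_mul, hx3, one_pow, mul_one] at hi'
  have := Nat.mod_lt i (show 3 > 0 by norm_num)
  interval_cases h : i % 3 <;> exact absurd hi' (by decide)

theorem no_odd_normal_perm_four (K : Subgroup (Equiv.Perm (Fin 4))) (hKn : K.Normal)
    (hK : Odd (Nat.card K)) : K = ⊥ := by
  let x : Equiv.Perm (Fin 4) := Equiv.swap 0 1 * Equiv.swap 1 2
  let y : Equiv.Perm (Fin 4) := Equiv.swap 0 1 * Equiv.swap 1 3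
  refine no_odd_normal_of_two_threes (Or.inr perm_four_card) (x := x) (y := y)
    (orderOf_eq_prime (by decide) (by decide)) (orderOf_eq_prime (by decide) (by decide)) ?_ K hKn hK
  rw [← mem_powers_iff_mem_zpowers]
  rintro ⟨i, hi⟩
  have hx3 : x ^ 3 = 1 := by decide
  have hi' : x ^ i = y := hi
  rw [← Nat.mod_add_div i 3, pow_add, pow_mul, hx3, one_pow, mul_one] at hi'
  have := Nat.mod_lt i (show 3 > 0 by norm_num)
  interval_cases h : i % 3 <;> exact absurd hi' (by decide)

theorem card_center_Q8 : Nat.card (Subgroup.center (QuaternionGroup 2)) = 2 := by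
  rw [Nat.card_eq_fintype_card]; decide +kernel

/-- The groups allowed as quotients. -/
def IsFKQuot (G : Type u) [Group G] (N : Subgroup G) : Prop :=
  (∃ f : G →* DihedralGroup 2, Function.Surjective f ∧ f.ker = N) ∨
    (∃ f : G →* alternatingGroup (Fin 4), Function.Surjective f ∧ f.ker = N) ∨
    (∃ f : G →* Equiv.Perm (Fin 4), Function.Surjective f ∧ f.ker = N)

set_option maxHeartbeats 1600000 in
theorem solvable_structure (hG : HasFpf G) (hsol : Group.IsSolvable G)
    (hP : ∀ P : Sylow 2 G, ¬ IsCyclic (P : Subgroup G)) :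
    ∃ N : Subgroup G, N.Normal ∧ ZSylow N ∧ IsFKQuot G N ∧
      (∃ f : G →* Equiv.Perm (Fin 4), f.ker = N) ∧
      ∀ N' : Subgroup G, N'.Normal → ZSylow N' → IsFKQuot G N' → N' = N := by
  haveI := Fact.mk Nat.prime_two
  obtain ⟨P⟩ : Nonempty (Sylow 2 G) := inferInstance
  set O := Cfsg.oddCore G
  have hOn : O.Normal := inferInstance
  haveI := hOn
  have hOodd : Odd (Nat.card O) := Nat.not_even_iff_odd.mp fun h =>
    Transfer.not_dvd_card_pPrimeCore (p := 2) (even_iff_two_dvd.mp h)
  set Gb := G ⧸ O
  set π : G →* Gb := QuotientGroup.mk' O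
  have hπ : Function.Surjective π := QuotientGroup.mk'_surjective _
  -- involutions
  have huG : ∀ x y : (P : Subgroup G), orderOf x = 2 → orderOf y = 2 → x = y := fun x y hx hy =>
    Subtype.ext (involution_eq hG ((Subgroup.orderOf_coe x).trans hx) ((Subgroup.orderOf_coe y).trans hy))
  obtain ⟨z, hz⟩ : ∃ z : G, orderOf z = 2 := by
    by_contra hno
    push Not at hno
    refine hP P ?_
    obtain ⟨k, hk⟩ := P.2.exists_card_eq
    rcases Nat.eq_zero_or_pos k with rfl | hk0
    · haveI := (Nat.card_eq_one_iff_unique.mp (hk.trans (pow_zero 2))).1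
      infer_instance
    · obtain ⟨z, hz⟩ := exists_prime_orderOf_dvd_card' (G := (P : Subgroup G)) 2 (hk ▸ dvd_pow_self 2 hk0.ne')
      exact absurd ((Subgroup.orderOf_coe z).trans hz) (hno _)
  set Pb : Sylow 2 Gb := P.mapSurjective hπ
  have hPinj := isPGroup_preimage_map (O := O) hOodd P.2
  have hlift : ∀ K : Subgroup Gb, IsPGroup 2 K → ∀ x ∈ K, orderOf x = 2 → x = π z := by
    intro K hK x hx hx2
    obtain ⟨T, hT⟩ := hK.exists_le_sylow
    obtain ⟨g, hg⟩ := MulAction.exists_smul_eq Gb Pb T
    have hxT := hT hx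
    rw [← hg, Sylow.coe_subgroup_smul] at hxT
    obtain ⟨y, ⟨p, hp, rfl⟩, rfl⟩ := hxT
    have hpo : orderOf (⟨p, hp⟩ : (P : Subgroup G)) = 2 := by
      rw [← orderOf_injective _ hPinj]
      show orderOf (π p) = 2
      rw [← hx2]
      exact (MulEquiv.orderOf_eq (MulAut.conj g) (π p)).symm
    rw [Subgroup.orderOf_mk] at hpo
    rw [involution_eq hG hpo hz]
    show g * π z * g⁻¹ = π z
    obtain ⟨g', rfl⟩ := hπ g
    rw [← map_inv, ← map_mul, ← map_mul, ← (involution_central hG hz g').eq, mul_inv_cancel_right]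
  have hzb : orderOf (π z) = 2 := orderOf_eq_prime (by rw [← map_pow, ← hz, pow_orderOf_eq_one, map_one])
    fun e => by
      have hd := Subgroup.orderOf_dvd_natCard O ((QuotientGroup.eq_one_iff z).mp e)
      rw [hz] at hd
      exact Nat.not_even_iff_odd.mpr hOodd (even_iff_two_dvd.mpr hd)
  have huniq : ∀ x y : Gb, orderOf x = 2 → orderOf y = 2 → x = y := fun x y hx hy => by
    rw [hlift (Subgroup.zpowers x) (IsPGroup.of_card (n := 1) (by rw [Nat.card_zpowers, hx, pow_one])) x
        (Subgroup.mem_zpowers x) hx,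
      hlift (Subgroup.zpowers y) (IsPGroup.of_card (n := 1) (by rw [Nat.card_zpowers, hy, pow_one])) y
        (Subgroup.mem_zpowers y) hy]
  have hPbnc : ¬ IsCyclic (Pb : Subgroup Gb) := fun h => hP P
    ((MonoidHom.ofInjective hPinj).isCyclic.mpr (by
      have : ((π.comp (P : Subgroup G).subtype).range) = (Pb : Subgroup Gb) := by
        show _ = (P : Subgroup G).map π
        rw [MonoidHom.range_comp, Subgroup.range_subtype]
      rw [this]; exact h))
  have hzsyl : ∀ (N : Subgroup G), IsCyclic (Subgroup.map π N) ∨ (∃ T : Subgroup Gb, IsCyclic T ∧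
      ∀ K : Subgroup G, IsPGroup 2 K → K ≤ N → K.map π ≤ T) → ZSylow N := by
    intro N hN p hp Q
    by_cases hp2 : p = 2
    · subst hp2
      have hK : IsPGroup 2 ((Q : Subgroup N).map N.subtype) := Q.2.map _
      have hKi := isPGroup_preimage_map (O := O) hOodd hK
      have hKc : IsCyclic (((Q : Subgroup N).map N.subtype).map π) := by
        rcases hN with h | ⟨T, hT, hle⟩
        · exact isCyclic_of_le (Subgroup.map_mono (Subgroup.map_subtype_le _))
        · exact isCyclic_of_le (hle _ hK (Subgroup.map_subtype_le _))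
      have e : ((π.comp ((Q : Subgroup N).map N.subtype).subtype).range) = ((Q : Subgroup N).map N.subtype).map π := by
        rw [MonoidHom.range_comp, Subgroup.range_subtype]
      have h2 : IsCyclic ((Q : Subgroup N).map N.subtype) :=
        (MonoidHom.ofInjective hKi).isCyclic.mpr (e ▸ hKc)
      exact (Subgroup.equivMapOfInjective _ _ N.subtype_injective).isCyclic.mpr h2
    · exact cyclic_sylow_odd hG hp2 Q
  haveI hsolb : Group.IsSolvable Gb := inferInstance
  set R := Cfsg.pCore 2 Gb with hRdef
  have hRp : IsPGroup 2 R := CfsgLib.Fitting.pCore_isPGroup 2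
  have hCR : Subgroup.centralizer (R : Set Gb) ≤ R := CfsgLib.Invol.solvable_centralizer_core_le hsol
  by_cases hA : IsPGroup 2 Gb
  · -- the 2-group case
    rcases CfsgLib.ZStar.unique_involution_structure hA huniq with hc | ⟨a, n, hn, ha, -, hidx, hout⟩
    · exact absurd (isCyclic_of_injective (Pb : Subgroup Gb).subtype Subtype.val_injective) hPbnc
    set A2 := Subgroup.zpowers (a * a) with hA2
    have hAn : (Subgroup.zpowers a).Normal := Subgroup.normal_of_index_eq_two hidx
    have hA2n : A2.Normal := ⟨fun x hx g => by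
      obtain ⟨i, rfl⟩ := Subgroup.mem_zpowers_iff.mp hx
      rw [← conj_zpow]
      refine Subgroup.zpow_mem _ ?_ i
      rw [show g * (a * a) * g⁻¹ = (g * a * g⁻¹) * (g * a * g⁻¹) by group]
      by_cases hg : g ∈ Subgroup.zpowers a
      · obtain ⟨j, rfl⟩ := Subgroup.mem_zpowers_iff.mp hg
        rw [show a ^ j * a * (a ^ j)⁻¹ = a by group]
        exact Subgroup.mem_zpowers _
      · rw [hout g hg, ← mul_inv_rev]; exact inv_mem (Subgroup.mem_zpowers _)⟩
    have hA2o : orderOf (a * a) = 2 ^ (n - 1) := by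
      rw [← pow_two, orderOf_pow' _ two_ne_zero, ha, Nat.gcd_eq_right (dvd_pow_self 2 (by omega)),
        show (2 : ℕ) ^ n = 2 ^ (n - 1) * 2 by rw [← pow_succ]; congr 1; omega, Nat.mul_div_cancel _ two_pos]
    have hzA2 : π z ∈ A2 := by
      have h := huniq ((a * a) ^ 2 ^ (n - 2)) (π z) ?_ hzb
      · exact h ▸ Subgroup.pow_mem _ (Subgroup.mem_zpowers _) _
      rw [orderOf_pow' _ (pow_ne_zero _ two_ne_zero), hA2o, Nat.gcd_eq_right (pow_dvd_pow 2 (by omega)),
        Nat.pow_div (by omega) two_pos, show n - 1 - (n - 2) = 1 by omega, pow_one]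
    have hcard : Nat.card Gb = 2 ^ n * 2 := by
      rw [← Subgroup.card_mul_index (Subgroup.zpowers a), Nat.card_zpowers, ha, hidx]
    have hA2i : A2.index = 4 := by
      have h := A2.card_mul_index
      rw [hA2, Nat.card_zpowers, hA2o, hcard, show (2 : ℕ) ^ n = 2 ^ (n - 1) * 2 by rw [← pow_succ]; congr 1; omega,
        mul_assoc] at h
      exact Nat.eq_of_mul_eq_mul_left (by positivity) h
    have hsq : ∀ g : Gb, g * g ∈ A2 := by
      intro g
      by_cases hg : g ∈ Subgroup.zpowers a
      · obtain ⟨j, rfl⟩ := Subgroup.mem_zpowers_iff.mp hg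
        rw [← (Commute.refl a).mul_zpow j]
        exact Subgroup.zpow_mem _ (Subgroup.mem_zpowers _) j
      · rcases eq_or_ne (g * g) 1 with h | h
        · rw [h]; exact one_mem _
        · obtain ⟨j, hj⟩ := Subgroup.mem_zpowers_iff.mp (Subgroup.mul_self_mem_of_index_two hidx g)
          have h1 : g * (g * g) * g⁻¹ = (g * g)⁻¹ := by rw [← hj, ← conj_zpow, hout g hg, inv_zpow]
          rw [show g * (g * g) * g⁻¹ = g * g by group, eq_inv_iff_mul_eq_one] at h1
          rw [huniq _ _ (orderOf_eq_prime (by rw [pow_two]; exact h1) h) hzb]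
          exact hzA2
    haveI := hA2n
    haveI : IsKleinFour (Gb ⧸ A2) :=
      { card_four := by rw [← Subgroup.index_eq_card, hA2i]
        exponent_two := by
          refine (Nat.dvd_prime Nat.prime_two).mp (Monoid.exponent_dvd_of_forall_pow_eq_one fun x => ?_) |>.resolve_left fun h => ?_
          · obtain ⟨g, rfl⟩ := QuotientGroup.mk'_surjective A2 x
            rw [← map_pow, pow_two]; exact (QuotientGroup.eq_one_iff _).mpr (hsq g)
          · haveI := Monoid.exp_eq_one_iff.mp h
            have : A2.index = 1 := by rw [Subgroup.index_eq_card]; exact Nat.card_of_subsingleton 1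
            omega }
    obtain ⟨eK⟩ := (IsKleinFour.nonempty_mulEquiv : Nonempty ((Gb ⧸ A2) ≃* DihedralGroup 2))
    let f : G →* DihedralGroup 2 := eK.toMonoidHom.comp ((QuotientGroup.mk' A2).comp π)
    have hf : Function.Surjective f := eK.surjective.comp ((QuotientGroup.mk'_surjective A2).comp hπ)
    have hfk : f.ker = A2.comap π := by
      ext g
      rw [MonoidHom.mem_ker, Subgroup.mem_comap]
      show eK _ = 1 ↔ _
      rw [MulEquiv.map_eq_one_iff]
      exact QuotientGroup.eq_one_iff (π g)
    refine ⟨A2.comap π, inferInstance, ?_, Or.inl ⟨f, hf, hfk⟩, ?_, ?_⟩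
    · refine hzsyl _ (Or.inl ?_)
      rw [Subgroup.map_comap_eq_self_of_surjective hπ]
      exact inferInstance
    · -- an embedding of the four-group
      let x : Equiv.Perm (Fin 4) := Equiv.swap 0 1
      let y : Equiv.Perm (Fin 4) := Equiv.swap 2 3
      let V : Subgroup (Equiv.Perm (Fin 4)) :=
        { carrier := {1, x, y, x * y}
          mul_mem' := by
            intro a b ha hb
            simp only [Set.mem_insert_iff, Set.mem_singleton_iff] at ha hb ⊢
            rcases ha with rfl | rfl | rfl | rfl <;> rcases hb with rfl | rfl | rfl | rfl <;> decide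
          one_mem' := by simp
          inv_mem' := by
            intro a ha
            simp only [Set.mem_insert_iff, Set.mem_singleton_iff] at ha ⊢
            rcases ha with rfl | rfl | rfl | rfl <;> decide }
      haveI : IsKleinFour V :=
        { card_four := by
            show Nat.card ({1, x, y, x * y} : Set (Equiv.Perm (Fin 4))) = 4
            rw [Nat.card_coe_set_eq, Set.ncard_eq_toFinset_card']; decide +kernel
          exponent_two := by
            refine ((Nat.dvd_prime Nat.prime_two).mp (Monoid.exponent_dvd_of_forall_pow_eq_one fun a => ?_)).resolve_left fun h => ?_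
            · obtain ⟨a, ha⟩ := a
              apply Subtype.ext
              rcases ha with rfl | rfl | rfl | rfl <;> decide
            · haveI := Monoid.exp_eq_one_iff.mp h
              have h1 : (⟨x, Or.inr (Or.inl rfl)⟩ : V) = 1 := Subsingleton.elim _ _
              exact absurd (congrArg Subtype.val h1) (show ¬ x = 1 by decide) }
      obtain ⟨eV⟩ := (IsKleinFour.nonempty_mulEquiv : Nonempty (DihedralGroup 2 ≃* V))
      refine ⟨(V.subtype.comp eV.toMonoidHom).comp f, ?_⟩
      rw [MonoidHom.ker_comp_of_injective]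
      · exact hfk
      · exact V.subtype_injective.comp eV.injective
    · intro N' hN'n _ hQ
      rcases hQ with ⟨f', hf', hk⟩ | ⟨f', hf', hk⟩ | ⟨f', hf', hk⟩
      · have hO' : O ≤ f'.ker := le_ker_of_odd hf' hOodd fun K _ hK =>
          no_odd_normal_of_two_group (IsPGroup.of_card (n := 2) (by rw [IsKleinFour.card_four]; norm_num)) K hK
        rw [← hk]
        have hle : A2 ≤ f'.ker.map π := by
          refine Subgroup.zpowers_le.mpr ?_
          obtain ⟨g, hg⟩ := hπ a
          refine ⟨g * g, ?_, by rw [map_mul, hg]⟩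
          rw [SetLike.mem_coe, MonoidHom.mem_ker, map_mul, IsKleinFour.mul_self]
        have hker : π.ker ≤ f'.ker := by rw [QuotientGroup.ker_mk']; exact hO'
        have hindex : (f'.ker.map π).index = 4 := by
          rw [Subgroup.index_map_eq _ hπ hker, Subgroup.index_ker, MonoidHom.range_eq_top.mpr hf',
            Subgroup.card_top, IsKleinFour.card_four]
        have he : A2 = f'.ker.map π := by
          refine Subgroup.eq_of_le_of_card_ge hle ?_
          have h1 := A2.card_mul_index
          have h2 := (f'.ker.map π).card_mul_index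
          rw [hA2i] at h1
          rw [hindex] at h2
          omega
        rw [he, Subgroup.comap_map_eq_self hker]
      all_goals
        exfalso
        have hO' : O ≤ f'.ker := le_ker_of_odd hf' hOodd (by
          first
            | exact no_odd_normal_alt_four
            | exact no_odd_normal_perm_four)
        let fb := QuotientGroup.lift O f' hO'
        have hfb : Function.Surjective fb := QuotientGroup.lift_surjective_of_surjective O f' hf' hO'
        obtain ⟨k, hk⟩ := (hA.of_surjective fb hfb).exists_card_eq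
        have h3 : 3 ∣ 2 ^ k := by
          rw [← hk]
          first
            | (rw [alt_four_card]; norm_num)
            | (rw [perm_four_card]; norm_num)
        exact absurd (Nat.prime_three.dvd_of_dvd_pow h3) (by norm_num)
  -- the case of a core isomorphic to the quaternion group of order 8
  obtain ⟨eR⟩ : Nonempty (R ≃* QuaternionGroup 2) := by
    refine (CfsgLib.Invol.mulAut_or_quaternion_eight hRp fun x y hx hy => Subtype.ext (huniq _ _
      ((Subgroup.orderOf_coe x).trans hx) ((Subgroup.orderOf_coe y).trans hy))).resolve_left fun h => hA ?_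
    exact CfsgLib.Invol.isPGroup_of_mulAut hRp hCR h
  obtain ⟨eP⟩ := Cfsg.Agent.S3742.result
  let ψ : Gb →* Equiv.Perm (Fin 4) :=
    eP.toMonoidHom.comp ((MulAut.congr eR).toMonoidHom.comp MulAut.conjNormal)
  set Z := Subgroup.centralizer (R : Set Gb) with hZ
  have hker : ψ.ker = Z := by
    ext g
    rw [MonoidHom.mem_ker, hZ, Subgroup.mem_centralizer_iff]
    show eP (MulAut.congr eR (MulAut.conjNormal g)) = 1 ↔ _
    rw [MulEquiv.map_eq_one_iff, MulEquiv.map_eq_one_iff]
    refine ⟨fun h r hr => ?_, fun h => MulEquiv.ext fun r => Subtype.ext ?_⟩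
    · have h1 : g * r * g⁻¹ = r :=
        (MulAut.conjNormal_apply g ⟨r, hr⟩).symm.trans (congrArg Subtype.val (DFunLike.congr_fun h (⟨r, hr⟩ : R)))
      exact (mul_inv_eq_iff_eq_mul.mp h1).symm
    · rw [MulAut.conjNormal_apply, ← h r r.2, mul_inv_cancel_right]; rfl
  have hZc : ∀ g ∈ Z, ∀ r ∈ R, g * r * g⁻¹ = r := fun g hg r hr => by
    rw [← Subgroup.mem_centralizer_iff.mp hg r hr, mul_inv_cancel_right]
  have hRcard : Nat.card R = 8 := by
    rw [Nat.card_congr eR.toEquiv, Nat.card_eq_fintype_card, QuaternionGroup.card]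
  have hZcard : Nat.card Z = 2 := by
    rw [← card_center_Q8]
    refine (Nat.card_congr (Subgroup.subgroupOfEquivOfLe hCR).toEquiv).symm.trans
      (Nat.card_congr (Equiv.subtypeEquiv eR.toEquiv fun r => ?_))
    rw [Subgroup.mem_subgroupOf, hZ, Subgroup.mem_centralizer_iff, Subgroup.mem_center_iff]
    refine ⟨fun h q => ?_, fun h r' hr' => ?_⟩
    · obtain ⟨q, rfl⟩ := eR.surjective q
      show eR q * eR r = eR r * eR q
      rw [← map_mul, ← map_mul, show q * r = r * q from Subtype.ext (h q q.2)]
    · have h' := h (eR ⟨r', hr'⟩)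
      rw [show (eR.toEquiv r : QuaternionGroup 2) = eR r from rfl, ← map_mul, ← map_mul] at h'
      exact congrArg Subtype.val (eR.injective h')
  have hzZ : π z ∈ Z := by
    rw [hZ, Subgroup.mem_centralizer_iff]
    intro r _
    obtain ⟨g, rfl⟩ := hπ r
    rw [← map_mul, ← map_mul, (involution_central hG hz g).eq]
  have hZeq : Z = Subgroup.zpowers (π z) :=
    (Subgroup.eq_of_le_of_card_ge (Subgroup.zpowers_le.mpr hzZ) (by rw [Nat.card_zpowers, hzb, hZcard])).symm
  haveI hZn : Z.Normal := hker ▸ inferInstance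
  -- an element of order divisible by three
  obtain ⟨d, hd3, hd1, hdZ⟩ : ∃ d : Gb, Odd (orderOf d) ∧ d ≠ 1 ∧ d ∉ Z := by
    obtain ⟨g, hg⟩ : ∃ g : Gb, ¬ ∃ k, orderOf g = 2 ^ k := by
      by_contra h
      push Not at h
      exact hA (IsPGroup.iff_orderOf.mpr h)
    set v := (orderOf g).factorization 2
    refine ⟨g ^ 2 ^ v, ?_, fun e => ?_, fun e => ?_⟩
    · rw [orderOf_pow' _ (pow_ne_zero _ two_ne_zero), Nat.gcd_eq_right (Nat.ordProj_dvd _ _)]
      exact Nat.odd_iff.mpr (Nat.two_dvd_ne_zero.mp (Nat.not_dvd_ordCompl Nat.prime_two (orderOf_pos g).ne'))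
    · obtain ⟨k, -, hk⟩ := (Nat.dvd_prime_pow Nat.prime_two).mp (orderOf_dvd_of_pow_eq_one e)
      exact hg ⟨k, hk⟩
    · have h := Subgroup.orderOf_dvd_natCard Z e
      rw [hZcard] at h
      have ho : Odd (orderOf (g ^ 2 ^ v)) := by
        rw [orderOf_pow' _ (pow_ne_zero _ two_ne_zero), Nat.gcd_eq_right (Nat.ordProj_dvd _ _)]
        exact Nat.odd_iff.mpr (Nat.two_dvd_ne_zero.mp (Nat.not_dvd_ordCompl Nat.prime_two (orderOf_pos g).ne'))
      rcases (Nat.dvd_prime Nat.prime_two).mp h with h' | h'
      · obtain ⟨k, -, hk⟩ := (Nat.dvd_prime_pow Nat.prime_two).mp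
          (orderOf_dvd_of_pow_eq_one (orderOf_eq_one_iff.mp h'))
        exact hg ⟨k, hk⟩
      · exact absurd (h' ▸ ho) (by decide)
  -- `ψ` is onto the alternating or the symmetric group
  have hψR : Nat.card (R.map ψ) = 4 := by
    have h := Subgroup.card_eq_card_quotient_mul_card_subgroup (ψ.comp R.subtype).ker
    rw [Nat.card_congr (QuotientGroup.quotientKerEquivRange (ψ.comp R.subtype)).toEquiv, MonoidHom.range_comp,
      Subgroup.range_subtype, hRcard, show (ψ.comp R.subtype).ker = Z.subgroupOf R by rw [← hker]; rfl,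
      Nat.card_congr (Subgroup.subgroupOfEquivOfLe hCR).toEquiv, hZcard] at h
    omega
  have h12 : 12 ∣ Nat.card ψ.range := by
    have h4 : 4 ∣ Nat.card ψ.range := by
      have := Subgroup.card_dvd_of_le (Subgroup.map_le_range ψ R)
      rwa [hψR] at this
    have h3 : 3 ∣ Nat.card ψ.range := by
      have hd' : ψ d ≠ 1 := fun e => hdZ (hker ▸ MonoidHom.mem_ker.mpr e)
      have ho : orderOf (ψ d) ∣ Nat.card ψ.range := Subgroup.orderOf_dvd_natCard _ ⟨d, rfl⟩
      have hodd : Odd (orderOf (ψ d)) := hd3.of_dvd_nat (orderOf_map_dvd ψ d)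
      have h24 : orderOf (ψ d) ∣ 2 ^ 3 * 3 := by
        have := orderOf_dvd_natCard (ψ d)
        rwa [perm_four_card] at this
      rcases (Nat.dvd_prime Nat.prime_three).mp
        ((Nat.Coprime.pow_right 3 hodd.coprime_two_right).dvd_of_dvd_mul_left h24) with h | h
      · exact absurd (orderOf_eq_one_iff.mp h) hd'
      · exact h ▸ ho
    exact Nat.Coprime.mul_dvd_of_dvd_of_dvd (by norm_num : Nat.Coprime 4 3) h4 h3
  have hrange : ψ.range = alternatingGroup (Fin 4) ∨ ψ.range = ⊤ := by
    have h := ψ.range.card_mul_index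
    rw [perm_four_card] at h
    obtain ⟨c, hc⟩ := h12
    have : c * ψ.range.index = 2 := by rw [hc] at h; linarith
    rcases (Nat.dvd_prime Nat.prime_two).mp (Dvd.intro_left c this) with h' | h'
    · exact Or.inr (Subgroup.index_eq_one.mp h')
    · exact Or.inl (Equiv.Perm.eq_alternatingGroup_of_index_eq_two h')
  let F : G →* Equiv.Perm (Fin 4) := ψ.comp π
  have hFk : F.ker = Z.comap π := by
    ext g
    rw [MonoidHom.mem_ker, Subgroup.mem_comap, ← hker, MonoidHom.mem_ker]
    rfl
  have hFr : F.range = ψ.range := by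
    rw [MonoidHom.range_comp, MonoidHom.range_eq_top.mpr hπ, ← MonoidHom.range_eq_map]
  refine ⟨Z.comap π, inferInstance, ?_, ?_, ⟨F, hFk⟩, ?_⟩
  · refine hzsyl _ (Or.inl ?_)
    rw [Subgroup.map_comap_eq_self_of_surjective hπ, hZeq]
    exact inferInstance
  · rcases hrange with h | h
    · have hmem : ∀ g, F g ∈ alternatingGroup (Fin 4) := fun g => by rw [← h, ← hFr]; exact ⟨g, rfl⟩
      refine Or.inr (Or.inl ⟨F.codRestrict _ hmem, fun t => ?_, ?_⟩)
      · obtain ⟨g, hg⟩ : (t : Equiv.Perm (Fin 4)) ∈ F.range := by rw [hFr, h]; exact t.2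
        exact ⟨g, Subtype.ext hg⟩
      · rw [MonoidHom.ker_codRestrict, hFk]
    · exact Or.inr (Or.inr ⟨F, MonoidHom.range_eq_top.mp (hFr.trans h), hFk⟩)
  intro N' hN'n hN'z hQ
  obtain ⟨T, iT, fT, f', hf', hk, hTodd, hTcard, hTinv⟩ :
      ∃ (T : Type) (_ : Group T) (_ : Finite T) (f' : G →* T), Function.Surjective f' ∧ f'.ker = N' ∧
        (∀ K : Subgroup T, K.Normal → Odd (Nat.card K) → K = ⊥) ∧ (Nat.card T = 4 ∨ Nat.card T = 12 ∨ Nat.card T = 24) ∧
        (Nat.card T ≠ 4 → ∃ s t : T, orderOf s = 2 ∧ orderOf t = 2 ∧ s ≠ t) := by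
    rcases hQ with ⟨f', hf', hk⟩ | ⟨f', hf', hk⟩ | ⟨f', hf', hk⟩
    · refine ⟨DihedralGroup 2, inferInstance, inferInstance, f', hf', hk, fun K _ hK =>
        no_odd_normal_of_two_group (IsPGroup.of_card (n := 2) (by rw [IsKleinFour.card_four]; norm_num)) K hK,
        Or.inl IsKleinFour.card_four, fun h => absurd IsKleinFour.card_four h⟩
    · refine ⟨_, inferInstance, inferInstance, f', hf', hk, no_odd_normal_alt_four, Or.inr (Or.inl alt_four_card),
        fun _ => ⟨⟨Equiv.swap 0 1 * Equiv.swap 2 3, Equiv.Perm.mem_alternatingGroup.mpr (by decide)⟩, ⟨Equiv.swap 0 2 * Equiv.swap 1 3, Equiv.Perm.mem_alternatingGroup.mpr (by decide)⟩,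
          orderOf_eq_prime (by decide) (by decide), orderOf_eq_prime (by decide) (by decide), by decide⟩⟩
    · exact ⟨_, inferInstance, inferInstance, f', hf', hk, no_odd_normal_perm_four, Or.inr (Or.inr perm_four_card),
        fun _ => ⟨Equiv.swap 0 1, Equiv.swap 2 3,
          orderOf_eq_prime (by decide) (by decide), orderOf_eq_prime (by decide) (by decide), by decide⟩⟩
  rw [← hk]
  have hker' : π.ker ≤ f'.ker := by rw [QuotientGroup.ker_mk']; exact le_ker_of_odd hf' hOodd hTodd
  set K := f'.ker.map π with hKdef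
  haveI hKn : K.Normal := Subgroup.Normal.map inferInstance π hπ
  -- cyclic normal subgroups of `R` are central
  have hkey : ∀ w ∈ R, (∀ g : Gb, g * w * g⁻¹ ∈ Subgroup.zpowers w) → w * w = 1 := by
    intro w hwR hnorm
    by_contra hww
    -- `d` fixes `w`
    have hw4 : w ^ 4 = 1 := by
      have h' : ∀ q : QuaternionGroup 2, q ^ 4 = 1 := by decide
      have := h' (eR ⟨w, hwR⟩)
      rw [← map_pow] at this
      exact congrArg Subtype.val (eR.injective (this.trans (map_one eR).symm))
    obtain ⟨e, he⟩ := exists_conj_eq_pow (hnorm d)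
    have hee : w ^ (e * e) = w := by
      rw [← Nat.mod_add_div (e * e) 4, pow_add, pow_mul, hw4, one_pow, mul_one]
      have he2 : e % 2 = 1 := by
        by_contra h
        obtain ⟨j, rfl⟩ : 2 ∣ e := by omega
        apply hww
        have h' : d * (w * w) * d⁻¹ = 1 := by
          rw [show d * (w * w) * d⁻¹ = (d * w * d⁻¹) * (d * w * d⁻¹) by group, he, ← pow_add,
            show 2 * j + 2 * j = 4 * j by ring, pow_mul, hw4, one_pow]
        rwa [mul_inv_eq_one, mul_eq_left] at h'
      rw [show e * e % 4 = 1 by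
        rw [Nat.mul_mod]
        have := Nat.mod_lt e (show 4 > 0 by norm_num)
        rcases (show e % 4 = 1 ∨ e % 4 = 3 by omega) with h | h <;> simp only [h] <;> norm_num, pow_one]
    have hc2 : Commute (d ^ 2) w := commute_iff_conj.mpr (by rw [conj_pow_iterate he, pow_two]; exact hee)
    have hdw : Commute d w := by
      obtain ⟨j, hj⟩ := hd3
      have e' : (d ^ 2) ^ (j + 1) = d := by
        rw [← pow_mul, show 2 * (j + 1) = orderOf d + 1 by omega, pow_succ, pow_orderOf_eq_one, one_mul]
      exact e' ▸ hc2.pow_left (j + 1)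
    -- count the fixed points of `d` on `R`
    apply hdZ
    have hrw : ∀ r ∈ R, ¬ Commute d r → False := by
      intro r hr hrd
      -- a power of `d` of prime order moving `r`
      obtain ⟨p, hp, hpd⟩ : ∃ p, p.Prime ∧ p ∣ orderOf (ψ d) := Nat.exists_prime_and_dvd fun h =>
        hdZ (hker ▸ MonoidHom.mem_ker.mpr (orderOf_eq_one_iff.mp h))
      haveI := Fact.mk hp
      have hodd : Odd (orderOf (ψ d)) := hd3.of_dvd_nat (orderOf_map_dvd ψ d)
      have h24 : orderOf (ψ d) ∣ 3 := by
        have h := orderOf_dvd_natCard (ψ d)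
        rw [perm_four_card] at h
        exact (Nat.Coprime.pow_right 3 hodd.coprime_two_right).dvd_of_dvd_mul_left (show _ ∣ 2 ^ 3 * 3 from h)
      have hd3' : ψ (d ^ 3) = 1 := by rw [map_pow]; exact orderOf_dvd_iff_pow_eq_one.mp h24
      have hd3Z : d ^ 3 ∈ Z := hker ▸ MonoidHom.mem_ker.mpr hd3'
      haveI := Fact.mk Nat.prime_three
      let σ : R → R := fun r => MulAut.conjNormal d r
      set F : Set R := {r | Commute d (r : Gb)} with hF
      -- the fixed subgroup contains `w`, so has at least four elements; but not all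
      let Fs : Subgroup R :=
        { carrier := F
          one_mem' := Commute.one_right d
          mul_mem' := fun {a b} ha hb => Commute.mul_right ha hb
          inv_mem' := fun {a} ha => Commute.inv_right ha }
      have hFlt : Nat.card Fs < 8 := by
        rw [← hRcard]
        refine lt_of_le_of_ne (Subgroup.card_le_card_group Fs) fun h => hrd ?_
        have := (Subgroup.card_eq_iff_eq_top Fs).mp h
        exact (this ▸ Subgroup.mem_top (⟨r, hr⟩ : R) : (⟨r, hr⟩ : R) ∈ Fs)
      have hF4 : 4 ≤ Nat.card Fs := by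
        have ho : orderOf (⟨w, hwR⟩ : R) = 4 := by
          rw [Subgroup.orderOf_mk]
          exact orderOf_eq_prime_pow (p := 2) (n := 1) (by rw [pow_one, pow_two]; exact hww) hw4
        rw [← ho, ← Nat.card_zpowers]
        exact Subgroup.card_le_of_le (Subgroup.zpowers_le.mpr (show (⟨w, hwR⟩ : R) ∈ Fs from hdw))
      have hFd : Nat.card Fs ∣ 8 := hRcard ▸ Subgroup.card_subgroup_dvd_card Fs
      have hF4' : Nat.card Fs = 4 := by
        obtain ⟨k, hk8, hk⟩ := (Nat.dvd_prime_pow Nat.prime_two).mp (show Nat.card Fs ∣ 2 ^ 3 from hFd)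
        rw [hk] at hF4 hFlt ⊢
        interval_cases k <;> omega
      -- the action of `zmod 3`
      set D3 := Subgroup.zpowers (MulAut.conjNormal d : MulAut R) with hD3
      have hD3p : IsPGroup 3 D3 := by
        have hle : orderOf (MulAut.conjNormal d : MulAut R) ∣ 3 ^ 1 := by
          refine orderOf_dvd_of_pow_eq_one ?_
          rw [pow_one, ← map_pow]
          exact MulEquiv.ext fun r => Subtype.ext (by rw [MulAut.conjNormal_apply]; exact hZc _ hd3Z r r.2)
        obtain ⟨k, -, hk⟩ := (Nat.dvd_prime_pow Nat.prime_three).mp hle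
        exact IsPGroup.of_card (n := k) (by rw [hD3, Nat.card_zpowers, hk])
      have hfix : Nat.card (MulAction.fixedPoints D3 R) = 4 := by
        rw [← hF4']
        refine Nat.card_congr (Equiv.subtypeEquivRight fun r => ⟨fun h => ?_, fun h g => ?_⟩)
        · have h' : MulAut.conjNormal d r = r := h ⟨_, Subgroup.mem_zpowers _⟩
          exact commute_iff_conj.mpr ((MulAut.conjNormal_apply d r).symm.trans (congrArg Subtype.val h'))
        · obtain ⟨i, hi⟩ := Subgroup.mem_zpowers_iff.mp g.2
          show (g : MulAut R) r = r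
          rw [← hi, ← map_zpow]
          exact Subtype.ext (by
            rw [MulAut.conjNormal_apply]
            exact commute_iff_conj.mp ((show Commute d (r : Gb) from h).zpow_left i))
      have := hD3p.card_modEq_card_fixedPoints R
      rw [hfix, hRcard] at this
      exact absurd this (by decide)
    rw [hZ, Subgroup.mem_centralizer_iff]
    intro r hr
    by_contra h
    exact hrw r hr fun hc => h hc.eq.symm
  have hKR : ∀ x ∈ K, x ∈ R → x ∈ Z := by
    intro x hxK hxR
    have hcyc : IsCyclic (K ⊓ R : Subgroup Gb) := by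
      obtain ⟨S⟩ : Nonempty (Sylow 2 f'.ker) := inferInstance
      have hSm : ((S : Subgroup f'.ker).map f'.ker.subtype).map π ≤ K :=
        Subgroup.map_mono (Subgroup.map_subtype_le _)
      -- the image of a Sylow subgroup is a Sylow subgroup of `K`
      let g : f'.ker →* K := (π.comp f'.ker.subtype).codRestrict K fun x => Subgroup.mem_map_of_mem π x.2
      have hg : Function.Surjective g := by
        rintro ⟨y, x, hx, rfl⟩
        exact ⟨⟨x, hx⟩, rfl⟩
      haveI : IsCyclic (S : Subgroup f'.ker) := by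
        haveI := hN'z
        have hle : (S : Subgroup f'.ker).map f'.ker.subtype ≤ N' :=
          (Subgroup.map_subtype_le _).trans hk.le
        have := ZSylow.cyclic (N := N') hN'z (K := (S : Subgroup f'.ker).map f'.ker.subtype) (S.2.map _) hle
        exact (Subgroup.equivMapOfInjective _ _ f'.ker.subtype_injective).isCyclic.mpr this
      let S' : Sylow 2 K := S.mapSurjective hg
      haveI : IsCyclic (S' : Subgroup K) :=
        isCyclic_of_surjective (g.subgroupMap (S : Subgroup f'.ker)) (g.subgroupMap_surjective _)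
      have hp : IsPGroup 2 ((K ⊓ R).subgroupOf K) :=
        (hRp.to_le inf_le_right).of_equiv (Subgroup.subgroupOfEquivOfLe inf_le_left).symm
      obtain ⟨S'', hS''⟩ := hp.exists_le_sylow
      haveI : IsCyclic (S'' : Subgroup K) := (S'.equiv S'').isCyclic.mp inferInstance
      haveI := isCyclic_of_le hS''
      exact (Subgroup.subgroupOfEquivOfLe inf_le_left).isCyclic.mp inferInstance
    obtain ⟨⟨w, hw⟩, hgen⟩ := IsCyclic.exists_generator (α := (K ⊓ R : Subgroup Gb))
    haveI : (K ⊓ R).Normal := Subgroup.normal_inf_normal K R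
    have hnorm : ∀ g : Gb, g * w * g⁻¹ ∈ Subgroup.zpowers w := fun g => by
      obtain ⟨i, hi⟩ := hgen ⟨g * w * g⁻¹, (inferInstance : (K ⊓ R).Normal).conj_mem w hw g⟩
      exact ⟨i, by simpa using congrArg Subtype.val hi⟩
    have hww := hkey w hw.2 hnorm
    obtain ⟨i, hi⟩ := hgen ⟨x, hxK, hxR⟩
    have hi' : w ^ i = x := by simpa using congrArg Subtype.val hi
    rw [← hi']
    refine Subgroup.zpow_mem _ ?_ i
    rcases eq_or_ne w 1 with h | h
    · rw [h]; exact one_mem _
    · rw [huniq w (π z) (orderOf_eq_prime (by rw [pow_two]; exact hww) h) hzb]; exact hzZ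
  have hKle : K ≤ Z := by
    -- elements of `K` of odd order centralize `R`
    have hodd : ∀ g ∈ K, Odd (orderOf g) → g = 1 := by
      intro g hg ho
      have hc : g ∈ Z := by
        rw [hZ, Subgroup.mem_centralizer_iff]
        intro r hr
        have hc0 : g * r * g⁻¹ * r⁻¹ ∈ Z := hKR _
          (by rw [show g * r * g⁻¹ * r⁻¹ = g * (r * g⁻¹ * r⁻¹) by group]
              exact mul_mem hg (hKn.conj_mem _ (inv_mem hg) r))
          (mul_mem ((inferInstance : R.Normal).conj_mem r hr g) (inv_mem hr))
        have hstep : g ^ 2 * r * (g ^ 2)⁻¹ = r := by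
          set c := g * r * g⁻¹ * r⁻¹ with hc'
          have hcz : c = 1 ∨ c = π z := by
            rw [hZeq] at hc0
            rcases eq_or_ne c 1 with h | h
            · exact Or.inl h
            · right
              have h2 := Subgroup.orderOf_dvd_natCard _ hc0
              rw [Nat.card_zpowers, hzb] at h2
              exact huniq c _ (((Nat.dvd_prime Nat.prime_two).mp h2).resolve_left fun h' => h (orderOf_eq_one_iff.mp h')) hzb
          have hgc : g * c * g⁻¹ = c := by
            rcases hcz with h | h <;> rw [h]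
            · simp
            · obtain ⟨g', rfl⟩ := hπ g
              rw [← map_inv, ← map_mul, ← map_mul, ← (involution_central hG hz g').eq, mul_inv_cancel_right]
          have hcc : c * c = 1 := by
            rcases hcz with h | h <;> rw [h]
            · simp
            · rw [← pow_two, ← hzb, pow_orderOf_eq_one]
          calc g ^ 2 * r * (g ^ 2)⁻¹ = (g * c * g⁻¹) * (c * r) := by rw [hc', pow_two]; group
            _ = r := by rw [hgc, ← mul_assoc, hcc, one_mul]
        have hc2 : Commute (g ^ 2) r := commute_iff_conj.mpr hstep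
        obtain ⟨j, hj⟩ := ho
        have e : (g ^ 2) ^ (j + 1) = g := by
          rw [← pow_mul, show 2 * (j + 1) = orderOf g + 1 by omega, pow_succ, pow_orderOf_eq_one, one_mul]
        exact ((e ▸ hc2.pow_left (j + 1) : Commute g r)).eq.symm
      have h := Subgroup.orderOf_dvd_natCard Z hc
      rw [hZcard] at h
      rcases (Nat.dvd_prime Nat.prime_two).mp h with h' | h'
      · exact orderOf_eq_one_iff.mp h'
      · exact absurd (h' ▸ ho) (by decide)
    have hK2 : IsPGroup 2 K := by
      refine IsPGroup.iff_orderOf.mpr fun g => ?_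
      set v := (orderOf (g : Gb)).factorization 2
      have h1 := hodd ((g : Gb) ^ 2 ^ v) (Subgroup.pow_mem _ g.2 _) (by
        rw [orderOf_pow' _ (pow_ne_zero _ two_ne_zero), Nat.gcd_eq_right (Nat.ordProj_dvd _ _)]
        exact Nat.odd_iff.mpr (Nat.two_dvd_ne_zero.mp (Nat.not_dvd_ordCompl Nat.prime_two (orderOf_pos _).ne')))
      obtain ⟨k, -, hk⟩ := (Nat.dvd_prime_pow Nat.prime_two).mp
        (orderOf_dvd_of_pow_eq_one (Subtype.ext (by simpa using h1) : g ^ 2 ^ v = 1))
      exact ⟨k, hk⟩
    exact fun x hx => hKR x hx (CfsgLib.Fitting.le_pCore hKn hK2 hx)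
  have hTi : K.index = Nat.card T := by
    rw [Subgroup.index_map_eq _ hπ hker', Subgroup.index_ker, MonoidHom.range_eq_top.mpr hf', Subgroup.card_top]
  have hKZ : K = Z := by
    refine Subgroup.eq_of_le_of_card_ge hKle ?_
    rw [hZcard]
    by_contra hlt
    have hK1 : K = ⊥ := Subgroup.card_eq_one.mp (by have := Nat.card_pos (α := K); omega)
    rw [hK1, Subgroup.index_bot] at hTi
    obtain ⟨e⟩ : Nonempty (Gb ≃* T) := by
      let fb := QuotientGroup.lift O f' (by rwa [QuotientGroup.ker_mk'] at hker')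
      exact ⟨MulEquiv.ofBijective fb ((Nat.bijective_iff_surjective_and_card _).mpr
        ⟨QuotientGroup.lift_surjective_of_surjective O f' hf' _, hTi⟩)⟩
    have h8 : 8 ∣ Nat.card Gb := hRcard ▸ Subgroup.card_subgroup_dvd_card R
    have hne4 : Nat.card T ≠ 4 := fun h => by
      rw [hTi, h] at h8
      exact absurd (Nat.le_of_dvd (by norm_num) h8) (by norm_num)
    obtain ⟨s, t, hs, ht, hst⟩ := hTinv hne4
    exact hst (e.symm.injective (huniq _ _ ((MulEquiv.orderOf_eq e.symm s).trans hs) ((MulEquiv.orderOf_eq e.symm t).trans ht)))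
  rw [← Subgroup.comap_map_eq_self hker', ← hKdef, hKZ]

end CfsgLib.PerfectCompl
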