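import Cfsg.Agent.Lib.PerfectCompl.Rep
import Cfsg.Agent.Lib.PerfectCompl.Sixty
import Cfsg.Agent.Lib.ZStar.UniqueInvol

/-!
# A perfect fixed-point-free group has no quaternion subgroup of order 16
-/

set_option autoImplicit false
set_option linter.style.haveILetI false
set_option linter.unusedSectionVars false

open scoped Classical

namespace CfsgLib.PerfectCompl

open CfsgLib.FrobCompl

universe u

variable {H : Type u} [Group H] [Finite H] (hH : HasFpf H) (hperf : commutator H = ⊤)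

/-- Generators of a quaternion group of order 16, every element of order 4 in which is conjugate to
a square of the element of order 8. -/
structure Q16 (z a b : H) : Prop where
  hz : orderOf z = 2
  ha : orderOf a = 8
  hab : b * a * b⁻¹ = a⁻¹
  hbb : b * b = z
  hconj : ∃ g : H, g * b * g⁻¹ = a * a ∨ g * b * g⁻¹ = a * a * z
  hconj' : ∃ g : H, g * (a * b) * g⁻¹ = a * a ∨ g * (a * b) * g⁻¹ = a * a * z

variable {z a b : H} (h16 : Q16 z a b)
include hH h16

theorem Q16.a4 : a * a * (a * a) = z := by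
  refine involution_eq hH ?_ h16.hz
  rw [show a * a * (a * a) = a ^ 4 by simp [pow_succ, mul_assoc],
    orderOf_pow' _ (by norm_num), h16.ha]
  norm_num

theorem Q16.ba : b * a = a⁻¹ * b := mul_inv_eq_iff_eq_mul.mp h16.hab

theorem Q16.flip : Q16 z a (a * b) := by
  have hab' : a * b * a * (a * b)⁻¹ = a⁻¹ := by
    rw [mul_inv_rev, show a * b * a * (b⁻¹ * a⁻¹) = a * (b * a * b⁻¹) * a⁻¹ by group, h16.hab]; group
  have hbb' : a * b * (a * b) = z := by
    rw [show a * b * (a * b) = a * (b * a) * b by group, h16.ba hH, ← h16.hbb]; group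
  refine ⟨h16.hz, h16.ha, hab', hbb', h16.hconj', ?_⟩
  obtain ⟨g, hg⟩ := h16.hconj
  refine ⟨g * a⁻¹, ?_⟩
  have e : a⁻¹ * (a * (a * b)) * a⁻¹⁻¹ = b := by
    rw [inv_inv, inv_mul_cancel_left, mul_assoc, h16.ba hH, mul_inv_cancel_left]
  rw [show g * a⁻¹ * (a * (a * b)) * (g * a⁻¹)⁻¹ = g * (a⁻¹ * (a * (a * b)) * a⁻¹⁻¹) * g⁻¹ by group, e]
  exact hg

theorem Q16.rel {R : Type} [Ring R] {ρ : H →* R} (hρ : ∀ h : H, h ≠ 1 → ∀ x : R, ρ h * x = x → x = 0) :
    ρ a * (ρ a * (ρ a * ρ a)) = -1 ∧ ρ b * ρ b = -1 ∧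
      ρ b * ρ a = -(ρ a * (ρ a * (ρ a * ρ b))) := by
  have hz := rep_involution ρ hρ h16.hz
  refine ⟨?_, ?_, ?_⟩
  · rw [← map_mul, ← map_mul, ← map_mul, ← mul_assoc a a, h16.a4 hH, hz]
  · rw [← map_mul, h16.hbb, hz]
  · have e : b * a = z * (a * (a * (a * b))) := by
      rw [h16.ba hH, eq_comm, show z * (a * (a * (a * b))) = z * (a * (a * a)) * b by group]
      congr 1
      refine eq_inv_of_mul_eq_one_left ?_
      rw [show z * (a * (a * a)) * a = z * (a * a * (a * a)) by group, h16.a4 hH, ← pow_two, ← h16.hz,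
        pow_orderOf_eq_one]
    rw [← map_mul, e, map_mul, map_mul, map_mul, map_mul, hz, neg_one_mul]

include hperf

theorem centralizer_order_four_core {v w : H} (hv : orderOf v = 3) (hw : orderOf w = 3)
    (hvi : Commute v (a * a)) (hwi : Commute w (a * a)) : Subgroup.zpowers w = Subgroup.zpowers v := by
  haveI := Fact.mk Nat.prime_two
  have hOG := oddGood hH hperf
  set i := a * a with hidef
  have hi2 : i * i = z := h16.a4 hH
  have hi : orderOf i = 4 := by
    rw [hidef, show a * a = a ^ 2 by rw [pow_two], orderOf_pow' _ two_ne_zero, h16.ha]; norm_num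
  set M := Subgroup.centralizer ({i} : Set H)
  have hiM : i ∈ M := Subgroup.mem_centralizer_singleton_iff.mpr rfl
  have hzM : z ∈ M := hi2 ▸ mul_mem hiM hiM
  obtain ⟨P, hP⟩ := (IsPGroup.of_card (n := 2) (by
      rw [Nat.card_zpowers, ← Subgroup.orderOf_coe]; exact hi) :
    IsPGroup 2 (Subgroup.zpowers (⟨i, hiM⟩ : M))).exists_le_sylow
  have huniq : ∀ x y : (P : Subgroup M), orderOf x = 2 → orderOf y = 2 → x = y := fun x y hx hy =>
    Subtype.ext (Subtype.ext (involution_eq hH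
      ((Subgroup.orderOf_coe (x : M)).trans ((Subgroup.orderOf_coe x).trans hx))
      ((Subgroup.orderOf_coe (y : M)).trans ((Subgroup.orderOf_coe y).trans hy))))
  haveI : IsCyclic (P : Subgroup M) := by
    rcases CfsgLib.ZStar.unique_involution_structure P.2 huniq with h | ⟨c, n, hn, hc, -, hidx, hout⟩
    · exact h
    exfalso
    set i' : (P : Subgroup M) := ⟨⟨i, hiM⟩, hP (Subgroup.mem_zpowers _)⟩
    have hic : ∀ x : (P : Subgroup M), i' * x = x * i' := fun x => Subtype.ext (Subtype.ext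
      (Subgroup.mem_centralizer_singleton_iff.mp ((x : M)).2).symm)
    by_cases hin : i' ∈ Subgroup.zpowers c
    · obtain ⟨x, hx⟩ : ∃ x, x ∉ Subgroup.zpowers c := by
        by_contra h
        push Not at h
        rw [show Subgroup.zpowers c = ⊤ from eq_top_iff.mpr fun x _ => h x, Subgroup.index_top] at hidx
        omega
      obtain ⟨k, hk⟩ := Subgroup.mem_zpowers_iff.mp hin
      have h1 : x * i' * x⁻¹ = i'⁻¹ := by rw [← hk, ← conj_zpow, hout x hx, inv_zpow]
      rw [← hic x, mul_inv_cancel_right, eq_inv_iff_mul_eq_one] at h1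
      have h2 : i * i = 1 := congrArg (fun x : (P : Subgroup M) => ((x : M) : H)) h1
      rw [hi2] at h2
      have := h16.hz
      rw [h2, orderOf_one] at this
      omega
    · have h1 := hout i' hin
      rw [hic c, mul_inv_cancel_right, eq_inv_iff_mul_eq_one, ← pow_two] at h1
      have h2 := Nat.le_of_dvd two_pos (hc ▸ orderOf_dvd_of_pow_eq_one h1)
      have : 2 ^ 2 ≤ 2 ^ n := Nat.pow_le_pow_right two_pos hn
      omega
  obtain ⟨K, hKn, hKi, hK2, -⟩ := exists_complement P (w := (⟨z, hzM⟩ : M))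
    (by
      have : (⟨z, hzM⟩ : M) = ⟨i, hiM⟩ * ⟨i, hiM⟩ := Subtype.ext hi2.symm
      rw [this]
      exact mul_mem (hP (Subgroup.mem_zpowers _)) (hP (Subgroup.mem_zpowers _)))
    (by rw [Subgroup.orderOf_mk]; exact h16.hz)
    (fun g _ => Subtype.ext (involution_central hH h16.hz (g : H)).symm)
  obtain ⟨k, hk⟩ := P.2.exists_card_eq
  have hmem : ∀ x : H, orderOf x = 3 → Commute x i → x ∈ K.map M.subtype := fun x hx hxi => by
    refine ⟨⟨x, Subgroup.mem_centralizer_singleton_iff.mpr hxi⟩, mem_of_coprime_index ?_, rfl⟩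
    rw [hKi, hk, Subgroup.orderOf_mk, hx]
    exact Nat.Coprime.pow_right k (by norm_num)
  haveI : IsCyclic (K.map M.subtype) := isCyclic_of_odd hOG (by
    rw [Subgroup.card_map_of_injective M.subtype_injective]
    exact Nat.not_even_iff_odd.mp fun h => hK2 (even_iff_two_dvd.mp h))
  haveI := Fact.mk Nat.prime_three
  exact zpowers_eq_of_cyclic (hmem v hv hvi) hv (hmem w hw hwi) hw

omit hH h16 hperf in
/-- `x` modulo `zpowers z`. -/
theorem mk_eq_iff [(Subgroup.zpowers z).Normal] (hz : orderOf z = 2) {x y : H} :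
    (QuotientGroup.mk x : H ⧸ Subgroup.zpowers z) = QuotientGroup.mk y ↔ y = x ∨ y = x * z := by
  rw [QuotientGroup.eq]
  constructor
  · intro h
    obtain ⟨k, hk⟩ := h
    have hk' : z ^ k = x⁻¹ * y := hk
    rcases Int.even_or_odd k with ⟨m, hm⟩ | ⟨m, hm⟩
    · left
      rw [hm, ← two_mul, zpow_mul, zpow_ofNat, ← hz, pow_orderOf_eq_one, one_zpow] at hk'
      exact (inv_mul_eq_one.mp hk'.symm).symm
    · right
      rw [hm, zpow_add, zpow_mul, zpow_ofNat, ← hz, pow_orderOf_eq_one, one_zpow, one_mul, zpow_one] at hk'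
      rw [hk', mul_inv_cancel_left]
  · rintro (rfl | rfl)
    · rw [inv_mul_cancel]; exact one_mem _
    · rw [inv_mul_cancel_left]; exact Subgroup.mem_zpowers z

section

variable [(Subgroup.zpowers z).Normal]

set_option quotPrecheck false in
local notation "π" => QuotientGroup.mk' (Subgroup.zpowers z)
set_option quotPrecheck false in
local notation "φ" => MonoidHom.comp (MulAut.conj (G := H ⧸ Subgroup.zpowers z)) (QuotientGroup.mk' (Subgroup.zpowers z))

omit hH h16 hperf in
theorem phi_mk (h x : H) : φ h (π x) = π (h * x * h⁻¹) := by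
  simp [MulAut.conj_apply]

omit hperf in
theorem Q16.phi_a :
    φ a (π (a * a)) = π (a * a) ∧ φ a (π b) = π (a * a * b) ∧ φ a (π (a * a * b)) = π b := by
  have e : a * b * a⁻¹ = a * a * b := by
    rw [mul_inv_eq_iff_eq_mul, mul_assoc, h16.ba hH]; group
  refine ⟨?_, ?_, ?_⟩ <;> rw [phi_mk]
  · congr 1; group
  · rw [e]
  · rw [show a * (a * a * b) * a⁻¹ = a * a * (a * b * a⁻¹) by group, e, ← mul_assoc (a * a), h16.a4 hH,
      map_mul, show π z = 1 from (QuotientGroup.eq_one_iff z).mpr (Subgroup.mem_zpowers z), one_mul]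

omit hperf in
theorem Q16.four :
    π (a * a) * π (a * a) = 1 ∧ π b * π b = 1 ∧ π (a * a) ≠ π b ∧ Commute (π (a * a)) (π b) ∧
      π (a * a) ≠ 1 ∧ π b ≠ 1 := by
  have hz1 : π z = 1 := (QuotientGroup.eq_one_iff z).mpr (Subgroup.mem_zpowers z)
  have hi : π (a * a) * π (a * a) = 1 := by rw [← map_mul, h16.a4 hH, hz1]
  have hb : π b * π b = 1 := by rw [← map_mul, h16.hbb, hz1]
  have hba : b * (a * a) * b⁻¹ = a⁻¹ * a⁻¹ := by
    rw [show b * (a * a) * b⁻¹ = (b * a * b⁻¹) * (b * a * b⁻¹) by group, h16.hab]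
  have hcomm : Commute (π (a * a)) (π b) := by
    refine (commute_iff_conj.mpr ?_).symm
    rw [← map_inv, ← map_mul, ← map_mul, hba, ← mul_inv_rev, map_inv]
    exact inv_eq_of_mul_eq_one_right hi
  have hne1 : π (a * a) ≠ 1 := fun h => by
    rcases (mk_eq_iff h16.hz).mp (h.trans (map_one π).symm).symm with e | e
    · have := h16.ha
      have h2 : a ^ 2 = 1 := by rw [pow_two, e]
      exact absurd (Nat.le_of_dvd two_pos (this ▸ orderOf_dvd_of_pow_eq_one h2)) (by norm_num)
    · rw [one_mul] at e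
      have h2 : a ^ 4 = 1 := by
        rw [show a ^ 4 = (a * a) * (a * a) by simp [pow_succ, mul_assoc], e, ← pow_two, ← h16.hz,
          pow_orderOf_eq_one]
      exact absurd (Nat.le_of_dvd four_pos (h16.ha ▸ orderOf_dvd_of_pow_eq_one h2)) (by norm_num)
  have hbne : π b ≠ 1 := fun h => by
    have hz' := h16.hz
    rcases (mk_eq_iff h16.hz).mp (h.trans (map_one π).symm).symm with e | e
    · rw [← h16.hbb, e, mul_one, orderOf_one] at hz'; omega
    · rw [one_mul] at e
      rw [← h16.hbb, e, ← pow_two, ← h16.hz, pow_orderOf_eq_one, orderOf_one] at hz'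
      have := h16.hz
      omega
  refine ⟨hi, hb, fun h => ?_, hcomm, hne1, hbne⟩
  have h8 : a * a * (a * a) ≠ 1 := fun e => by
    rw [h16.a4 hH] at e
    have := h16.hz
    rw [e, orderOf_one] at this
    omega
  have hc : Commute b (a * a) := by
    rcases (mk_eq_iff h16.hz).mp h with e | e <;> rw [e]
    exact ((Commute.refl (a * a)).mul_left (involution_central hH h16.hz (a * a)))
  rw [commute_iff_conj.mp hc, ← mul_inv_rev, eq_inv_iff_mul_eq_one] at hba
  exact h8 hba

/-- A rotation of the quaternion group `⟨a ^ 2, b⟩`. -/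
structure Rot (z a b u : H) [(Subgroup.zpowers z).Normal] : Prop where
  ord : ∃ l : ℕ, 0 < l ∧ orderOf u = 3 ^ l
  fst : ((MonoidHom.comp (MulAut.conj (G := H ⧸ Subgroup.zpowers z)) (QuotientGroup.mk' (Subgroup.zpowers z))) u ((QuotientGroup.mk' (Subgroup.zpowers z)) (a * a)) = (QuotientGroup.mk' (Subgroup.zpowers z)) b ∧ (MonoidHom.comp (MulAut.conj (G := H ⧸ Subgroup.zpowers z)) (QuotientGroup.mk' (Subgroup.zpowers z))) u ((QuotientGroup.mk' (Subgroup.zpowers z)) b) = (QuotientGroup.mk' (Subgroup.zpowers z)) (a * a * b) ∧ (MonoidHom.comp (MulAut.conj (G := H ⧸ Subgroup.zpowers z)) (QuotientGroup.mk' (Subgroup.zpowers z))) u ((QuotientGroup.mk' (Subgroup.zpowers z)) (a * a * b)) = (QuotientGroup.mk' (Subgroup.zpowers z)) (a * a)) ∨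
    ((MonoidHom.comp (MulAut.conj (G := H ⧸ Subgroup.zpowers z)) (QuotientGroup.mk' (Subgroup.zpowers z))) u ((QuotientGroup.mk' (Subgroup.zpowers z)) (a * a)) = (QuotientGroup.mk' (Subgroup.zpowers z)) (a * a * b) ∧ (MonoidHom.comp (MulAut.conj (G := H ⧸ Subgroup.zpowers z)) (QuotientGroup.mk' (Subgroup.zpowers z))) u ((QuotientGroup.mk' (Subgroup.zpowers z)) (a * a * b)) = (QuotientGroup.mk' (Subgroup.zpowers z)) b ∧ (MonoidHom.comp (MulAut.conj (G := H ⧸ Subgroup.zpowers z)) (QuotientGroup.mk' (Subgroup.zpowers z))) u ((QuotientGroup.mk' (Subgroup.zpowers z)) b) = (QuotientGroup.mk' (Subgroup.zpowers z)) (a * a))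

omit hperf in
theorem Q16.exists_rot : ∃ u : H, Rot z a b u := by
  haveI := Fact.mk Nat.prime_two
  obtain ⟨hi2, hb2, hib, hcomm, hi1, hb1⟩ := h16.four hH
  set i := a * a with hidef
  have hiz : i * i = z := h16.a4 hH
  have hz2 : z * z = 1 := by rw [← pow_two, ← h16.hz, pow_orderOf_eq_one]
  have hzc : ∀ x : H, Commute z x := involution_central hH h16.hz
  have hV := exists_four (orderOf_eq_prime (by rw [pow_two]; exact hi2) hi1)
    (orderOf_eq_prime (by rw [pow_two]; exact hb2) hb1) hib hcomm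
  obtain ⟨V, hVcard, hVm⟩ := hV
  set Q := V.comap π with hQdef
  have hQm : ∀ x, x ∈ Q ↔ π x = 1 ∨ π x = π i ∨ π x = π b ∨ π x = π i * π b := fun x => hVm (π x)
  have hiQ : i ∈ Q := (hQm i).mpr (Or.inr (Or.inl rfl))
  have hbQ : b ∈ Q := (hQm b).mpr (Or.inr (Or.inr (Or.inl rfl)))
  have hQcard : Nat.card Q = 8 := by
    have h1 := Subgroup.card_mul_index Q
    rw [hQdef, Subgroup.index_comap_of_surjective _ (QuotientGroup.mk'_surjective _),
      Subgroup.card_eq_card_quotient_mul_card_subgroup (Subgroup.zpowers z), Nat.card_zpowers, h16.hz,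
      ← V.card_mul_index, hVcard] at h1
    rw [hQdef]
    have hpos : 0 < V.index := Nat.pos_of_ne_zero Subgroup.index_ne_zero_of_finite
    nlinarith
  set N := Subgroup.normalizer ((Subgroup.zpowers b : Subgroup H) : Set H)
  have hbb : ∀ x : H, x * b * x⁻¹ = b ∨ x * b * x⁻¹ = b * z → x ∈ N := by
    intro x hx
    refine Subgroup.mem_normalizer_fintype fun w hw => ?_
    obtain ⟨k, rfl⟩ := Subgroup.mem_zpowers_iff.mp hw
    rw [← conj_zpow]
    rcases hx with h | h <;> rw [h]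
    · exact Subgroup.zpow_mem _ (Subgroup.mem_zpowers b) _
    · exact Subgroup.zpow_mem _ (mul_mem (Subgroup.mem_zpowers b)
        (h16.hbb ▸ mul_mem (Subgroup.mem_zpowers b) (Subgroup.mem_zpowers b))) _
  have hQN : Q ≤ N := fun x hx => by
    refine hbb x ((mk_eq_iff h16.hz).mp ?_)
    show π b = π (x * b * x⁻¹)
    rw [map_mul, map_mul, map_inv]
    have hc : Commute (π x) (π b) := by
      rcases (hQm x).mp hx with h | h | h | h <;> rw [h]
      exacts [Commute.one_left _, hcomm, hcomm.mul_left (Commute.refl _)]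
    rw [hc.eq, mul_inv_cancel_right]
  obtain ⟨g, hg⟩ := h16.hconj
  set a' := g⁻¹ * a * g with ha'
  have ha'c : Commute a' b := by
    have hc : Commute a (g * b * g⁻¹) := by
      rcases hg with h | h <;> rw [h]
      · exact (Commute.refl a).mul_right (Commute.refl a)
      · exact ((Commute.refl a).mul_right (Commute.refl a)).mul_right (hzc a).symm
    have := commute_conj (g := g⁻¹) hc
    rw [show g⁻¹ * (g * b * g⁻¹) * g⁻¹⁻¹ = b by group, inv_inv] at this
    exact this
  have ha'N : a' ∈ N := hbb a' (Or.inl (commute_iff_conj.mp ha'c))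
  have ha'o : orderOf a' = 8 := by
    rw [ha', show g⁻¹ * a * g = MulAut.conj g⁻¹ a by simp, MulEquiv.orderOf_eq]; exact h16.ha
  -- Sylow subgroup of `N` above `Q`
  obtain ⟨T, hT⟩ := (IsPGroup.of_card (n := 3) (by
      rw [Nat.card_congr (Subgroup.subgroupOfEquivOfLe hQN).toEquiv, hQcard]; norm_num) :
    IsPGroup 2 (Q.subgroupOf N)).exists_le_sylow
  set TH := (T : Subgroup N).map N.subtype with hTH
  have hTN : TH ≤ N := Subgroup.map_subtype_le _
  have hQT : Q ≤ TH := fun x hx => ⟨⟨x, hQN hx⟩, hT (Subgroup.mem_subgroupOf.mpr hx), rfl⟩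
  have hne : Q.subgroupOf TH ≠ ⊤ := by
    intro h
    rw [Subgroup.subgroupOf_eq_top] at h
    obtain ⟨U, hU⟩ := (IsPGroup.of_card (n := 3) (by
        rw [Nat.card_zpowers, Subgroup.orderOf_mk, ha'o]; norm_num) :
      IsPGroup 2 (Subgroup.zpowers (⟨a', ha'N⟩ : N))).exists_le_sylow
    obtain ⟨n, hn⟩ := MulAction.exists_smul_eq N U T
    have hm : (n : H) * a' * (n : H)⁻¹ ∈ Q := by
      refine h ⟨n * ⟨a', ha'N⟩ * n⁻¹, ?_, rfl⟩
      rw [SetLike.mem_coe, ← hn, Sylow.coe_subgroup_smul]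
      exact ⟨_, hU (Subgroup.mem_zpowers _), rfl⟩
    have hsq : π ((n : H) * a' * (n : H)⁻¹) * π ((n : H) * a' * (n : H)⁻¹) = 1 := by
      rcases (hQm _).mp hm with e | e | e | e <;> rw [e]
      exacts [one_mul 1, hi2, hb2, by rw [hcomm.symm.mul_mul_mul_comm, hi2, hb2, one_mul]]
    rw [← map_mul, ← map_one π] at hsq
    have h4 : ((n : H) * a' * (n : H)⁻¹) ^ 4 = 1 := by
      rw [show (4 : ℕ) = 2 * 2 from rfl, pow_mul, pow_two, pow_two]
      rcases (mk_eq_iff h16.hz).mp hsq.symm with e | e <;> rw [e]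
      · exact one_mul 1
      · rw [one_mul]; exact hz2
    have := orderOf_dvd_of_pow_eq_one h4
    rw [← MulAut.conj_apply, MulEquiv.orderOf_eq, ha'o] at this
    exact absurd (Nat.le_of_dvd four_pos this) (by norm_num)
  haveI : Group.IsNilpotent TH := (T.2.map N.subtype).isNilpotent
  obtain ⟨t₀, ht₀N, ht₀Q⟩ := SetLike.exists_of_lt
    (normalizerCondition_of_isNilpotent (Q.subgroupOf TH) hne.lt_top)
  have ht₀ : (t₀ : H) ∈ Subgroup.normalizer (Q : Set H) := by
    refine Subgroup.mem_normalizer_fintype fun x hx => ?_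
    exact Subgroup.mem_subgroupOf.mp ((Subgroup.mem_normalizer_iff.mp ht₀N ⟨x, hQT hx⟩).mp
      (Subgroup.mem_subgroupOf.mpr hx))
  have ht₀Q' : (t₀ : H) ∉ Q := fun h => ht₀Q (Subgroup.mem_subgroupOf.mpr h)
  -- normalize so that the square lies in `Q`
  obtain ⟨t, htT, htn, htQ, htt⟩ : ∃ t ∈ TH, t ∈ Subgroup.normalizer (Q : Set H) ∧ t ∉ Q ∧ t * t ∈ Q := by
    have hex : ∃ k : ℕ, (t₀ : H) ^ 2 ^ k ∈ Q := by
      obtain ⟨k, hk⟩ := (T.2.map N.subtype) ⟨t₀, t₀.2⟩
      exact ⟨k, by rw [show (t₀ : H) ^ 2 ^ k = 1 by simpa using congrArg Subtype.val hk]; exact one_mem _⟩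
    obtain ⟨k, hk⟩ : ∃ k, Nat.find hex = k + 1 := ⟨Nat.find hex - 1, (Nat.sub_add_cancel (Nat.pos_of_ne_zero
      fun h0 => ht₀Q' (by simpa [h0] using Nat.find_spec hex))).symm⟩
    refine ⟨(t₀ : H) ^ 2 ^ k, Subgroup.pow_mem _ t₀.2 _, Subgroup.pow_mem _ ht₀ _,
      Nat.find_min hex (by omega), ?_⟩
    have := Nat.find_spec hex
    rw [hk, pow_succ, pow_mul, pow_two] at this
    exact this
  -- `t` fixes `π b`
  have htb : φ t (π b) = π b := by
    rw [phi_mk]
    obtain ⟨k, hk⟩ := (Subgroup.mem_normalizer_iff.mp (hTN htT) b).mp (Subgroup.mem_zpowers b)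
    have hk' : b ^ k = t * b * t⁻¹ := hk
    rw [← hk', map_zpow]
    rcases Int.even_or_odd k with ⟨m, hm⟩ | ⟨m, hm⟩
    · exfalso
      have h1 : π (t * b * t⁻¹) = 1 := by
        rw [← hk', map_zpow, hm, ← two_mul, zpow_mul, zpow_ofNat, pow_two, hb2, one_zpow]
      rw [map_mul, map_mul, map_inv, mul_inv_eq_one, mul_eq_left] at h1
      exact hb1 h1
    · rw [hm, zpow_add, zpow_mul, zpow_ofNat, pow_two, hb2, one_zpow, one_mul, zpow_one]
  have hnQ : ∀ x ∈ Q, t * x * t⁻¹ ∈ Q := fun x hx => (Subgroup.mem_normalizer_iff.mp htn x).mp hx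
  -- `t` moves `π i`
  have hti : φ t (π i) = π (i * b) := by
    have hmem := hnQ i hiQ
    rw [phi_mk]
    rcases (hQm _).mp hmem with e | e | e | e
    · rw [map_mul, map_mul, map_inv, mul_inv_eq_one, mul_eq_left] at e
      exact absurd e hi1
    · exfalso
      have hbi : b * i * b⁻¹ = i * z := by
        rw [hidef, show b * (a * a) * b⁻¹ = (b * a * b⁻¹) * (b * a * b⁻¹) by group, h16.hab,
          ← mul_inv_rev, ← hidef, inv_eq_of_mul_eq_one_right (b := i * z) (by
            rw [← mul_assoc, hiz, hz2])]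
      have hib' : i * b * i⁻¹ = b * z := by
        have e1 : i * b = b * i * z := by
          have : b * i = i * z * b := mul_inv_eq_iff_eq_mul.mp hbi
          rw [this, mul_assoc i z b, (hzc b).eq, ← mul_assoc i b z, mul_assoc (i * b), hz2, mul_one]
        rw [mul_inv_eq_iff_eq_mul, e1, mul_assoc, ← (hzc i).eq, ← mul_assoc]
      obtain ⟨q, hq, hqi, hqb⟩ : ∃ q ∈ Q, t * (q * i * q⁻¹) * t⁻¹ = i ∧ t * (q * b * q⁻¹) * t⁻¹ = b := by
        have hzt : t * z * t⁻¹ = z := by rw [← (hzc t).eq, mul_inv_cancel_right]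
        have e1 : ∀ x : H, t * (x * z) * t⁻¹ = t * x * t⁻¹ * z := fun x => by
          rw [show t * (x * z) * t⁻¹ = t * x * t⁻¹ * (t * z * t⁻¹) by group, hzt]
        have hzz : ∀ x : H, x * z * z = x := fun x => by rw [mul_assoc, hz2, mul_one]
        rcases (mk_eq_iff h16.hz).mp e.symm with h1 | h1 <;>
          rcases (mk_eq_iff h16.hz).mp (htb.symm.trans (phi_mk t b)) with h2 | h2
        · exact ⟨1, one_mem _, by simpa using h1, by simpa using h2⟩
        · refine ⟨i, hiQ, by rw [mul_inv_cancel_right]; exact h1, ?_⟩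
          rw [hib', e1, h2, hzz]
        · refine ⟨b, hbQ, ?_, by rw [mul_inv_cancel_right]; exact h2⟩
          rw [hbi, e1, h1, hzz]
        · refine ⟨i * b, mul_mem hiQ hbQ, ?_, ?_⟩
          · rw [show i * b * i * (i * b)⁻¹ = i * (b * i * b⁻¹) * i⁻¹ by group, hbi,
              show i * (i * z) * i⁻¹ = i * (i * z * i⁻¹) by group, mul_assoc i z, (hzc i⁻¹).eq,
              mul_inv_cancel_left, e1, h1, hzz]
          · rw [show i * b * b * (i * b)⁻¹ = i * b * i⁻¹ by group, hib', e1, h2, hzz]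
      set w := t * q with hw
      have hwi : Commute w i := commute_iff_conj.mpr (by
        rw [hw, show t * q * i * (t * q)⁻¹ = t * (q * i * q⁻¹) * t⁻¹ by group, hqi])
      have hwb : Commute w b := commute_iff_conj.mpr (by
        rw [hw, show t * q * b * (t * q)⁻¹ = t * (q * b * q⁻¹) * t⁻¹ by group, hqb])
      have hwQ : w ∉ Q := fun h => htQ (by simpa [hw] using mul_mem h (inv_mem hq))
      have hww : w * w ∈ Q := by
        rw [hw, show t * q * (t * q) = (t * q * t⁻¹) * (t * t) * q by group]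
        exact mul_mem (mul_mem (hnQ q hq) htt) hq
      have hbi' : ¬ Commute b i := fun hc => by
        rw [commute_iff_conj.mp hc] at hbi
        have hz' := h16.hz
        rw [show z = 1 from (mul_eq_left).mp hbi.symm, orderOf_one] at hz'
        omega
      -- `w * w` is `1` or `z`
      have hw2 : π (w * w) = 1 := by
        have hci : Commute (w * w) i := hwi.mul_left hwi
        have hcb : Commute (w * w) b := hwb.mul_left hwb
        rcases (hQm _).mp hww with h | h | h | h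
        · exact h
        · exfalso
          rcases (mk_eq_iff h16.hz).mp h.symm with h' | h'
          · exact hbi' (h' ▸ hcb).symm
          · rw [h'] at hcb
            apply hbi'
            have := hcb.mul_left (hzc b)
            rwa [mul_assoc, hz2, mul_one, Commute.symm_iff] at this
        · exfalso
          rcases (mk_eq_iff h16.hz).mp h.symm with h' | h'
          · exact hbi' (h' ▸ hci)
          · rw [h'] at hci
            apply hbi'
            have := hci.mul_left (hzc i)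
            rwa [mul_assoc, hz2, mul_one] at this
        · exfalso
          rw [← map_mul] at h
          rcases (mk_eq_iff h16.hz).mp h.symm with h' | h'
          · rw [h'] at hci
            apply hbi'
            have := (Commute.refl i).inv_left.mul_left hci
            rwa [inv_mul_cancel_left] at this
          · rw [h'] at hci
            apply hbi'
            have := ((Commute.refl i).inv_left.mul_left hci).mul_left (hzc i)
            rwa [show i⁻¹ * (i * b * z) * z = b by rw [mul_assoc (i⁻¹), mul_assoc (i * b), hz2, mul_one, inv_mul_cancel_left]] at this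
      rcases (mk_eq_iff h16.hz).mp (hw2.trans (map_one π).symm).symm with h | h
      · apply hwQ
        rcases eq_or_ne w 1 with h' | h'
        · exact h' ▸ one_mem _
        · have := involution_eq hH (orderOf_eq_prime (by rw [pow_two]; exact h) h') h16.hz
          rw [this, ← hiz]
          exact mul_mem hiQ hiQ
      · apply hwQ
        rw [one_mul] at h
        have h2 : (w * i) * (w * i) = 1 := by
          rw [hwi.symm.mul_mul_mul_comm, h, hiz, hz2]
        have hwi' : w * i ∈ Q := by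
          rcases eq_or_ne (w * i) 1 with h' | h'
          · exact h' ▸ one_mem _
          · rw [involution_eq hH (orderOf_eq_prime (by rw [pow_two]; exact h2) h') h16.hz, ← hiz]
            exact mul_mem hiQ hiQ
        simpa using mul_mem hwi' (inv_mem hiQ)
    · exfalso
      exact hib ((φ t).injective ((phi_mk t i).trans (e.trans htb.symm)))
    · exact e.trans (map_mul π i b).symm
  obtain ⟨hai, hab, hac⟩ := h16.phi_a hH
  set s := a * t with hs
  have hs1 : φ s (π i) = π b := by rw [map_mul, MulAut.mul_apply, hti]; exact hac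
  have hs2 : φ s (π b) = π (i * b) := by rw [map_mul, MulAut.mul_apply, htb]; exact hab
  have hs3 : φ s (π (i * b)) = π i := by
    rw [map_mul π i b, map_mul (φ s), hs1, hs2, ← map_mul,
      show b * (i * b) = b * i * b⁻¹ * (b * b) by group, h16.hbb, map_mul,
      show π z = 1 from (QuotientGroup.eq_one_iff z).mpr (Subgroup.mem_zpowers z), mul_one,
      map_mul, map_mul, map_inv, ← hcomm.eq, mul_inv_cancel_right]
  have key : ∀ m : ℕ, (φ (s ^ (3 * m)) (π i) = π i ∧ φ (s ^ (3 * m)) (π b) = π b ∧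
      φ (s ^ (3 * m)) (π (i * b)) = π (i * b)) := by
    intro m
    induction m with
    | zero => simp
    | succ m ih =>
      rw [show 3 * (m + 1) = 3 * m + 1 + 1 + 1 by ring, pow_succ, pow_succ, pow_succ]
      simp only [map_mul φ, MulAut.mul_apply]
      simp only [hs1, hs2, hs3, ih, and_self]
  have ho : orderOf s ≠ 0 := (orderOf_pos s).ne'
  haveI := Fact.mk Nat.prime_three
  set v := (orderOf s).factorization 3
  set m := orderOf s / 3 ^ v with hm
  have hm3 : ¬ 3 ∣ m := Nat.not_dvd_ordCompl Nat.prime_three ho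
  have hvd : 3 ^ v ∣ orderOf s := Nat.ordProj_dvd _ _
  have hu : orderOf (s ^ m) = 3 ^ v := by
    rw [orderOf_pow' _ (Nat.ordCompl_pos 3 ho).ne', Nat.gcd_eq_right (Nat.div_dvd_of_dvd hvd),
      Nat.div_div_self hvd ho]
  have hrot : (φ (s ^ m) (π i) = π b ∧ φ (s ^ m) (π b) = π (i * b) ∧ φ (s ^ m) (π (i * b)) = π i) ∨
    (φ (s ^ m) (π i) = π (i * b) ∧ φ (s ^ m) (π (i * b)) = π b ∧ φ (s ^ m) (π b) = π i) := by
    have hk := key (m / 3)
    rcases (show m = 3 * (m / 3) + 1 ∨ m = 3 * (m / 3) + 1 + 1 by omega) with h | h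
    · left
      rw [h, pow_succ]
      simp only [map_mul φ, MulAut.mul_apply]
      simp only [hs1, hs2, hs3, hk, and_self]
    · right
      rw [h, pow_succ, pow_succ]
      simp only [map_mul φ, MulAut.mul_apply]
      simp only [hs1, hs2, hs3, hk, and_self]
  refine ⟨s ^ m, ⟨v, Nat.pos_of_ne_zero fun hv => ?_, hu⟩, hrot⟩
  rw [hv, pow_zero, orderOf_eq_one_iff] at hu
  rw [hu, map_one] at hrot
  rcases hrot with ⟨h, -, -⟩ | ⟨h, -, -⟩
  · exact hib h
  · rw [MulAut.one_apply] at h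
    exact hb1 (mul_eq_left.mp ((map_mul π i b).symm.trans h.symm))

omit hperf in
theorem commute_of_fix {w x : H} (hw : orderOf w = 3) (h : φ w (π x) = π x) : Commute w x := by
  rw [phi_mk] at h
  rcases (mk_eq_iff h16.hz).mp h.symm with e | e
  · exact commute_iff_conj.mpr e
  · exfalso
    have hzc : ∀ y : H, Commute z y := involution_central hH h16.hz
    have e1 : ∀ j : ℕ, w ^ j * x * (w ^ j)⁻¹ = x * z ^ j := by
      intro j
      induction j with
      | zero => simp
      | succ j ih =>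
        rw [pow_succ' w, mul_inv_rev, show w * w ^ j * x * ((w ^ j)⁻¹ * w⁻¹) = w * (w ^ j * x * (w ^ j)⁻¹) * w⁻¹ by group,
          ih, show w * (x * z ^ j) * w⁻¹ = w * x * w⁻¹ * (w * z ^ j * w⁻¹) by group, e,
          commute_iff_conj.mp ((hzc w).pow_left j).symm, pow_succ', mul_assoc]
    have h3 := e1 3
    rw [show w ^ 3 = 1 from hw ▸ pow_orderOf_eq_one w, one_mul, inv_one, mul_one, eq_comm, mul_eq_left] at h3
    have h2 := h16.hz ▸ orderOf_dvd_of_pow_eq_one h3
    omega

omit hperf in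
theorem Rot.cube_fix {u : H} (hu : Rot z a b u) (k : ℕ) :
    φ (u ^ (3 * k)) (π (a * a)) = π (a * a) ∧ φ (u ^ (3 * k)) (π b) = π b := by
  induction k with
  | zero => simp
  | succ k ih =>
    rw [show 3 * (k + 1) = 3 * k + 1 + 1 + 1 by ring, pow_succ, pow_succ, pow_succ]
    simp only [map_mul φ, MulAut.mul_apply]
    rcases hu.fst with ⟨h1, h2, h3⟩ | ⟨h1, h2, h3⟩
    · simp only [h1, h2, h3, ih, and_self]
    · simp only [h1, h2, h3, ih, and_self]

omit hperf in
theorem Rot.moves {u : H} (hu : Rot z a b u) :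
    φ u (π (a * a)) ≠ π (a * a) ∧ φ u (φ u (π (a * a))) ≠ π (a * a) := by
  obtain ⟨hi2, hb2, hib, hcomm, hi1, hb1⟩ := h16.four hH
  have hc : π (a * a * b) ≠ π (a * a) := fun h => hb1 (mul_eq_left.mp ((map_mul π (a * a) b).symm.trans h))
  rcases hu.fst with ⟨h1, h2, -⟩ | ⟨h1, h2, -⟩
  · exact ⟨h1 ▸ hib.symm, by rw [h1, h2]; exact hc⟩
  · exact ⟨h1 ▸ hc, by rw [h1, h2]; exact hib.symm⟩

omit hperf in
theorem rot_cases {R : Type} [Ring R] [Algebra ℚ R] [Nontrivial R] {ρ : H →* R}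
    (hρ : ∀ h : H, h ≠ 1 → ∀ x : R, ρ h * x = x → x = 0) {u : H} (hu : Rot z a b u) :
    (u ^ 3 = 1 ∧ u ≠ 1 ∧ RotForm (ρ a * ρ a) (ρ b) (ρ u)) ∨
      ∃ w : H, orderOf w = 3 ∧ Commute w (a * a) ∧ Commute w b ∧ Commute w u := by
  obtain ⟨l, hl, hord⟩ := hu.ord
  rcases Nat.eq_or_lt_of_le (show 1 ≤ l from hl) with rfl | hl2
  swap
  · right
    refine ⟨u ^ 3 ^ (l - 1), ?_, ?_, ?_, (Commute.refl u).pow_left _⟩
    · rw [orderOf_pow' _ (pow_ne_zero _ (by norm_num)), hord, Nat.gcd_eq_right (pow_dvd_pow 3 (Nat.sub_le l 1)),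
        Nat.pow_div (Nat.sub_le l 1) (by norm_num), show l - (l - 1) = 1 by omega, pow_one]
    all_goals
      refine commute_of_fix hH h16 ?_ ?_
      · rw [orderOf_pow' _ (pow_ne_zero _ (by norm_num)), hord, Nat.gcd_eq_right (pow_dvd_pow 3 (Nat.sub_le l 1)),
          Nat.pow_div (Nat.sub_le l 1) (by norm_num), show l - (l - 1) = 1 by omega, pow_one]
      · rw [show 3 ^ (l - 1) = 3 * 3 ^ (l - 2) by rw [← pow_succ']; congr 1; omega]
        first
          | exact (hu.cube_fix hH h16 _).1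
          | exact (hu.cube_fix hH h16 _).2
  left
  have hu3 : u ^ 3 = 1 := by rw [← pow_one 3, ← hord, pow_orderOf_eq_one]
  obtain ⟨hm1, hm2⟩ := hu.moves hH h16
  have hu1 : u ≠ 1 := fun h => hm1 (by rw [h, map_one, MulAut.one_apply])
  refine ⟨hu3, hu1, ?_⟩
  obtain ⟨ra, rb, rba⟩ := h16.rel hH hρ
  have hrz := rep_involution ρ hρ h16.hz
  have hi : ρ a * ρ a * (ρ a * ρ a) = -1 := by rw [mul_assoc]; exact ra
  have hbi : ρ b * (ρ a * ρ a) = -(ρ a * ρ a * ρ b) := by
    have ra' : ∀ x : R, ρ a * (ρ a * (ρ a * (ρ a * x))) = -x := fun x => by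
      calc ρ a * (ρ a * (ρ a * (ρ a * x))) = ρ a * (ρ a * (ρ a * ρ a)) * x := by simp only [mul_assoc]
        _ = -x := by rw [ra, neg_one_mul]
    have rba' : ∀ x : R, ρ b * (ρ a * x) = -(ρ a * (ρ a * (ρ a * (ρ b * x)))) := fun x => by
      rw [← mul_assoc, rba, neg_mul]; simp only [mul_assoc]
    simp only [rba', mul_neg, neg_neg, rba, ra', mul_assoc]
  obtain ⟨hi2, hb2, hib, hcomm, hi1, hb1⟩ := h16.four hH
  set j := u * (a * a) * u⁻¹ with hjdef
  set k := u * j * u⁻¹ with hkdef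
  have hjk : (π j = π b ∨ π j = π (a * a * b)) ∧ π k = π (a * a * j) := by
    have ej : π j = φ u (π (a * a)) := (phi_mk u (a * a)).symm
    have ek : π k = φ u (φ u (π (a * a))) := by rw [← ej, phi_mk]
    have eij : π (a * a * j) = π (a * a) * φ u (π (a * a)) := by rw [map_mul, ej]
    rw [ek, eij, ej]
    rcases hu.fst with ⟨h1, h2, -⟩ | ⟨h1, h2, -⟩
    · rw [h1, h2]; exact ⟨Or.inl rfl, map_mul π (a * a) b⟩
    · rw [h1, h2, map_mul π (a * a) b, ← mul_assoc, hi2, one_mul]; exact ⟨Or.inr rfl, rfl⟩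
  have hrj : ρ j = ρ b ∨ ρ j = -ρ b ∨ ρ j = ρ a * ρ a * ρ b ∨ ρ j = -(ρ a * ρ a * ρ b) := by
    rcases hjk.1 with e | e <;> rcases (mk_eq_iff h16.hz).mp e.symm with h | h <;> rw [h] <;>
      simp [map_mul, hrz]
  have hrk : ρ k = ρ a * ρ a * ρ j ∨ ρ k = -(ρ a * ρ a * ρ j) := by
    rcases (mk_eq_iff h16.hz).mp hjk.2.symm with h | h <;> rw [h] <;> simp [map_mul, hrz]
  have hsix : ∀ v : H, φ v (π (a * a)) ≠ π (a * a) →
      ρ v * (ρ a * ρ a) * (ρ v * (ρ a * ρ a) * (ρ v * (ρ a * ρ a))) = -1 →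
      ρ v * (ρ a * ρ a) * (ρ v * (ρ a * ρ a)) - ρ v * (ρ a * ρ a) + 1 = 0 := by
    intro v hv h
    rw [← map_mul ρ a a, ← map_mul ρ v (a * a)] at h ⊢
    refine rep_cube ρ hρ h16.hz (involution_central hH h16.hz _) (fun e => hv ?_) h
    have hv' : π v = π (a * a) := by
      have e1 : π (v * (a * a)) = 1 := by rw [e]; exact (QuotientGroup.eq_one_iff z).mpr (Subgroup.mem_zpowers z)
      rw [map_mul] at e1
      exact (eq_inv_of_mul_eq_one_left e1).trans (inv_eq_of_mul_eq_one_right hi2)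
    rw [MonoidHom.comp_apply, hv', MulAut.conj_apply, mul_inv_cancel_right]
  refine rotForm_of_rot (j := ρ j) (k := ρ k) hi rb hbi (rep_three ρ hρ hu1 hu3) (hsix u hm1) ?_ hrj ?_ ?_ hrk
  · intro h
    have := hsix (u * u) (by rw [map_mul φ, MulAut.mul_apply]; exact hm2) (by rw [map_mul ρ u u]; exact h)
    rwa [map_mul ρ u u] at this
  · rw [← map_mul ρ a a, ← map_mul, ← map_mul, hjdef, inv_mul_cancel_right]
  · rw [← map_mul, ← map_mul, hkdef, inv_mul_cancel_right]

theorem no_centralized {u w : H} (hu : Rot z a b u) (hw : orderOf w = 3) (hwa : Commute w a)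
    (hwu : Commute w u) : False := by
  haveI := Fact.mk Nat.prime_three
  have hOG := oddGood hH hperf
  set M := Subgroup.centralizer ({w} : Set H)
  have hmem : ∀ x, Commute w x → x ∈ M := fun x hx => Subgroup.mem_centralizer_singleton_iff.mpr hx.symm
  set w' : M := ⟨w, hmem w (Commute.refl w)⟩
  obtain ⟨P, hP⟩ := (IsPGroup.of_card (n := 1) (by rw [Nat.card_zpowers, Subgroup.orderOf_mk, hw, pow_one]) :
    IsPGroup 3 (Subgroup.zpowers w')).exists_le_sylow
  haveI : IsCyclic (P : Subgroup M) := by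
    obtain ⟨P', hP'⟩ := (P.2.map M.subtype).exists_le_sylow
    haveI := hOG.cyc 3 (by norm_num) P'
    have : IsCyclic ((P : Subgroup M).map M.subtype) :=
      (Subgroup.subgroupOfEquivOfLe hP').isCyclic.mp inferInstance
    exact (Subgroup.equivMapOfInjective _ _ M.subtype_injective).isCyclic.mpr this
  obtain ⟨K, hKn, hKi, hK3, -⟩ := exists_complement P (w := w') (hP (Subgroup.mem_zpowers w'))
    (by rw [Subgroup.orderOf_mk, hw]) (fun g _ => Subtype.ext (Subgroup.mem_centralizer_singleton_iff.mp g.2))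
  obtain ⟨k, hk⟩ := P.2.exists_card_eq
  set a' : M := ⟨a, hmem a hwa⟩
  set u' : M := ⟨u, hmem u hwu⟩
  have ha'K : a' ∈ K := mem_of_coprime_index (by
    rw [hKi, hk, Subgroup.orderOf_mk, h16.ha]; exact Nat.Coprime.pow_right k (by norm_num))
  have hX : a' * (u' * a' * u'⁻¹) ∈ K := mul_mem ha'K (hKn.conj_mem _ ha'K _)
  set X := a * (u * a * u⁻¹) with hXdef
  have hX3 : ¬ 3 ∣ orderOf X := by
    intro h
    refine hK3 (h.trans ?_)
    have := Subgroup.orderOf_mk (a' * (u' * a' * u'⁻¹)) hX ▸ orderOf_dvd_natCard (⟨_, hX⟩ : K)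
    rwa [← Subgroup.orderOf_coe] at this
  obtain ⟨hi2, hb2, hib, hcomm, hi1, hb1⟩ := h16.four hH
  obtain ⟨hai, hab, hac⟩ := h16.phi_a hH
  have hc : π (a * a * b) ≠ π (a * a) := fun h => hb1 (mul_eq_left.mp ((map_mul π (a * a) b).symm.trans h))
  have hinv : ∀ p q : H ⧸ Subgroup.zpowers z, φ u p = q → φ u⁻¹ q = p := fun p q h => by
    rw [← h, ← MulAut.mul_apply, ← map_mul, inv_mul_cancel, map_one, MulAut.one_apply]
  -- `X` acts as a 3-cycle
  obtain ⟨j, hj1, hj2⟩ : ∃ j, φ X (π (a * a)) = j ∧ j ≠ π (a * a) := ⟨_, rfl, by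
    rw [hXdef, map_mul φ a, map_mul φ _ u⁻¹, map_mul φ u a, MulAut.mul_apply, MulAut.mul_apply, MulAut.mul_apply]
    rcases hu.fst with ⟨h1, h2, h3⟩ | ⟨h1, h2, h3⟩
    · rw [hinv _ _ h3, hac, h2, hac]; exact hib.symm
    · rw [hinv _ _ h3, hab, h2, hab]; exact hc⟩
  have hX3fix : φ (X ^ 3) (π (a * a)) = π (a * a) := by
    rw [pow_succ, pow_two, hXdef]
    simp only [map_mul φ, MulAut.mul_apply]
    rcases hu.fst with ⟨h1, h2, h3⟩ | ⟨h1, h2, h3⟩
    · simp only [hinv _ _ h1, hinv _ _ h2, hinv _ _ h3, h1, h2, h3, hai, hab, hac]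
    · simp only [hinv _ _ h1, hinv _ _ h2, hinv _ _ h3, h1, h2, h3, hai, hab, hac]
  refine hj2 (hj1.symm.trans ?_)
  have hfix : ∀ h : H, φ h (π (a * a)) = π (a * a) ↔ Commute (π h) (π (a * a)) := fun h => by
    rw [commute_iff_conj]; rfl
  rw [hfix] at hX3fix ⊢
  have hg : Nat.gcd 3 (orderOf X) = 1 := (Nat.prime_three.coprime_iff_not_dvd.mpr hX3)
  have hb := Nat.gcd_eq_gcd_ab 3 (orderOf X)
  rw [hg, Nat.cast_one] at hb
  rw [map_pow] at hX3fix
  have : π X = (π X ^ 3) ^ (Nat.gcdA 3 (orderOf X)) := by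
    conv_lhs => rw [← zpow_one (π X), hb, zpow_add, zpow_mul, zpow_mul, zpow_natCast, zpow_natCast,
      ← map_pow π X (orderOf X), pow_orderOf_eq_one, map_one, one_zpow, mul_one]
  rw [this]
  exact hX3fix.zpow_left _

theorem inverted_of_centralizes {u w : H} (hu : Rot z a b u) (hw : orderOf w = 3) (hwi : Commute w (a * a))
    (hwu : Commute w u) : a * w * a⁻¹ = w⁻¹ := by
  have hwi' : Commute (a * w * a⁻¹) (a * a) := by
    have := commute_conj (g := a) hwi
    rwa [show a * (a * a) * a⁻¹ = a * a by group] at this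
  have h := centralizer_order_four_core hH hperf h16 hw
    (w := a * w * a⁻¹) (by rw [← MulAut.conj_apply, MulEquiv.orderOf_eq]; exact hw) hwi hwi'
  obtain ⟨e, he⟩ := exists_conj_eq_pow (h.le (Subgroup.mem_zpowers _))
  have h3 : w ^ 3 = 1 := hw ▸ pow_orderOf_eq_one w
  rw [← Nat.mod_add_div e 3, pow_add, pow_mul, h3, one_pow, mul_one] at he
  rcases (show e % 3 = 0 ∨ e % 3 = 1 ∨ e % 3 = 2 by omega) with h' | h' | h' <;> rw [h'] at he
  · rw [pow_zero, mul_inv_eq_one, mul_eq_left] at he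
    rw [he, orderOf_one] at hw; omega
  · rw [pow_one] at he
    exact (no_centralized hH hperf h16 hu hw (commute_iff_conj.mpr he).symm hwu).elim
  · rw [he, eq_inv_iff_mul_eq_one, ← pow_succ, h3]

omit hH h16 hperf in
theorem rot_rename {R : Type} [Ring R] [Algebra ℚ R] {x y u : R} (hx : ∀ t : R, x * (x * t) = -t)
    (h : RotForm x y u) : RotForm x (x * y) u := by
  obtain ⟨α, β, γ, hα, hβ, hγ, e⟩ := h
  refine ⟨α, γ, -β, hα, hγ, by rcases hβ with rfl | rfl <;> norm_num, ?_⟩
  rw [e, hx]; module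

theorem false_of_q16 : False := by
  have hfl := h16.flip hH
  obtain ⟨u₁, hu₁⟩ := h16.exists_rot hH
  obtain ⟨u₂, hu₂⟩ := hfl.exists_rot hH
  haveI : Nontrivial H := ⟨⟨z, 1, fun h => by have := h16.hz; rw [h, orderOf_one] at this; omega⟩⟩
  obtain ⟨R, _, _, _, ρ, hρ⟩ := exists_rep hH
  obtain ⟨ra, rb, rba⟩ := h16.rel hH hρ
  obtain ⟨-, rb', rba'⟩ := hfl.rel hH hρ
  have c1 := rot_cases hH h16 hρ hu₁
  have c2 := rot_cases hH hfl hρ hu₂
  rw [map_mul ρ a b] at c2 rb' rba'
  have horb : ∀ g : H, 0 < orderOf g ∧ ρ g ^ orderOf g = 1 :=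
    fun g => ⟨orderOf_pos g, by rw [← map_pow, pow_orderOf_eq_one, map_one]⟩
  have hw3 : ∀ w : H, orderOf w = 3 → w ≠ 1 ∧ w ^ 3 = 1 := fun w hw =>
    ⟨fun h => by rw [h, orderOf_one] at hw; omega, hw ▸ pow_orderOf_eq_one w⟩
  have haw : ∀ w : H, orderOf w = 3 → a * w * a⁻¹ = w⁻¹ → ρ a * ρ w = ρ w * ρ w * ρ a := fun w hw h => by
    rw [← map_mul, ← map_mul, ← map_mul]
    congr 1
    rw [mul_inv_eq_iff_eq_mul.mp h, show w⁻¹ = w * w from inv_eq_of_mul_eq_one_right (by
      rw [← (hw3 w hw).2, pow_succ', pow_two])]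
  rcases c1 with ⟨h13, h11, f1⟩ | ⟨w, hw, hwi, hwb, hwu⟩ <;>
    rcases c2 with ⟨h23, h21, f2⟩ | ⟨v, hv, hvi, hvb, hvu⟩
  · exact no_two_rotations ra rb rba (rep_three ρ hρ h11 h13) (rep_three ρ hρ h21 h23) f1 f2
      (horb (u₁ * u₂)).1 (map_mul ρ u₁ u₂ ▸ (horb (u₁ * u₂)).2)
  · have hinv := inverted_of_centralizes hH hperf hfl hu₂ hv hvi hvu
    have hbv : ρ (a * b) * ρ v = ρ v * ρ (a * b) := by rw [← map_mul, ← map_mul, hvb.eq]
    rw [map_mul ρ a b] at hbv
    refine no_inverted ra rb' rba' (rep_three ρ hρ (hw3 v hv).1 (hw3 v hv).2) (rep_three ρ hρ h11 h13)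
      hbv (haw v hv hinv) ?_ (horb (v * u₁)).1 (map_mul ρ v u₁ ▸ (horb (v * u₁)).2)
    have hx : ∀ t : R, ρ a * ρ a * (ρ a * ρ a * t) = -t := fun t => by
      calc ρ a * ρ a * (ρ a * ρ a * t) = ρ a * (ρ a * (ρ a * ρ a)) * t := by simp only [mul_assoc]
        _ = -t := by rw [ra, neg_one_mul]
    have h := rot_rename hx f1
    rwa [mul_assoc (ρ a) (ρ a) (ρ b)] at h
  · have hinv := inverted_of_centralizes hH hperf h16 hu₁ hw hwi hwu
    exact no_inverted ra rb rba (rep_three ρ hρ (hw3 w hw).1 (hw3 w hw).2) (rep_three ρ hρ h21 h23)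
      (by rw [← map_mul, ← map_mul, hwb.eq]) (haw w hw hinv) f2 (horb (w * u₂)).1
      (map_mul ρ w u₂ ▸ (horb (w * u₂)).2)
  · have h := centralizer_order_four_core hH hperf h16 hv hw hvi hwi
    have hvb' : Commute v b := (commute_of_zpowers h (hwb.symm)).symm
    have hva : Commute v a := by
      have := hvb.mul_right hvb'.inv_right
      rwa [mul_inv_cancel_right] at this
    exact no_centralized hH hperf hfl hu₂ hv hva hvu

end

end CfsgLib.PerfectCompl
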