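import Cfsg.Agent.Lib.PerfectCompl.Nonsolvable

/-!
# Metacyclic groups: presentation, and the fixed point free condition
-/

set_option autoImplicit false
set_option linter.style.haveILetI false
set_option linter.unusedSectionVars false

namespace CfsgLib.PerfectCompl

open CfsgLib.FrobCompl

universe u

/-- The relators of a metacyclic presentation. -/
abbrev metaRels (n m r : ℕ) : Set (FreeGroup (Fin 2)) :=
  {FreeGroup.of (0 : Fin 2) ^ n, FreeGroup.of (1 : Fin 2) ^ m,
    (FreeGroup.of (0 : Fin 2))⁻¹ * FreeGroup.of 1 * FreeGroup.of 0 * (FreeGroup.of (1 : Fin 2) ^ r)⁻¹}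

theorem conj_pow_right {G : Type*} [Group G] {x y : G} {r : ℕ} (hr : x⁻¹ * y * x = y ^ r) :
    ∀ j : ℕ, (x ^ j)⁻¹ * y * x ^ j = y ^ r ^ j := by
  intro j
  induction j with
  | zero => simp
  | succ j ih =>
    have : x⁻¹ * y ^ (r ^ j) * x = (x⁻¹ * y * x) ^ (r ^ j) := by
      simpa using (MulAut.conj x⁻¹).toMonoidHom.map_pow y (r ^ j)
    calc (x ^ (j + 1))⁻¹ * y * x ^ (j + 1) = x⁻¹ * ((x ^ j)⁻¹ * y * x ^ j) * x := by
          rw [pow_succ]; group
      _ = y ^ (r ^ (j + 1)) := by rw [ih, this, hr, ← pow_mul, pow_succ, mul_comm]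

theorem metacyclic_iso {G : Type u} [Group G] [Finite G] {x y : G} {n m r : ℕ}
    (hgen : Subgroup.closure {x, y} = ⊤) (hx : orderOf x = n) (hy : orderOf y = m) (hco : n.Coprime m)
    (hr : x⁻¹ * y * x = y ^ r) : Nonempty (G ≃* PresentedGroup (metaRels n m r)) := by
  classical
  have hn : 0 < n := hx ▸ orderOf_pos x
  have hm : 0 < m := hy ▸ orderOf_pos y
  set P := PresentedGroup (metaRels n m r)
  let a : P := PresentedGroup.of 0
  let b : P := PresentedGroup.of 1
  have han : a ^ n = 1 := by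
    have := PresentedGroup.one_of_mem (rels := metaRels n m r) (show FreeGroup.of (0 : Fin 2) ^ n ∈ _ from Or.inl rfl)
    rwa [map_pow] at this
  have hbm : b ^ m = 1 := by
    have := PresentedGroup.one_of_mem (rels := metaRels n m r)
      (show FreeGroup.of (1 : Fin 2) ^ m ∈ _ from Or.inr (Or.inl rfl))
    rwa [map_pow] at this
  have hab : a⁻¹ * b * a = b ^ r := by
    have := PresentedGroup.one_of_mem (rels := metaRels n m r) (show (FreeGroup.of (0 : Fin 2))⁻¹ *
      FreeGroup.of 1 * FreeGroup.of 0 * (FreeGroup.of (1 : Fin 2) ^ r)⁻¹ ∈ _ from Or.inr (Or.inr rfl))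
    rw [map_mul, map_mul, map_mul, map_inv, map_inv, map_pow, mul_inv_eq_one] at this
    exact this
  let g : Fin n × Fin m → P := fun p => a ^ (p.1 : ℕ) * b ^ (p.2 : ℕ)
  have hmem : ∀ i j : ℕ, a ^ i * b ^ j ∈ Set.range g := fun i j =>
    ⟨(⟨i % n, Nat.mod_lt _ hn⟩, ⟨j % m, Nat.mod_lt _ hm⟩), by
      show a ^ (i % n) * b ^ (j % m) = _
      rw [← pow_eq_pow_mod i han, ← pow_eq_pow_mod j hbm]⟩
  have hleft : ∀ s ∈ ({a, b} : Set P), ∀ p ∈ Set.range g, s * p ∈ Set.range g := by
    rintro s (rfl | rfl) _ ⟨⟨i, j⟩, rfl⟩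
    · rw [← mul_assoc, ← pow_succ']; exact hmem _ _
    · have h := conj_pow_right hab i
      have : b * a ^ (i : ℕ) = a ^ (i : ℕ) * b ^ r ^ (i : ℕ) := by rw [← h]; group
      show b * (a ^ (i : ℕ) * b ^ (j : ℕ)) ∈ _
      rw [← mul_assoc, this, mul_assoc, ← pow_add]
      exact hmem _ _
  have hsub : Submonoid.closure ({a, b} : Set P) = ⊤ := by
    have h1 : Subgroup.closure ({a, b} : Set P) = ⊤ := by
      rw [eq_top_iff, ← PresentedGroup.closure_range_of (metaRels n m r)]
      refine Subgroup.closure_mono ?_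
      rintro _ ⟨i, rfl⟩
      fin_cases i
      · exact Or.inl rfl
      · exact Or.inr rfl
    have hinv : ({a, b} : Set P)⁻¹ ⊆ Submonoid.closure ({a, b} : Set P) := by
      intro s hs
      rcases hs with h | h
      · rw [inv_eq_iff_eq_inv] at h
        rw [h, show a⁻¹ = a ^ (n - 1) from inv_eq_of_mul_eq_one_right (by rw [← pow_succ', Nat.sub_add_cancel hn, han])]
        exact pow_mem (Submonoid.subset_closure (show a ∈ ({a, b} : Set P) from Or.inl rfl)) _
      · rw [Set.mem_singleton_iff, inv_eq_iff_eq_inv] at h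
        rw [h, show b⁻¹ = b ^ (m - 1) from inv_eq_of_mul_eq_one_right (by rw [← pow_succ', Nat.sub_add_cancel hm, hbm])]
        exact pow_mem (Submonoid.subset_closure (show b ∈ ({a, b} : Set P) from Or.inr rfl)) _
    apply_fun Subgroup.toSubmonoid at h1
    rw [Subgroup.closure_toSubmonoid, Subgroup.top_toSubmonoid, Submonoid.closure_union,
      sup_eq_left.mpr (Submonoid.closure_le.mpr hinv)] at h1
    exact h1
  have hgs : Function.Surjective g := fun p => by
    have hp : p ∈ Submonoid.closure ({a, b} : Set P) := hsub ▸ Submonoid.mem_top p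
    have key : ∀ q ∈ Set.range g, p * q ∈ Set.range g := by
      induction hp using Submonoid.closure_induction with
      | mem s hs => exact hleft s hs
      | one => intro q hq; rwa [one_mul]
      | mul u v _ _ hu hv => intro q hq; rw [mul_assoc]; exact hu _ (hv q hq)
    have := key 1 (by simpa using hmem 0 0)
    rwa [mul_one] at this
  haveI : Finite P := Finite.of_surjective g hgs
  have hle : Nat.card P ≤ n * m := by
    have := Nat.card_le_card_of_surjective g hgs
    rwa [Nat.card_prod, Nat.card_fin, Nat.card_fin] at this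
  have himg : ∀ s ∈ metaRels n m r, FreeGroup.lift ![x, y] s = 1 := by
    rintro s (rfl | rfl | rfl)
    · rw [map_pow, FreeGroup.lift_apply_of]; exact hx ▸ pow_orderOf_eq_one x
    · rw [map_pow, FreeGroup.lift_apply_of]; exact hy ▸ pow_orderOf_eq_one y
    · simp only [map_mul, map_inv, map_pow, FreeGroup.lift_apply_of]
      exact mul_inv_eq_one.mpr hr
  let φ := PresentedGroup.toGroup himg
  have hφ : Function.Surjective φ := by
    rw [← MonoidHom.range_eq_top, eq_top_iff, ← hgen, Subgroup.closure_le]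
    rintro s (rfl | rfl)
    · exact ⟨PresentedGroup.of 0, PresentedGroup.toGroup.of himg⟩
    · exact ⟨PresentedGroup.of 1, PresentedGroup.toGroup.of himg⟩
  have hge : n * m ≤ Nat.card G := Nat.le_of_dvd Nat.card_pos
    (Nat.Coprime.mul_dvd_of_dvd_of_dvd hco (hx ▸ orderOf_dvd_natCard x) (hy ▸ orderOf_dvd_natCard y))
  have hbij : Function.Bijective φ := (Nat.bijective_iff_surjective_and_card φ).mpr
    ⟨hφ, le_antisymm (hle.trans hge) (Nat.card_le_card_of_surjective φ hφ)⟩
  exact ⟨(MulEquiv.ofBijective φ hbij).symm⟩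

variable {G : Type u} [Group G] [Finite G] (hG : HasFpf G)
include hG

theorem commute_of_normalizes {p q : ℕ} (hp : p.Prime) (hq : q.Prime) {x y : G} (hx : orderOf x = p)
    (hy : orderOf y = q) (hn : x * y * x⁻¹ ∈ Subgroup.zpowers y) : Commute x y := by
  haveI : Nontrivial G := ⟨⟨x, 1, fun h => hp.one_lt.ne (by rw [← hx, h, orderOf_one])⟩⟩
  obtain ⟨L, _, _, A, V, _, f, hf, hfA, hV, hAV, hfpf⟩ := ambient hG
  have hN : f x ∈ Subgroup.normalizer ((Subgroup.zpowers (f y) : Subgroup L) : Set L) := by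
    refine Subgroup.mem_normalizer_fintype fun w hw => ?_
    obtain ⟨j, rfl⟩ := Subgroup.mem_zpowers_iff.mp hw
    rw [← conj_zpow, ← map_inv, ← map_mul, ← map_mul]
    refine Subgroup.zpow_mem _ ?_ j
    obtain ⟨i, hi⟩ := hn
    exact ⟨i, (map_zpow f y i).symm.trans (congrArg f hi)⟩
  have h := (mem_zpowers_or_commute hp hq hV hAV hfpf (hfA ▸ ⟨x, rfl⟩) (hfA ▸ ⟨y, rfl⟩)
    ((orderOf_injective f hf x).trans hx) ((orderOf_injective f hf y).trans hy) hN).2
  exact hf (by rw [map_mul, map_mul]; exact h)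

/-- An element of prime order normalizing a cyclic group of coprime order centralizes it. -/
theorem commute_of_prime {p : ℕ} (hp : p.Prime) {u y : G} (hu : orderOf u = p) (hco : ¬ p ∣ orderOf y)
    {s : ℕ} (hs1 : 1 ≤ s) (hs : u * y * u⁻¹ = y ^ s) : Commute u y := by
  set m := orderOf y with hm
  have hm0 : 0 < m := orderOf_pos y
  have hsq : ∀ q, q.Prime → q ∣ m → (s : ZMod q) = 1 := by
    intro q hq hqm
    have hw : orderOf (y ^ (m / q)) = q := orderOf_pow_orderOf_div hm0.ne' hqm
    have hcw : u * y ^ (m / q) * u⁻¹ = (y ^ (m / q)) ^ s := by rw [← conj_pow, hs, ← pow_mul, ← pow_mul, mul_comm]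
    have hc := commute_iff_conj.mp (commute_of_normalizes hG hp hq hu hw (hcw ▸ Subgroup.pow_mem _ (Subgroup.mem_zpowers _) s))
    rw [hcw] at hc
    have h := pow_eq_pow_iff_modEq.mp (hc.trans (pow_one _).symm)
    rw [hw, ← ZMod.natCast_eq_natCast_iff] at h
    simpa using h
  have hsp : y ^ s ^ p = y := by
    rw [← conj_pow_iterate hs p, show u ^ p = 1 from hu ▸ pow_orderOf_eq_one u]; simp
  have h1 : m ∣ s ^ p - 1 :=
    (Nat.modEq_iff_dvd' (Nat.one_le_pow _ _ hs1)).mp (pow_eq_pow_iff_modEq.mp ((pow_one y).trans hsp.symm))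
  rw [← geom_sum_mul_of_one_le hs1 p] at h1
  have hS : Nat.Coprime m (∑ i ∈ Finset.range p, s ^ i) := by
    refine Nat.coprime_of_dvd fun q hq hqm hqS => ?_
    have h := (ZMod.natCast_eq_zero_iff _ _).mpr hqS
    rw [Nat.cast_sum] at h
    simp only [Nat.cast_pow, hsq q hq hqm, one_pow, Finset.sum_const, Finset.card_range, nsmul_eq_mul, mul_one] at h
    rw [ZMod.natCast_eq_zero_iff] at h
    exact hco ((Nat.prime_dvd_prime_iff_eq hq hp).mp h ▸ hqm)
  have h2 : m ∣ s - 1 := hS.dvd_of_dvd_mul_left h1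
  refine commute_iff_conj.mpr ?_
  rw [hs, ← pow_one y, ← pow_mul, one_mul]
  exact pow_eq_pow_iff_modEq.mpr ((Nat.modEq_iff_dvd' hs1).mpr h2).symm

/-- The condition on the parameters of a metacyclic group acting fixed point freely. -/
theorem fpf_pow_condition {x y : G} {n m r : ℕ} (hx : orderOf x = n) (hy : orderOf y = m)
    (hco : n.Coprime m) (hr1 : 1 ≤ r) (hr : x⁻¹ * y * x = y ^ r) :
    r ^ (n / ∏ p ∈ n.primeFactors, p) % m = 1 % m := by
  subst hx hy
  have hn : 0 < orderOf x := orderOf_pos x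
  set n := orderOf x with hn'
  set R := ∏ p ∈ n.primeFactors, p with hR
  have hp : ∀ p ∈ n.primeFactors, Commute (x ^ (n / p)) y := by
    intro p hp
    obtain ⟨hpp, hpn, -⟩ := Nat.mem_primeFactors.mp hp
    have hj : (x ^ (n - n / p))⁻¹ = x ^ (n / p) := inv_eq_of_mul_eq_one_right (by
      rw [← pow_add, Nat.sub_add_cancel (Nat.div_le_self _ _), pow_orderOf_eq_one])
    refine commute_of_prime hG hpp (orderOf_pow_orderOf_div hn.ne' hpn)
      (fun h => hpp.ne_one (Nat.eq_one_of_dvd_coprimes hco hpn h)) (Nat.one_le_pow (n - n / p) r hr1) ?_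
    rw [← conj_pow_right hr (n - n / p), hj]
    congr 1
    rw [← hj, inv_inv]
  set d := MulAction.period (ConjAct.toConjAct x) y
  have hiff : ∀ i : ℕ, Commute (x ^ i) y ↔ d ∣ i := by
    intro i
    rw [commute_iff_conj, ← MulAction.pow_smul_eq_iff_period_dvd, ← map_pow, ConjAct.toConjAct_smul]
  obtain ⟨e, he⟩ : d ∣ n := (hiff n).mp (by rw [pow_orderOf_eq_one]; exact Commute.one_left y)
  have hd0 : 0 < d := Nat.pos_of_ne_zero fun h => hn.ne' (by rw [he, h, zero_mul])
  have hRe : R ∣ e := by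
    refine Finset.prod_primes_dvd _ (fun p hp => (Nat.mem_primeFactors.mp hp).1.prime) fun p hp' => ?_
    obtain ⟨hpp, hpn, -⟩ := Nat.mem_primeFactors.mp hp'
    obtain ⟨c, hc⟩ := (hiff _).mp (hp p hp')
    refine Dvd.intro c (Nat.eq_of_mul_eq_mul_left hd0 ?_)
    rw [← he, mul_left_comm, ← hc, Nat.mul_div_cancel' hpn]
  have hdk : d ∣ n / R := by
    obtain ⟨c, hc⟩ := hRe
    have hR0 : 0 < R := Finset.prod_pos fun p hp => (Nat.mem_primeFactors.mp hp).1.pos
    rw [he, hc, show d * (R * c) = d * c * R by ring, Nat.mul_div_cancel _ hR0]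
    exact dvd_mul_right _ _
  have hc := (hiff _).mpr hdk
  have h := conj_pow_right hr (n / R)
  rw [mul_assoc, ← hc.eq, inv_mul_cancel_left] at h
  exact pow_eq_pow_iff_modEq.mp (h.symm.trans (pow_one y).symm)

end CfsgLib.PerfectCompl
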